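import Groth.Agent.H8Norm.CurveValuation
import Groth.Agent.H7Lim.Birational
import Groth.Agent.H17.Image
import Groth.Agent.H17.Reduced
import Groth.Agent.H17.SchDense
import Mathlib.AlgebraicGeometry.ZariskisMainTheorem

/-!
# Modifications of normal relative curves over valuation rings are isomorphisms at the generic points of
# the fibres, and off a finite set
-/

set_option autoImplicit false
set_option linter.style.haveILetI false
set_option backward.isDefEq.respectTransparency false

universe u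

open CategoryTheory CategoryTheory.Limits AlgebraicGeometry TopologicalSpace Topology Opposite IsLocalRing

namespace Groth.Agent.H8Norm.CurveModificationIso

/-- A scheme with a reduced schematically dense open is reduced and that open is dense. -/
theorem isReduced_and_dense {X : Scheme.{u}} (U : X.Opens) [IsReduced (↑U : Scheme.{u})]
    [IsSchemeTheoreticallyDominant U.ι] : IsReduced X ∧ Dense (U : Set X) := by
  have hk := U.ι.ker_eq_bot
  rw [H17.ker_eq_vanishingIdeal] at hk
  have hN : X.nilradical = ⊥ := by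
    rw [← Scheme.IdealSheafData.vanishingIdeal_top]
    exact le_bot_iff.mp (le_of_le_of_eq (Scheme.IdealSheafData.gc.monotone_u (le_top : _ ≤ (⊤ : Closeds X))) hk)
  constructor
  · have h2 : IsReduced (⊥ : X.IdealSheafData).subscheme := by
      rw [H17.isReduced_subscheme_iff]
      intro V
      rw [← hN]
      exact Ideal.radical_isRadical _
    exact isReduced_of_isOpenImmersion (inv (⊥ : X.IdealSheafData).subschemeι)
  · have h3 := congrArg (fun I : X.IdealSheafData => (I.support : Set X)) hk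
    simp only [Scheme.IdealSheafData.coe_support_vanishingIdeal, Scheme.IdealSheafData.support_bot,
      Closeds.coe_mk, Closeds.coe_top, Scheme.Opens.range_ι] at h3
    exact dense_iff_closure_eq.mpr h3

/-- A local homomorphism from a valuation ring which is bijective on fraction fields is bijective. -/
theorem bijective_of_isLocalHom {B B₁ L : Type u} [CommRing B] [IsDomain B] [ValuationRing B] [CommRing B₁]
    [IsDomain B₁] [Field L] [Algebra B L] [IsFractionRing B L] [Algebra B₁ L] [IsFractionRing B₁ L]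
    (ψ : B →+* B₁) [IsLocalHom ψ] (h : ∀ b, algebraMap B₁ L (ψ b) = algebraMap B L b) :
    Function.Bijective ψ := by
  refine ⟨fun a b hab => IsFractionRing.injective B L (by rw [← h, ← h, hab]), fun z => ?_⟩
  obtain ⟨a, c, hc, he⟩ := IsFractionRing.div_surjective B (algebraMap B₁ L z)
  have hc0 : c ≠ 0 := nonZeroDivisors.ne_zero hc
  have hcL : algebraMap B L c ≠ 0 := fun h0 => hc0 ((map_eq_zero_iff _ (IsFractionRing.injective B L)).1 h0)
  have hz : ψ a = z * ψ c := IsFractionRing.injective B₁ L (by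
    rw [map_mul, h, h, ← he, div_mul_cancel₀ _ hcL])
  have hψc : ψ c ≠ 0 := fun h0 => hcL (by rw [← h, h0, map_zero])
  rcases ValuationRing.dvd_total c a with ⟨d, rfl⟩ | ⟨d, rfl⟩
  · exact ⟨d, mul_right_cancel₀ hψc (by rw [mul_comm, ← map_mul, hz])⟩
  · have hu : IsUnit (ψ d) := by
      refine IsUnit.of_mul_eq_one z (mul_left_cancel₀ (fun h0 => hψc (by rw [map_mul, h0, zero_mul]) : ψ a ≠ 0) ?_)
      rw [mul_one, ← mul_assoc, ← map_mul, mul_comm _ z, ← hz]
    obtain ⟨v, hv⟩ := isUnit_of_map_unit ψ d hu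
    refine ⟨↑v⁻¹, ?_⟩
    refine mul_right_cancel₀ hψc ?_
    rw [← hz, ← map_mul, mul_comm a d, ← mul_assoc, ← hv, Units.inv_mul, one_mul]

variable {R : Type u} [CommRing R] [IsDomain R] [ValuationRing R] {C C' : Scheme.{u}}
  (φ : C ⟶ Spec (CommRingCat.of R)) [Flat φ] [LocallyOfFiniteType φ] [QuasiCompact φ]

include φ in
/-- A connected normal flat family over a valuation ring is integral. -/
theorem isIntegral_of_connected [ConnectedSpace C] (hN : Pi1.IsNormalScheme C) : IsIntegral C := by
  haveI := H17.NormalNormalization.isReduced_of_normal hN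
  let K := FractionRing R
  let γ := Spec.map (CommRingCat.ofHom (algebraMap R K))
  haveI : IsPreimmersion γ := IsPreimmersion.of_isLocalization (R := R) (S := K) (nonZeroDivisors R)
  haveI : IsNoetherianRing (CommRingCat.of K) := inferInstanceAs (IsNoetherianRing K)
  haveI : IsLocallyNoetherian (pullback φ γ) := LocallyOfFiniteType.isLocallyNoetherian (pullback.snd φ γ)
  haveI : CompactSpace ↥(pullback φ γ) := QuasiCompact.compactSpace_of_compactSpace (pullback.snd φ γ)
  haveI : AlgebraicGeometry.IsNoetherian (pullback φ γ) := {}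
  let ι := pullback.fst φ γ
  have hsub : genericPoints C ⊆ ι '' genericPoints ↥(pullback φ γ) := by
    intro g hg
    have hb : φ g = ((⟨⊥, Ideal.isPrime_bot⟩ : PrimeSpectrum R) : Spec (CommRingCat.of R)) :=
      (H17.mem_genericPoints_iff.1 (H8Props.flat_map_genericPoints φ hg) _
        ((PrimeSpectrum.le_iff_specializes _ _).1 bot_le)).symm
    obtain ⟨w, rfl⟩ : g ∈ Set.range ι := by
      rw [Scheme.Pullback.range_fst]
      refine ⟨(⟨⊥, Ideal.isPrime_bot⟩ : PrimeSpectrum K), ?_⟩
      rw [hb]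
      refine PrimeSpectrum.ext ?_
      show Ideal.comap (algebraMap R K) ⊥ = ⊥
      rw [← RingHom.ker_eq_comap_bot, ← RingHom.injective_iff_ker_eq_bot]
      exact IsFractionRing.injective R K
    exact ⟨w, H17.mem_genericPoints_iff.2 fun z hz => ι.isEmbedding.injective
      (H17.mem_genericPoints_iff.1 hg _ (hz.map ι.continuous)), rfl⟩
  have hfinK : Finite (genericPoints ↥(pullback φ γ)) := by
    haveI : Finite ↥(irreducibleComponents ↥(pullback φ γ)) :=
      (NoetherianSpace.finite_irreducibleComponents).to_subtype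
    exact Finite.of_equiv _ (genericPoints.equiv (α := ↥(pullback φ γ))).symm
  haveI : Finite (genericPoints ↥C) :=
    ((Set.toFinite (genericPoints ↥(pullback φ γ))).image ι).subset hsub
  haveI : Finite ↥(irreducibleComponents ↥C) := Finite.of_equiv _ (genericPoints.equiv (α := ↥C))
  obtain ⟨y₀⟩ := ‹ConnectedSpace C›.toNonempty
  obtain ⟨g, hg, -⟩ := H17.exists_genericPoint_specializes y₀
  have hu : closure ({g} : Set C) = Set.univ :=
    IsClopen.eq_univ ⟨isClosed_closure,
      H17.NormalNormalization.isOpen_component hN (locallyFinite_of_finite _) hg⟩ ⟨g, subset_closure rfl⟩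
  haveI : IrreducibleSpace C := by
    rw [irreducibleSpace_def, Set.top_eq_univ, ← hu]
    exact isIrreducible_singleton.closure
  exact isIntegral_of_irreducibleSpace_of_isReduced C

variable (f : C' ⟶ C) [IsProper f] (U : C.Opens)

/-- A morphism which is an isomorphism over `U` is injective on morphisms landing over `U`. -/
theorem eq_of_landing [IsIso (f ∣_ U)] {T : Scheme.{u}} (s₁ s₂ : T ⟶ C') (h : s₁ ≫ f = s₂ ≫ f)
    (hr : Set.range (s₁ ≫ f) ⊆ (U : Set C)) : s₁ = s₂ := by
  have h₁ : Set.range s₁ ⊆ Set.range (f ⁻¹ᵁ U).ι := by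
    rintro _ ⟨p, rfl⟩; rw [Scheme.Opens.range_ι]; exact hr ⟨p, rfl⟩
  have h₂ : Set.range s₂ ⊆ Set.range (f ⁻¹ᵁ U).ι := by
    rintro _ ⟨p, rfl⟩; rw [Scheme.Opens.range_ι]; exact hr ⟨p, by rw [h]; rfl⟩
  rw [← IsOpenImmersion.lift_fac _ _ h₁, ← IsOpenImmersion.lift_fac _ _ h₂] at h ⊢
  congr 1
  rw [← cancel_mono (f ∣_ U), ← cancel_mono U.ι]
  simpa [Category.assoc, morphismRestrict_ι] using h

set_option maxHeartbeats 1600000 in
/-- Over a point with valuation ring as local ring there is at most one point of a birational separated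
scheme. -/
theorem subsingleton_fibre [IsIntegral C] [IsIntegral C'] [IsIso (f ∣_ U)] (hηU : genericPoint C ∈ U)
    (hgen : f (genericPoint C') = genericPoint C) [IsIso (f.stalkMap (genericPoint C'))]
    (x : C) [ValuationRing (C.presheaf.stalk x)] (x₁ x₂ : C') (h₁ : f x₁ = x) (h₂ : f x₂ = x) : x₁ = x₂ := by
  let L := C.functionField
  have key : ∀ z : C', f z = x → ∃ s : Spec (C.presheaf.stalk x) ⟶ C',
      s ≫ f = C.fromSpecStalk x ∧ s (closedPoint (C.presheaf.stalk x)) = z := by
    rintro z rfl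
    have hz : genericPoint C' ⤳ z := genericPoint_specializes z
    let e : C.presheaf.stalk (f (genericPoint C')) ≅ C'.presheaf.stalk (genericPoint C') :=
      asIso (f.stalkMap (genericPoint C'))
    let L₁ := C'.functionField
    letI : Algebra (C.presheaf.stalk (f z)) L₁ :=
      ((f.stalkMap (genericPoint C')).hom.comp (C.presheaf.stalkSpecializes (hz.map f.continuous)).hom).toAlgebra
    haveI : IsFractionRing (C.presheaf.stalk (f z)) L₁ := by
      have hfr : letI := (C.presheaf.stalkSpecializes (hz.map f.continuous)).hom.toAlgebra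
          IsFractionRing (C.presheaf.stalk (f z)) (C.presheaf.stalk (f (genericPoint C'))) := by
        have aux : ∀ (p : C) (hp : p ⤳ f z), p = genericPoint C →
            letI := (C.presheaf.stalkSpecializes hp).hom.toAlgebra
            IsFractionRing (C.presheaf.stalk (f z)) (C.presheaf.stalk p) := by
          rintro p hp rfl
          exact inferInstanceAs (IsFractionRing (C.presheaf.stalk (f z)) C.functionField)
        exact aux _ _ hgen
      letI := (C.presheaf.stalkSpecializes (hz.map f.continuous)).hom.toAlgebra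
      haveI := hfr
      exact IsLocalization.isLocalization_of_algEquiv (nonZeroDivisors _)
        ({ e.commRingCatIsoToRingEquiv with commutes' := fun _ => rfl } :
          C.presheaf.stalk (f (genericPoint C')) ≃ₐ[C.presheaf.stalk (f z)] L₁)
    have hb : Function.Bijective (f.stalkMap z).hom := by
      refine bijective_of_isLocalHom (L := L₁) (f.stalkMap z).hom fun b => ?_
      exact (Scheme.Hom.stalkSpecializes_stalkMap_apply f (genericPoint C') z hz b).symm
    haveI : IsIso (f.stalkMap z) := (ConcreteCategory.isIso_iff_bijective _).2 hb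
    refine ⟨Spec.map (inv (f.stalkMap z)) ≫ C'.fromSpecStalk z, ?_, ?_⟩
    · rw [Category.assoc, ← Scheme.SpecMap_stalkMap_fromSpecStalk, ← Spec.map_comp_assoc,
        IsIso.hom_inv_id, Spec.map_id, Category.id_comp]
    · rw [Scheme.Hom.comp_apply]
      refine Eq.trans ?_ (C'.fromSpecStalk_closedPoint (x := z))
      congr 1
      exact comap_closedPoint (inv (f.stalkMap z)).hom
  obtain ⟨s₁, hs₁, rfl⟩ := key x₁ h₁
  obtain ⟨s₂, hs₂, rfl⟩ := key x₂ h₂
  haveI := genericPoint_specializes x
  let g : Spec (CommRingCat.of L) ⟶ Spec (CommRingCat.of (C.presheaf.stalk x)) :=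
    Spec.map (CommRingCat.ofHom (algebraMap (C.presheaf.stalk x) L))
  have hg : g ≫ s₁ = g ≫ s₂ := by
    refine eq_of_landing f U _ _ (by rw [Category.assoc, Category.assoc, hs₁, hs₂]) ?_
    rintro _ ⟨p, rfl⟩
    rw [Category.assoc, hs₁]
    have hfac : g ≫ C.fromSpecStalk x = C.fromSpecStalk (genericPoint C) :=
      Scheme.SpecMap_stalkSpecializes_fromSpecStalk (genericPoint_specializes x)
    rw [hfac]
    have hp : p = closedPoint L := Subsingleton.elim (α := PrimeSpectrum L) _ _
    rw [hp]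
    exact (C.fromSpecStalk_closedPoint (x := genericPoint C)).symm ▸ hηU
  let S : ValuativeCommSq f :=
    { R := C.presheaf.stalk x
      K := L
      i₁ := g ≫ s₁
      i₂ := C.fromSpecStalk x
      commSq := ⟨by rw [Category.assoc, hs₁]⟩ }
  haveI := IsSeparated.valuativeCriterion f S
  have h := Subsingleton.elim (⟨s₁, rfl, hs₁⟩ : S.commSq.LiftStruct) ⟨s₂, hg.symm, hs₂⟩
  exact congrArg (fun l : S.commSq.LiftStruct => l.l (closedPoint (C.presheaf.stalk x))) h

omit [QuasiCompact φ] in
/-- The points of a fibre off a closed set missing all generic points of the fibre are finite. -/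
theorem finite_fibre_inter (hφ : QuasiCompact φ)
    (hdim : ∀ s, ∀ Z ∈ irreducibleComponents (φ.fiber s : Type u), topologicalKrullDim Z = 1)
    (Z : Set C) (hZ : IsClosed Z) (hmiss : ∀ x : C, (∀ y : C, y ⤳ x → φ y = φ x → y = x) → x ∉ Z)
    (s : Spec (CommRingCat.of R)) : (Z ∩ φ ⁻¹' {s}).Finite := by
  haveI := hφ
  let Y := φ.fiber s
  haveI := H8Props.FieldDim.locallyOfFiniteType_fiberToSpec φ s
  haveI : IsNoetherianRing ((Spec (CommRingCat.of R)).residueField s) := inferInstance
  haveI : IsLocallyNoetherian Y := LocallyOfFiniteType.isLocallyNoetherian (φ.fiberToSpecResidueField s)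
  haveI : CompactSpace ↥Y := QuasiCompact.compactSpace_of_compactSpace (φ.fiberToSpecResidueField s)
  haveI : AlgebraicGeometry.IsNoetherian Y := {}
  let T : Set Y := φ.fiberι s ⁻¹' Z
  have hclosed : ∀ p ∈ T, ∀ q : Y, p ⤳ q → q = p := by
    intro p hp q hpq
    obtain ⟨g, hg, hgp⟩ := H17.exists_genericPoint_specializes p
    have hgT : g ∉ T := fun h => hmiss (φ.fiberι s g) (fun y hy he => by
      obtain ⟨w, rfl⟩ : y ∈ Set.range (φ.fiberι s) := by
        rw [φ.range_fiberι]; exact he.trans ((φ.range_fiberι s).le ⟨g, rfl⟩)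
      exact congrArg _ (H17.mem_genericPoints_iff.1 hg w
        ((φ.fiberι s).isEmbedding.isInducing.specializes_iff.1 hy))) h
    by_contra hne
    let G : Set Y := closure {g}
    have hd : topologicalKrullDim G = 1 := hdim s G hg
    let mk : (w : Y) → g ⤳ w → IrreducibleCloseds G := fun w hw =>
      ⟨closure {⟨w, hw.mem_closure⟩}, isIrreducible_singleton.closure, isClosed_closure⟩
    have hlt : ∀ (v w : Y) (hv : g ⤳ v) (hw : g ⤳ w), v ⤳ w → v ≠ w → mk w hw < mk v hv := by
      intro v w hv hw hvw hne'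
      have hvw' : (⟨v, hv.mem_closure⟩ : G) ⤳ ⟨w, hw.mem_closure⟩ :=
        IsEmbedding.subtypeVal.isInducing.specializes_iff.1 hvw
      refine lt_of_le_of_ne (closure_minimal (Set.singleton_subset_iff.2 hvw'.mem_closure) isClosed_closure) fun e => ?_
      have hwv : (⟨w, hw.mem_closure⟩ : G) ⤳ ⟨v, hv.mem_closure⟩ := by
        rw [specializes_iff_mem_closure]
        exact (congrArg (fun c : IrreducibleCloseds G => (c : Set G)) e).ge (subset_closure rfl)
      exact hne' (hvw.antisymm (hwv.map continuous_subtype_val)).eq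
    have hgp' : g ≠ p := fun e => hgT (e ▸ hp)
    let c : LTSeries (IrreducibleCloseds G) :=
      ((RelSeries.singleton _ (mk q (hgp.trans hpq))).snoc (mk p hgp)
        (hlt p q hgp (hgp.trans hpq) hpq (Ne.symm hne))).snoc (mk g (specializes_refl g))
        (by rw [RelSeries.last_snoc]; exact hlt g p (specializes_refl g) hgp hgp hgp')
    have h2 : ((2 : ℕ) : WithBot ℕ∞) ≤ topologicalKrullDim G := Order.LTSeries.length_le_krullDim c
    rw [hd] at h2
    exact absurd (show (2 : ℕ) ≤ 1 by exact_mod_cast h2) (by omega)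
  have hfinT : T.Finite := by
    obtain ⟨S, hSf, hSc, hSi, hST⟩ := NoetherianSpace.exists_finite_set_isClosed_irreducible (hZ.preimage (φ.fiberι s).continuous)
    rw [show T = ⋃₀ S from hST]
    refine hSf.sUnion fun A hA => Set.Subsingleton.finite fun a ha b hb => ?_
    obtain ⟨r, hr⟩ := QuasiSober.sober (hSi A hA) (hSc A hA)
    have hrT : r ∈ T := (show T = ⋃₀ S from hST).ge ⟨A, hA, hr.mem⟩
    rw [hclosed r hrT a (hr.specializes ha), hclosed r hrT b (hr.specializes hb)]
  refine (hfinT.image (φ.fiberι s)).subset ?_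
  rintro c ⟨hc, hcs⟩
  obtain ⟨w, rfl⟩ := (φ.range_fiberι s).ge hcs
  exact ⟨w, hc, rfl⟩

set_option maxHeartbeats 1600000 in
/-- The main statement. -/
theorem main [Finite (PrimeSpectrum R)] [ConnectedSpace C] (hN : Pi1.IsNormalScheme C)
    (hdim : ∀ s, ∀ Z ∈ irreducibleComponents (φ.fiber s : Type u), topologicalKrullDim Z = 1)
    (x : C) (hx : ∀ y : C, y ⤳ x → φ y = φ x → y = x)
    (hU : IsSchemeTheoreticallyDominant U.ι) (hU' : IsSchemeTheoreticallyDominant (f ⁻¹ᵁ U).ι)
    [IsIso (f ∣_ U)] :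
    ((∃ x' : C', f x' = x) ∧ (∀ x₁ x₂ : C', f x₁ = x → f x₂ = x → x₁ = x₂) ∧
      (∀ x' : C', f x' = x → IsIso (f.stalkMap x'))) ∧
    ∃ W : C.Opens, ((W : Set C)ᶜ).Finite ∧ IsIso (f ∣_ W) := by
  haveI := isIntegral_of_connected φ hN
  haveI := hU'
  have hηU : genericPoint C ∈ U := by
    haveI := hU
    haveI : IsReduced U.toScheme := isReduced_of_isOpenImmersion U.ι
    obtain ⟨z, hz⟩ := (isReduced_and_dense U).2.nonempty
    exact (genericPoint_specializes z).mem_open U.2 hz
  haveI : Nonempty U.toScheme := ⟨⟨_, hηU⟩⟩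
  haveI : IsIntegral U.toScheme := isIntegral_of_isOpenImmersion U.ι
  haveI : IsIntegral (f ⁻¹ᵁ U).toScheme := by
    haveI : Nonempty (f ⁻¹ᵁ U).toScheme := ⟨(asIso (f ∣_ U)).inv (Classical.arbitrary _)⟩
    exact isIntegral_of_isOpenImmersion (f ∣_ U)
  obtain ⟨hred', hd'⟩ := isReduced_and_dense (f ⁻¹ᵁ U)
  haveI := hred'
  haveI : IrreducibleSpace C' := by
    rw [irreducibleSpace_def, Set.top_eq_univ, ← hd'.closure_eq]
    refine IsIrreducible.closure ?_
    have h := (IrreducibleSpace.isIrreducible_univ (X := (f ⁻¹ᵁ U).toScheme)).image _ (f ⁻¹ᵁ U).ι.continuous.continuousOn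
    rwa [Set.image_univ, Scheme.Opens.range_ι] at h
  haveI : IsIntegral C' := isIntegral_of_irreducibleSpace_of_isReduced C'
  have hpre : genericPoint C' ∈ f ⁻¹ᵁ U := by
    obtain ⟨z, hz⟩ := hd'.nonempty
    exact (genericPoint_specializes z).mem_open (f ⁻¹ᵁ U).2 hz
  have hgen : f (genericPoint C') = genericPoint C := by
    have h1 := H7Lim.genericPoint_of_isOpenImmersion (f ⁻¹ᵁ U).ι
    have h2 := H7Lim.genericPoint_of_isOpenImmersion U.ι
    have h3 := H7Lim.genericPoint_of_isOpenImmersion (f ∣_ U)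
    rw [← h1, ← h2, ← h3, ← Scheme.Hom.comp_apply, ← morphismRestrict_ι, Scheme.Hom.comp_apply]
  have hst : ∀ (W : C.Opens), IsIso (f ∣_ W) → ∀ z : C', f z ∈ W → IsIso (f.stalkMap z) := by
    intro W hW z hz
    exact ((MorphismProperty.isomorphisms _).arrow_mk_iso_iff (morphismRestrictStalkMap f W ⟨z, hz⟩)).1
      (inferInstanceAs (IsIso ((f ∣_ W).stalkMap ⟨z, hz⟩)))
  haveI : IsIso (f.stalkMap (genericPoint C')) := hst U ‹_› _ hpre
  -- the isomorphism locus
  have hlocal : ∀ y : C, (∀ w : C, w ⤳ y → φ w = φ y → w = y) → ∃ V : C.Opens, y ∈ V ∧ IsIso (f ∣_ V) := by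
    intro y hy
    haveI := CurveValuation.valuationRing_of_fibreGeneric φ hN hdim y hy
    have hfin : (f ⁻¹' {y}).Finite :=
      Set.Subsingleton.finite fun a ha b hb => subsingleton_fibre f U hηU hgen y a b ha hb
    obtain ⟨V, hyV, hV⟩ := exists_isFinite_morphismRestrict_of_finite_preimage_singleton f y hfin
    refine ⟨V, hyV, ?_⟩
    have hηV : genericPoint C ∈ V := (genericPoint_specializes y).mem_open V.2 hyV
    haveI : Nonempty V.toScheme := ⟨⟨_, hyV⟩⟩
    haveI : Nonempty (f ⁻¹ᵁ V).toScheme := ⟨⟨genericPoint C', show f (genericPoint C') ∈ V from hgen ▸ hηV⟩⟩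
    haveI : IsIntegral V.toScheme := isIntegral_of_isOpenImmersion V.ι
    haveI : IsIntegral (f ⁻¹ᵁ V).toScheme := isIntegral_of_isOpenImmersion (f ⁻¹ᵁ V).ι
    have h1 := H7Lim.genericPoint_of_isOpenImmersion (f ⁻¹ᵁ V).ι
    have h2 := H7Lim.genericPoint_of_isOpenImmersion V.ι
    have hg : (f ∣_ V) (genericPoint (f ⁻¹ᵁ V).toScheme) = genericPoint V.toScheme := by
      refine V.ι.isOpenEmbedding.injective ?_
      rw [← Scheme.Hom.comp_apply, morphismRestrict_ι, Scheme.Hom.comp_apply, h1, hgen, h2]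
    haveI : IsIso ((f ∣_ V).stalkMap (genericPoint (f ⁻¹ᵁ V).toScheme)) := by
      refine ((MorphismProperty.isomorphisms _).arrow_mk_iso_iff (morphismRestrictStalkMap f V _)).2 ?_
      refine hst U ‹_› _ ?_
      show f ((f ⁻¹ᵁ V).ι (genericPoint (f ⁻¹ᵁ V).toScheme)) ∈ U
      rw [h1, hgen]
      exact hηU
    refine H7Lim.isIso_of_isIntegralHom_birational (fun v => ?_) (f ∣_ V) hg
    haveI : IsIntegrallyClosed (C.presheaf.stalk v.1) := (hN (V.ι v)).2
    exact IsIntegrallyClosed.of_equiv (V.stalkIso v).commRingCatIsoToRingEquiv.symm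
  choose V hyV hV using hlocal
  let W : C.Opens := ⨆ (y : C) (hy : ∀ w : C, w ⤳ y → φ w = φ y → w = y), V y hy
  have hWiso : IsIso (f ∣_ W) := by
    show MorphismProperty.isomorphisms Scheme (f ∣_ W)
    rw [IsZariskiLocalAtTarget.iff_of_iSup_eq_top (P := MorphismProperty.isomorphisms Scheme)
      (fun i : {y : C // ∀ w : C, w ⤳ y → φ w = φ y → w = y} => W.ι ⁻¹ᵁ V i.1 i.2) ?_]
    · intro i
      refine ((MorphismProperty.isomorphisms Scheme).arrow_mk_iso_iff (morphismRestrictRestrict f W _)).2 ?_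
      have e : W.ι ''ᵁ W.ι ⁻¹ᵁ V i.1 i.2 = V i.1 i.2 := by
        rw [Scheme.Hom.image_preimage_eq_opensRange_inf, Scheme.Opens.opensRange_ι, inf_eq_right]
        exact le_iSup₂ (f := fun y hy => V y hy) i.1 i.2
      rw [e]
      exact hV i.1 i.2
    · rw [← Scheme.Hom.preimage_iSup, eq_top_iff]
      rintro ⟨w, hw⟩ -
      obtain ⟨y, hy, h⟩ := Opens.mem_iSup.1 hw |>.imp fun y h => Opens.mem_iSup.1 h
      exact Opens.mem_iSup.2 ⟨⟨y, hy⟩, h⟩
  have hxW : x ∈ W := Opens.mem_iSup.2 ⟨x, Opens.mem_iSup.2 ⟨hx, hyV x hx⟩⟩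
  refine ⟨⟨?_, ?_, fun x' hx' => hst W hWiso x' (hx'.symm ▸ hxW)⟩, W, ?_, hWiso⟩
  · haveI := hWiso
    obtain ⟨w, hw⟩ := (f ∣_ W).homeomorph.surjective ⟨x, hxW⟩
    refine ⟨(f ⁻¹ᵁ W).ι w, ?_⟩
    rw [← Scheme.Hom.comp_apply, ← morphismRestrict_ι, Scheme.Hom.comp_apply]
    exact congrArg Subtype.val hw
  · haveI := CurveValuation.valuationRing_of_fibreGeneric φ hN hdim x hx
    exact fun a b ha hb => subsingleton_fibre f U hηU hgen x a b ha hb
  · have : ((W : Set C)ᶜ) = ⋃ s : Spec (CommRingCat.of R), ((W : Set C)ᶜ ∩ φ ⁻¹' {s}) := by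
      ext c; simp
    rw [this]
    haveI : Finite ↥(Spec (CommRingCat.of R)) := ‹Finite (PrimeSpectrum R)›
    exact Set.finite_iUnion fun s => finite_fibre_inter φ ‹_› hdim _ W.2.isClosed_compl
      (fun y hy hyW => hyW (Opens.mem_iSup.2 ⟨y, Opens.mem_iSup.2 ⟨hy, hyV y hy⟩⟩)) s

end Groth.Agent.H8Norm.CurveModificationIso
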