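import Groth.Agent.H22Alg.AmpleModel
import Groth.Agent.H25Theta.Basic
import Groth.Agent.LeadBC.GenBC.AppIso

/-!
# Noetherian models of polarised flat proper families
-/

set_option autoImplicit false
set_option linter.style.haveILetI false
set_option backward.isDefEq.respectTransparency false

universe u

open CategoryTheory CategoryTheory.Limits AlgebraicGeometry Opposite TopologicalSpace

namespace Groth.Agent.H8Norm.AmpleFlatModel

open H7Lim.FPDescent H17.ConsProp H7Lim

set_option maxHeartbeats 800000 in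
/-- A proper flat finitely presented family with an ample sheaf over an affine base comes from such a
family over a Noetherian base. -/
theorem exists_model {R : Type u} [CommRing R] {X : Scheme.{u}}
    (f : X ⟶ Spec (CommRingCat.of R)) [IsProper f] [Flat f] [LocallyOfFinitePresentation f]
    (L : X.Modules) (hL : PicF.IsInvertible L) (hA : CohB1.IsAmple L) :
    ∃ (R₀ : Type u) (_ : CommRing R₀) (_ : Algebra R₀ R) (_ : IsNoetherianRing R₀) (X₀ : Scheme.{u})
      (f₀ : X₀ ⟶ Spec (CommRingCat.of R₀)) (L₀ : X₀.Modules) (g : X ⟶ X₀),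
      IsProper f₀ ∧ FlatMod.IsFlatOver f₀ (Coh.structureModule X₀) ∧ PicF.IsInvertible L₀ ∧
        CohB1.IsAmple L₀ ∧ IsPullback g f f₀ (Spec.map (CommRingCat.ofHom (algebraMap R₀ R))) ∧
        Nonempty ((Scheme.Modules.pullback g).obj L₀ ≅ L) := by
  have hF : CohB1.IsFP (Coh.structureModule X) := H06EGA9.isFP_structureModule
  haveI : Coh.IsQCoh (Coh.structureModule X) := H29Fitt.isQCoh_of_isFP _ hF
  obtain ⟨i, X₀, u₀, -, q, _, _, h1, -, -⟩ :=
    exists_mod_model (R := R) (show X ⟶ (subringCone R).pt from f) (Coh.structureModule X) hF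
  haveI : Nonempty (Finset R) := ⟨∅⟩
  let D := (subringFunctor R).op ⋙ Scheme.Spec
  let c := subringCone R
  have hc : IsLimit c := isLimitSubringCone R
  haveI : IsNoetherian X₀ := isNoetherian_of_finiteType u₀
  -- properness
  have hp : IsProper (pullback.snd u₀ (c.π.app i)) :=
    (prop_iff_of_isPullback (P := @IsProper) h1).mp ‹IsProper f›
  obtain ⟨j, φ, hj⟩ := descends_isProper (Finset R)ᵒᵖ D c hc i u₀ inferInstance hp
  let X₁ := pullback u₀ (D.map φ)
  let f₁ : X₁ ⟶ D.obj j := pullback.snd u₀ (D.map φ)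
  haveI : IsProper f₁ := hj
  haveI : LocallyOfFinitePresentation f₁ := MorphismProperty.pullback_snd _ _ inferInstance
  haveI : IsLocallyNoetherian X₁ := LocallyOfFiniteType.isLocallyNoetherian f₁
  let q₁ : X ⟶ X₁ := pullback.lift q (f ≫ c.π.app j) (by rw [h1.w, Category.assoc, c.w])
  have h₁ : IsPullback q₁ f f₁ (c.π.app j) := by
    refine IsPullback.of_right (h₁₂ := pullback.fst u₀ (D.map φ)) (h₂₂ := D.map φ) (v₁₃ := u₀) ?_
      (pullback.lift_snd _ _ _) (IsPullback.of_hasPullback _ _)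
    rw [pullback.lift_fst, c.w]
    exact h1
  -- flatness
  let F₁ : X₁.Modules := Coh.structureModule X₁
  have hF₁ : Coh.IsCoh F₁ := H10Coh.isCoh_structureModule' X₁
  have hFP₁ : CohB1.IsFP F₁ := H06EGA9.isFP_structureModule
  let D' : Over j ⥤ Over (D.obj j) := Over.post D
  let c' : Cone D' := c.overPost j
  have hc' : IsLimit ((Over.forget (D.obj j)).mapCone c') :=
    ((Functor.Initial.isLimitWhiskerEquiv (Over.forget j) c).symm hc).ofIsoLimit
      (Cone.ext (Iso.refl _) fun k => (Category.id_comp _).symm)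
  have hflat : Flat (PicF.XTproj f₁ c'.pt) :=
    MorphismProperty.of_isPullback (P := @Flat)
      (IsPullback.of_horiz_isIso (⟨by rw [Category.comp_id]; exact (IsPullback.of_hasPullback f₁ (c.π.app j)).isoIsPullback_hom_snd _ _ h₁⟩ :
        CommSq ((IsPullback.of_hasPullback f₁ (c.π.app j)).isoIsPullback _ _ h₁).hom (PicF.XTproj f₁ c'.pt) f (𝟙 _)))
      ‹Flat f›
  have hlim : FlatMod.IsFlatOver (PicF.XTproj f₁ c'.pt) (FGA.ET f₁ F₁ c'.pt) := fun x =>
    (H06EGA9.isFlatOverAt_congr_iso _ (H25Theta.pO _).symm x).1 (LeadBC.GenBC.isFlatOver_structure _ x)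
  obtain ⟨k₂, hk₂⟩ := H8Props.FunDescent.exists_flat_stage f₁ F₁ hF₁.1 hFP₁ D' c' hc'
    (fun k => inferInstanceAs (IsAffine (Spec _))) hlim
  let D₁ := pbDiagram D j f₁
  let c₁ := pbCone D c j f₁
  have hc₁ : IsLimit c₁ := isLimitPbCone D j f₁ hc
  haveI : ∀ (a b : Over j) (w : a ⟶ b), IsAffineHom (D₁.map w) := fun a b w =>
    MorphismProperty.of_isPullback (P := @IsAffineHom) (isPullback_pbDiagram_map D j f₁ w).flip inferInstance
  haveI : ∀ {a b : Over j} (w : a ⟶ b), IsAffineHom (D₁.map w) := fun {a b} w =>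
    ‹∀ (a b : Over j) (w : a ⟶ b), IsAffineHom (D₁.map w)› a b w
  haveI : ∀ a : Over j, IsNoetherian (D₁.obj a) := fun a => by
    haveI : IsProper (pullback.snd f₁ (D.map a.hom)) := MorphismProperty.pullback_snd _ _ ‹_›
    exact isNoetherian_of_finiteType (pullback.snd f₁ (D.map a.hom))
  let t : c₁.pt ≅ X := (IsPullback.of_hasPullback f₁ (c.π.app j)).isoIsPullback _ _ h₁
  have hL' : PicF.IsInvertible ((Scheme.Modules.pullback t.hom).obj L) := H11Ample.isInvertible_pullback _ hL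
  obtain ⟨k, χ₀, L₁, hL₁, ⟨eL⟩⟩ := H12Pic.exists_invertible_stage hc₁ k₂ hL'
  -- ampleness
  have hA' : CohB1.IsAmple ((Scheme.Modules.pullback (c₁.π.app k)).obj L₁) :=
    H11Ample.isAmple_of_iso eL.symm (H11Ample.isAmple_pullback_of_isAffineHom t.hom hA)
  obtain ⟨m, χ, hm⟩ := H7Lim.AmpleDescent.exists_isAmple_stage hc₁ hL₁ hA'
  let g : X ⟶ D₁.obj m := t.inv ≫ c₁.π.app m
  have hg : g ≫ pullback.fst f₁ (D.map m.hom) = q₁ := by
    simp [g, c₁, pbCone, t]
  haveI : IsProper (pullback.snd f₁ (D.map m.hom)) := MorphismProperty.pullback_snd _ _ ‹_›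
  have hm₂ : FlatMod.IsFlatOver (PicF.XTproj f₁ (D'.obj m)) (FGA.ET f₁ F₁ (D'.obj m)) := fun x =>
    (H06EGA9.isFlatOverAt_congr_iso _ (FGA.ETiso f₁ F₁ (D'.map (χ ≫ χ₀))) x).1
      (H06EGA9.isFlatOverAt_of_isPullback (H8Props.FunDescent.isPullback_XTmap f₁ (D'.map (χ ≫ χ₀))) _ x (hk₂ _))
  refine ⟨↥(Algebra.adjoin ℤ ((unop m.left : Finset R) : Set R)), inferInstance,
    (Algebra.adjoin ℤ ((unop m.left : Finset R) : Set R)).val.toRingHom.toAlgebra, ?_, D₁.obj m,
    pullback.snd f₁ (D.map m.hom), (Scheme.Modules.pullback (D₁.map χ)).obj L₁,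
    g, inferInstance,
    fun x => (H06EGA9.isFlatOverAt_congr_iso _ (H25Theta.pO _) x).1 (hm₂ x),
    H11Ample.isInvertible_pullback _ hL₁, hm, ?_, ⟨?_⟩⟩
  · haveI := (Algebra.adjoin ℤ ((unop m.left : Finset R) : Set R)).fg_iff_finiteType.1 ⟨unop m.left, rfl⟩
    exact Algebra.FiniteType.isNoetherianRing ℤ _
  · refine IsPullback.of_right (h₁₂ := pullback.fst f₁ (D.map m.hom)) (h₂₂ := D.map m.hom) (v₁₃ := f₁) ?_ ?_
      (IsPullback.of_hasPullback _ _)
    · rw [hg]
      show IsPullback q₁ f f₁ (c.π.app m.left ≫ D.map m.hom)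
      rw [c.w]
      exact h₁
    · show g ≫ pullback.snd f₁ (D.map m.hom) = f ≫ c.π.app m.left
      simp [g, c₁, pbCone, t]
  · exact (Scheme.Modules.pullbackComp g (D₁.map χ)).app L₁ ≪≫
      (Scheme.Modules.pullbackCongr (show g ≫ D₁.map χ = t.inv ≫ c₁.π.app k by
        rw [Category.assoc, c₁.w])).app L₁ ≪≫
      ((Scheme.Modules.pullbackComp t.inv (c₁.π.app k)).app L₁).symm ≪≫
      (Scheme.Modules.pullback t.inv).mapIso eL ≪≫ (Scheme.Modules.pullbackComp t.inv t.hom).app L ≪≫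
      (Scheme.Modules.pullbackCongr t.inv_hom_id).app L ≪≫ (Scheme.Modules.pullbackId X).app L

end Groth.Agent.H8Norm.AmpleFlatModel
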