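import Groth.Agent.H06EGA9.FibreClosureGeneral
import Groth.Agent.H06EGA15.DimConstructible
import Groth.Agent.H06EGA9.FlatLocallyConstructible
import Groth.Agent.H7Flat.FibreDimConstructible
import Groth.Agent.H8Props.FunDescent.DimLimit
import Groth.Agent.H06Proper.ConnectedPart
import Mathlib.RingTheory.Spectrum.Prime.ConstructibleSet

/-!
# Dimensions of the components of fibrewise locally closed constructible sets (EGA IV 9.8.3)
-/

set_option autoImplicit false
set_option linter.style.haveILetI false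
set_option backward.isDefEq.respectTransparency false
universe u

open CategoryTheory CategoryTheory.Limits AlgebraicGeometry Topology Set TopologicalSpace

namespace Groth.Agent.H8Norm.FibreComponentDims

open H8Props.FieldDim H06EGA9

variable {X S : Scheme.{u}}

/-- Some point of `Z` in the fibre of `x` generizes it and spans dimension more than `b`. -/
def genDim (f : X ⟶ S) (Z : Set X) (b : WithBot ℕ∞) : Set X :=
  {x | ∃ z ∈ Z, f z = f x ∧ z ⤳ x ∧ b < fdim f z}

theorem fdim_comp_preimmersion {W : Scheme.{u}} (ι : W ⟶ X) [IsPreimmersion ι] (f : X ⟶ S)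
    [LocallyOfFiniteType f] [LocallyOfFiniteType (ι ≫ f)] (w : W) : fdim (ι ≫ f) w = fdim f (ι w) := by
  obtain ⟨a, ha, ha'⟩ := H8Props.FunDescent.exists_cdim_pointTrdeg (ι ≫ f) ((ι ≫ f).asFiber w)
    ((ι ≫ f).fiberι_asFiber w)
  obtain ⟨b, hb, hb'⟩ := H8Props.FunDescent.exists_cdim_pointTrdeg f (f.asFiber (ι w)) (f.fiberι_asFiber _)
  rw [H8Props.FunDescent.pointTrdeg_comp_preimmersion f ι w, hb'] at ha'
  rw [fdim_eq_cdim, fdim_eq_cdim, ha, hb, show b = a by exact_mod_cast ha']

theorem fdim_comp_openImmersion {T : Scheme.{u}} (f : X ⟶ S) (j : S ⟶ T) [IsOpenImmersion j] (x : X) :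
    fdim (f ≫ j) x = fdim f x := by
  have h : ⇑(f ≫ j) ⁻¹' {(f ≫ j) x} = ⇑f ⁻¹' {f x} := by
    ext y
    exact j.isOpenEmbedding.injective.eq_iff
  unfold fdim
  rw [h]

theorem genDim_comp_openImmersion_right {T : Scheme.{u}} (f : X ⟶ S) (j : S ⟶ T) [IsOpenImmersion j]
    (Z : Set X) (b : WithBot ℕ∞) : genDim (f ≫ j) Z b = genDim f Z b := by
  ext x
  simp only [genDim, mem_ofPred_eq, fdim_comp_openImmersion, Scheme.Hom.comp_apply,
    j.isOpenEmbedding.injective.eq_iff]

theorem genDim_comp_openImmersion {V : Scheme.{u}} (a : V ⟶ X) [IsOpenImmersion a] (f : X ⟶ S)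
    [LocallyOfFiniteType f] (Z : Set X) (b : WithBot ℕ∞) :
    genDim (a ≫ f) (a ⁻¹' Z) b = a ⁻¹' genDim f Z b := by
  ext v
  constructor
  · rintro ⟨z, hz, hf, hs, hd⟩
    exact ⟨a z, hz, by rw [← Scheme.Hom.comp_apply, hf, Scheme.Hom.comp_apply], hs.map a.continuous,
      fdim_comp_preimmersion a f z ▸ hd⟩
  · rintro ⟨z, hz, hf, hs, hd⟩
    obtain ⟨z', rfl⟩ : z ∈ range a := hs.mem_open a.isOpenEmbedding.isOpen_range ⟨v, rfl⟩
    exact ⟨z', hz, by rw [Scheme.Hom.comp_apply, hf, Scheme.Hom.comp_apply],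
      a.isOpenEmbedding.isInducing.specializes_iff.mp hs, (fdim_comp_preimmersion a f z').symm ▸ hd⟩

theorem isLocallyConstructible_compl {Y : Type u} [TopologicalSpace Y] {s : Set Y}
    (hs : IsLocallyConstructible s) : IsLocallyConstructible sᶜ := fun x => by
  obtain ⟨U, hU, hUo, hc⟩ := hs x
  exact ⟨U, hU, hUo, hc.compl⟩

/-- The trace of an open subset of a closed subscheme of finite presentation. -/
theorem isConstructible_genDim_image {R A B : CommRingCat.{u}} (φ : Spec A ⟶ Spec R)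
    [LocallyOfFinitePresentation φ] (i : Spec B ⟶ Spec A) [IsClosedImmersion i]
    [LocallyOfFinitePresentation i] {V : Set (Spec B)} (hVo : IsOpen V) (hV : IsConstructible V)
    (b : WithBot ℕ∞) : IsConstructible (genDim φ (i '' V) b) := by
  let L : Set (Spec B) := V ∩ {w | FlatMor.fibreDimAt (i ≫ φ) w ≤ b}ᶜ
  have hL : IsLocallyConstructible L := hV.isLocallyConstructible.inter
    (isLocallyConstructible_compl (H06EGA15.isLocallyConstructible_fibreDimAt_le _ b))
  have hiL := i.isLocallyConstructible_image hL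
  have heq : genDim φ (i '' V) b = fibClosure φ (i '' L) := by
    ext x
    constructor
    · rintro ⟨_, ⟨w, hw, rfl⟩, hf, hs, hd⟩
      refine closure_mono (singleton_subset_iff.mpr (?_ : i w ∈ i '' L ∩ φ ⁻¹' {φ x}))
        (specializes_iff_mem_closure.mp hs)
      refine ⟨⟨w, ⟨hw, ?_⟩, rfl⟩, hf⟩
      rw [← fdim_comp_preimmersion i φ w, fdim_eq_cdim] at hd
      exact not_le.mpr (hd.trans_le (H8Props.FunDescent.cdim_le_fibreDimAt _ w))
    · intro hx
      have hE' : IsConstructible (φ.fiberι (φ x) ⁻¹' (i '' L)) :=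
        (φ.fiberι (φ x)).isConstructible_preimage hiL.isConstructible
      have hxE : φ.asFiber x ∈ closure (φ.fiberι (φ x) ⁻¹' (i '' L)) := by
        rw [(φ.fiberι (φ x)).isEmbedding.isInducing.closure_eq_preimage_closure_image, mem_preimage,
          φ.fiberι_asFiber, image_preimage_eq_inter_range, φ.range_fiberι]
        exact hx
      obtain ⟨e', he', hse⟩ := H06Proper.exists_specializes_of_mem_closure' hE'.isLocallyConstructible hxE
      obtain ⟨w, ⟨hwV, hwd⟩, hwe⟩ := he'
      have hφe : φ (i w) = φ x := by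
        rw [hwe]
        exact (φ.range_fiberι (φ x)).subset (mem_range_self e')
      have hwx : i w ⤳ x := by
        have h := hse.map (φ.fiberι (φ x)).continuous
        rwa [φ.fiberι_asFiber, ← hwe] at h
      haveI := locallyOfFiniteType_fiberToSpec (i ≫ φ) ((i ≫ φ) w)
      have hlt : b < FlatMor.localDim _ ((i ≫ φ).asFiber w) := not_le.mp hwd
      rw [localDim_eq (k := (Spec R).residueField ((i ≫ φ) w)) ((i ≫ φ).fiberToSpecResidueField _),
        lt_iSup_iff] at hlt
      obtain ⟨⟨η, hη⟩, hηd⟩ := hlt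
      let q := (i ≫ φ).fiberι ((i ≫ φ) w) η
      have hqw : q ⤳ w := by
        have h := hη.map ((i ≫ φ).fiberι ((i ≫ φ) w)).continuous
        rwa [(i ≫ φ).fiberι_asFiber] at h
      have hqf : (i ≫ φ) q = (i ≫ φ) w := ((i ≫ φ).range_fiberι _).subset (mem_range_self η)
      refine ⟨i q, ⟨q, hqw.mem_open hVo hwV, rfl⟩,
        by rw [← Scheme.Hom.comp_apply, hqf, Scheme.Hom.comp_apply, hφe],
        (hqw.map i.continuous).trans hwx, ?_⟩
      obtain ⟨s, hs, hs'⟩ := H8Props.FunDescent.exists_cdim_pointTrdeg (i ≫ φ) η (x := q) rfl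
      obtain ⟨t, ht, ht'⟩ := H8Props.FunDescent.exists_cdim_pointTrdeg (i ≫ φ) ((i ≫ φ).asFiber q)
        ((i ≫ φ).fiberι_asFiber q)
      rw [← fdim_comp_preimmersion i φ q, fdim_eq_cdim, ht,
        show t = s by exact_mod_cast ht'.symm.trans hs', ← hs]
      exact hηd
  rw [heq]
  exact (isLocallyConstructible_fibClosure φ hiL).isConstructible

/-- A constructible subset of an affine scheme, affine base. -/
theorem isConstructible_genDim_spec {R A : CommRingCat.{u}} (φ : Spec A ⟶ Spec R)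
    [LocallyOfFinitePresentation φ] {Z : Set (Spec A)} (hZ : IsConstructible Z) (b : WithBot ℕ∞) :
    IsConstructible (genDim φ Z b) := by
  classical
  obtain ⟨D, hD⟩ := PrimeSpectrum.exists_constructibleSetData_iff.mpr hZ
  subst hD
  have hU : genDim φ (D.toSet : Set (PrimeSpectrum A)) b =
      ⋃ C ∈ D, genDim φ (C.toSet : Set (PrimeSpectrum A)) b := by
    ext x
    simp only [genDim, PrimeSpectrum.ConstructibleSetData.toSet, mem_ofPred_eq, mem_iUnion₂]
    grind
  rw [hU]
  refine IsConstructible.biUnion D.finite_toSet fun C _ => ?_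
  let I : Ideal A := Ideal.span (range C.g)
  let π : A ⟶ CommRingCat.of (A ⧸ I) := CommRingCat.ofHom (Ideal.Quotient.mk I)
  haveI : IsClosedImmersion (Spec.map π) := IsClosedImmersion.spec_of_surjective π Ideal.Quotient.mk_surjective
  haveI : LocallyOfFinitePresentation (Spec.map π) :=
    (HasRingHomProperty.Spec_iff (P := @LocallyOfFinitePresentation)).mpr
      (RingHom.FinitePresentation.of_surjective _ Ideal.Quotient.mk_surjective
        (by show (RingHom.ker (Ideal.Quotient.mk I)).FG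
            rw [Ideal.mk_ker]; exact Submodule.fg_span (finite_range C.g)))
  have hC : (C.toSet : Set (PrimeSpectrum A)) = Spec.map π ''
      ((PrimeSpectrum.basicOpen (Ideal.Quotient.mk I C.f) : Opens (PrimeSpectrum (A ⧸ I))) : Set (PrimeSpectrum (A ⧸ I))) := by
    show _ = PrimeSpectrum.comap (Ideal.Quotient.mk I) '' _
    rw [← PrimeSpectrum.comap_basicOpen, Opens.coe_comap]
    erw [image_preimage_eq_inter_range]
    rw [
      range_comap_of_surjective _ _ Ideal.Quotient.mk_surjective,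
      PrimeSpectrum.basicOpen_eq_zeroLocus_compl, Ideal.mk_ker, PrimeSpectrum.zeroLocus_span, inter_comm]
    rfl
  rw [hC]
  exact isConstructible_genDim_image φ (Spec.map π) (PrimeSpectrum.basicOpen _).isOpen
    (PrimeSpectrum.isConstructible_basicOpen) b

theorem isLocallyConstructible_genDim (f : X ⟶ S) [LocallyOfFinitePresentation f] {Z : Set X}
    (hZ : IsLocallyConstructible Z) (b : WithBot ℕ∞) : IsLocallyConstructible (genDim f Z b) := by
  refine isLocallyConstructible_of_charts fun x => ?_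
  obtain ⟨(U : S.Opens), (hU : IsAffineOpen U), hxU, -⟩ := Opens.isBasis_iff_nbhd.mp S.isBasis_affineOpens
    (show f x ∈ (⊤ : S.Opens) from trivial)
  obtain ⟨(V : X.Opens), (hV : IsAffineOpen V), hxV, hVU⟩ := Opens.isBasis_iff_nbhd.mp X.isBasis_affineOpens
    (show x ∈ f ⁻¹ᵁ U from hxU)
  refine ⟨_, hV.fromSpec, inferInstance, hV.range_fromSpec.ge hxV, ?_⟩
  haveI : LocallyOfFinitePresentation (Spec.map (f.appLE U V hVU)) :=
    (HasRingHomProperty.Spec_iff (P := @LocallyOfFinitePresentation)).mpr (f.finitePresentation_appLE hU hV hVU)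
  rw [← genDim_comp_openImmersion hV.fromSpec f Z b, ← IsAffineOpen.SpecMap_appLE_fromSpec f hU hV hVU,
    genDim_comp_openImmersion_right]
  exact isConstructible_genDim_spec _ (H7Lim.isLocallyConstructible_preimage hZ _).isConstructible b

/-- The dimensions of the components of a locally closed subset of a scheme over a field. -/
theorem componentDims_eq {k : Type u} [Field k] {K : Scheme.{u}} (q : K ⟶ Spec (CommRingCat.of k))
    [LocallyOfFiniteType q] {W : Set K} (hW : IsLocallyClosed W) :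
    (fun T : Set ↥W => topologicalKrullDim ↥T) '' irreducibleComponents ↥W =
      cdim '' {η | η ∈ W ∧ ∀ ζ ∈ W, ζ ⤳ η → ζ = η} := by
  obtain ⟨O, C, hO, hC, rfl⟩ := hW
  haveI : QuasiSober C := hC.isClosedEmbedding_subtypeVal.quasiSober
  haveI : QuasiSober ↥(O ∩ C : Set K) := by
    have hj : IsOpenEmbedding (inclusion (inter_subset_right : O ∩ C ⊆ C)) :=
      ⟨IsEmbedding.inclusion _, by
        rw [range_inclusion]
        have he : {x : C | x.1 ∈ O ∩ C} = Subtype.val ⁻¹' O := by ext x; simp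
        rw [he]
        exact hO.preimage continuous_subtype_val⟩
    exact hj.quasiSober
  have hdim : ∀ η (hη : η ∈ O ∩ C),
      topologicalKrullDim ↥(closure {(⟨η, hη⟩ : ↥(O ∩ C : Set K))}) = cdim η := by
    intro η hη
    rw [IsEmbedding.subtypeVal.closure_eq_preimage_closure_image, image_singleton,
      dim_preimage IsEmbedding.subtypeVal, Subtype.range_coe]
    refine le_antisymm (dim_mono inter_subset_left) ?_
    obtain ⟨(V : K.Opens), (hV : IsAffineOpen V), hηV, hVO⟩ := Opens.isBasis_iff_nbhd.mp K.isBasis_affineOpens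
      (show η ∈ (⟨O, hO⟩ : K.Opens) from hη.1)
    rw [cdim_eq_inter q η hV hηV]
    exact dim_mono fun y hy =>
      ⟨hy.1, hVO hy.2, closure_minimal (singleton_subset_iff.mpr hη.2) hC hy.1⟩
  ext d
  constructor
  · rintro ⟨T, hT, rfl⟩
    have hc := isClosed_of_mem_irreducibleComponents T hT
    have hg := hT.1.closure_genericPoint hc
    refine ⟨hT.1.genericPoint.1, ⟨hT.1.genericPoint.2, fun ζ hζ hsp => ?_⟩, ?_⟩
    · have hsp' : (⟨ζ, hζ⟩ : ↥(O ∩ C : Set K)) ⤳ hT.1.genericPoint :=
        (subtype_specializes_iff _ _).mpr hsp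
      have hsub : T ⊆ closure {(⟨ζ, hζ⟩ : ↥(O ∩ C : Set K))} :=
        hg ▸ closure_minimal (singleton_subset_iff.mpr hsp'.mem_closure) isClosed_closure
      have he : closure {(⟨ζ, hζ⟩ : ↥(O ∩ C : Set K))} = T :=
        hT.eq_of_ge isIrreducible_singleton.closure hsub
      exact congrArg Subtype.val ((show IsGenericPoint _ T from he).eq (hT.1.isGenericPoint_genericPoint hc))
    · conv_rhs => rw [← hg]
      exact (hdim _ hT.1.genericPoint.2).symm
  · rintro ⟨η, ⟨hη, hmax⟩, rfl⟩
    refine ⟨closure {⟨η, hη⟩}, ⟨isIrreducible_singleton.closure, fun T hT hle y hy => ?_⟩, hdim η hη⟩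
    obtain ⟨g, hg⟩ := QuasiSober.sober hT.closure isClosed_closure
    have h1 : g ⤳ ⟨η, hη⟩ := hg.specializes (subset_closure (hle (subset_closure rfl)))
    have h2 : g = ⟨η, hη⟩ := Subtype.ext (hmax g.1 g.2 (h1.map continuous_subtype_val))
    exact h2 ▸ specializes_iff_mem_closure.mp (hg.specializes (subset_closure hy))

/-- The dimensions of the maximal points of the trace of `Z` on the fibre over `s`. -/
def maxDims (f : X ⟶ S) (Z : Set X) (s : S) : Set (WithBot ℕ∞) :=
  cdim '' {η : f.fiber s | η ∈ f.fiberι s ⁻¹' Z ∧ ∀ ζ ∈ f.fiberι s ⁻¹' Z, ζ ⤳ η → ζ = η}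

/-- The bound below `d`. -/
def below : ℕ → WithBot ℕ∞
  | 0 => ⊥
  | d + 1 => (d : WithBot ℕ∞)

theorem below_lt_iff (d c : ℕ) : below d < (c : WithBot ℕ∞) ↔ d ≤ c := by
  cases d with
  | zero => simp [below]
  | succ d => simp [below]

theorem fdim_fiberι (f : X ⟶ S) {s : S} (u : f.fiber s) : fdim f (f.fiberι s u) = cdim u := by
  have key : ∀ (x : X), f.fiberι s u = x → fdim f x = cdim u := by
    intro x hx
    have hy : f x = s := by rw [← hx]; exact (f.range_fiberι s).subset (mem_range_self u)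
    subst hy
    rw [fdim_eq_cdim, (f.fiberι (f x)).isEmbedding.injective (hx.trans (f.fiberι_asFiber x).symm)]
  exact key _ rfl

theorem setOf_mem_maxDims (f : X ⟶ S) [LocallyOfFiniteType f] (Z : Set X) (d : ℕ) :
    {s : S | (d : WithBot ℕ∞) ∈ maxDims f Z s} =
      f '' ((Z ∩ genDim f Z (below d)) \ genDim f Z d) := by
  ext s
  constructor
  · rintro ⟨η, ⟨hη, hmax⟩, hd⟩
    have hs : f (f.fiberι s η) = s := (f.range_fiberι s).subset (mem_range_self η)
    refine ⟨f.fiberι s η, ⟨⟨hη, _, hη, rfl, specializes_rfl, ?_⟩, ?_⟩, hs⟩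
    · rw [fdim_fiberι, hd]
      exact (below_lt_iff d d).mpr le_rfl
    · rintro ⟨z, hz, hf, hsp, hlt⟩
      obtain ⟨ζ, rfl⟩ : z ∈ range (f.fiberι s) := (f.range_fiberι s).ge (hf.trans hs)
      rw [fdim_fiberι, hmax ζ hz ((f.fiberι s).isEmbedding.isInducing.specializes_iff.mp hsp), hd] at hlt
      exact lt_irrefl _ hlt
  · rintro ⟨x, ⟨⟨-, z, hz, hzx, hsp, hlt⟩, hn⟩, rfl⟩
    obtain ⟨η, rfl⟩ : z ∈ range (f.fiberι (f x)) := (f.range_fiberι _).ge hzx
    haveI := locallyOfFiniteType_fiberToSpec f (f x)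
    obtain ⟨c, hc⟩ := exists_nat_cdim (f.fiberToSpecResidueField (f x)) η
    have hle : ∀ ζ : f.fiber (f x), f.fiberι (f x) ζ ∈ Z → ζ ⤳ η → cdim ζ ≤ (d : WithBot ℕ∞) := by
      intro ζ hζ hζη
      by_contra hcon
      exact hn ⟨_, hζ, (f.range_fiberι _).subset (mem_range_self ζ),
        (hζη.map (f.fiberι _).continuous).trans hsp, by rw [fdim_fiberι]; exact not_le.mp hcon⟩
    rw [fdim_fiberι, hc, below_lt_iff] at hlt
    have h1 := hle η hz specializes_rfl
    rw [hc, Nat.cast_le] at h1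
    obtain rfl : c = d := le_antisymm h1 hlt
    refine ⟨η, ⟨hz, fun ζ hζ hζη => ?_⟩, hc⟩
    by_contra hne
    exact (not_lt.mpr (hle ζ hζ hζη)) (hc ▸ cdim_lt (f.fiberToSpecResidueField (f x)) hζη hne)

theorem isLocallyConstructible_mem_maxDims (f : X ⟶ S) [LocallyOfFinitePresentation f] [QuasiCompact f]
    {Z : Set X} (hZ : IsLocallyConstructible Z) (d : ℕ) :
    IsLocallyConstructible {s : S | (d : WithBot ℕ∞) ∈ maxDims f Z s} := by
  rw [setOf_mem_maxDims]
  exact f.isLocallyConstructible_image ((hZ.inter (isLocallyConstructible_genDim f hZ _)).inter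
    (isLocallyConstructible_compl (isLocallyConstructible_genDim f hZ _)))

theorem exists_bound (f : X ⟶ S) [LocallyOfFiniteType f] [QuasiCompact f] {U : Set S} (hU : IsCompact U)
    (hUo : IsOpen U) : ∃ N : ℕ, ∀ s ∈ U, ∀ η : f.fiber s, ∃ n ≤ N, cdim η = n := by
  choose n hn using fun x : X => H7Flat.exists_nat_fibreDimAt f x
  obtain ⟨t, ht⟩ := (QuasiCompact.isCompact_preimage (f := f) _ hUo hU).elim_finite_subcover
    (fun k : ℕ => {x : X | FlatMor.fibreDimAt f x ≤ (k : ℕ)}) (fun k => isOpen_fibreDimAt_le f k)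
    (fun x _ => mem_iUnion.2 ⟨n x, hn x⟩)
  refine ⟨t.sup id, fun s hs η => ?_⟩
  haveI := locallyOfFiniteType_fiberToSpec f s
  obtain ⟨c, hc⟩ := exists_nat_cdim (f.fiberToSpecResidueField s) η
  obtain ⟨k, hk, hxk⟩ := mem_iUnion₂.1 (ht (show f (f.fiberι s η) ∈ U by
    rw [(f.range_fiberι s).subset (mem_range_self η)]; exact hs))
  refine ⟨c, ?_, hc⟩
  have h1 := (H8Props.FunDescent.cdim_le_fibreDimAt f (f.fiberι s η)).trans
    (show FlatMor.fibreDimAt f (f.fiberι s η) ≤ (k : ℕ) from hxk)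
  rw [← fdim_eq_cdim, fdim_fiberι, hc, Nat.cast_le] at h1
  exact h1.trans (Finset.le_sup (f := id) hk)

/-- Level sets of a bounded set-valued function with constructible membership loci. -/
theorem isLocallyConstructible_setOf_eq {T : Scheme.{u}} (E : T → Set (WithBot ℕ∞))
    (hE : ∀ d : ℕ, IsLocallyConstructible {s : T | (d : WithBot ℕ∞) ∈ E s})
    (hb : ∀ U : T.Opens, IsAffineOpen U → ∃ N : ℕ, ∀ s ∈ U, ∀ e ∈ E s, ∃ n ≤ N, e = n)
    (Φ : Set (WithBot ℕ∞)) : IsLocallyConstructible {s : T | E s = Φ} := by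
  classical
  refine isLocallyConstructible_of_charts fun x => ?_
  obtain ⟨U, hU, hxU, -⟩ := exists_isAffineOpen_mem_and_subset (U := (⊤ : T.Opens)) (x := x) trivial
  refine ⟨_, hU.fromSpec, inferInstance, hU.range_fromSpec.ge hxU, ?_⟩
  obtain ⟨N, hN⟩ := hb U hU
  have hmem : ∀ w, hU.fromSpec w ∈ U := fun w => hU.range_fromSpec.subset (mem_range_self w)
  by_cases hΦ : ∀ e ∈ Φ, ∃ n ≤ N, e = ((n : ℕ) : WithBot ℕ∞)
  · let A : ℕ → Set T := fun d =>
      if ((d : ℕ) : WithBot ℕ∞) ∈ Φ then {s | (d : WithBot ℕ∞) ∈ E s} else {s | (d : WithBot ℕ∞) ∈ E s}ᶜ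
    have hA : ∀ d s, s ∈ A d ↔ ((d : WithBot ℕ∞) ∈ E s ↔ (d : WithBot ℕ∞) ∈ Φ) := fun d s => by
      by_cases h : ((d : ℕ) : WithBot ℕ∞) ∈ Φ <;> simp [A, h]
    have heq : hU.fromSpec ⁻¹' {s : T | E s = Φ} = ⋂ d : Fin (N + 1), hU.fromSpec ⁻¹' A d := by
      ext w
      simp only [mem_iInter, mem_preimage, hA, mem_ofPred_eq]
      refine ⟨fun h d => by rw [h], fun h => Set.ext fun e => ⟨fun he => ?_, fun he => ?_⟩⟩
      · obtain ⟨n, hn, rfl⟩ := hN _ (hmem w) e he
        exact (h ⟨n, Nat.lt_succ_of_le hn⟩).mp he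
      · obtain ⟨n, hn, rfl⟩ := hΦ e he
        exact (h ⟨n, Nat.lt_succ_of_le hn⟩).mpr he
    rw [heq]
    refine (IsLocallyConstructible.iInter fun d => ?_).isConstructible
    refine H7Lim.isLocallyConstructible_preimage ?_ _
    show IsLocallyConstructible (if _ then _ else _)
    split
    exacts [hE d, isLocallyConstructible_compl (hE d)]
  · have heq : hU.fromSpec ⁻¹' {s : T | E s = Φ} = ∅ :=
      eq_empty_of_forall_notMem fun w (hw : E _ = Φ) => hΦ fun e he => hN _ (hmem w) e (hw.symm ▸ he)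
    rw [heq]
    exact IsConstructible.empty

theorem isLocallyConstructible_maxDims_eq (f : X ⟶ S) [LocallyOfFinitePresentation f] [QuasiCompact f]
    {Z : Set X} (hZ : IsLocallyConstructible Z) (Φ : Set (WithBot ℕ∞)) :
    IsLocallyConstructible {s : S | maxDims f Z s = Φ} :=
  isLocallyConstructible_setOf_eq _ (isLocallyConstructible_mem_maxDims f hZ)
    (fun U hU => (exists_bound f hU.isCompact U.2).imp fun N hN s hs e he => by
      obtain ⟨η, -, rfl⟩ := he
      exact hN s hs η) Φ

/-- Dimensions of the components of a subset of the fibre, computed in the fibre scheme. -/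
theorem componentDims_fiber (f : X ⟶ S) [LocallyOfFiniteType f] (Z : Set X) (s : S)
    (hW : IsLocallyClosed (f.fiberι s ⁻¹' Z)) :
    (fun T : Set ↥(f.fiberι s ⁻¹' Z) => topologicalKrullDim ↥T) '' irreducibleComponents ↥(f.fiberι s ⁻¹' Z) =
      maxDims f Z s := by
  haveI := locallyOfFiniteType_fiberToSpec f s
  exact componentDims_eq (f.fiberToSpecResidueField s) hW

/-- Component dimensions are a topological invariant. -/
theorem componentDims_of_homeomorph {A B : Type u} [TopologicalSpace A] [TopologicalSpace B] (e : A ≃ₜ B) :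
    (fun T : Set A => topologicalKrullDim ↥T) '' irreducibleComponents A =
      (fun T : Set B => topologicalKrullDim ↥T) '' irreducibleComponents B := by
  have key : ∀ {A B : Type u} [TopologicalSpace A] [TopologicalSpace B] (e : A ≃ₜ B),
      (fun T : Set B => topologicalKrullDim ↥T) '' irreducibleComponents B ⊆
        (fun T : Set A => topologicalKrullDim ↥T) '' irreducibleComponents A := by
    rintro A B _ _ e _ ⟨T, hT, rfl⟩
    refine ⟨e ⁻¹' T, preimage_mem_irreducibleComponents hT e.isOpenEmbedding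
      (by rw [e.surjective.range_eq, inter_univ]; exact hT.1.nonempty), ?_⟩
    show topologicalKrullDim ↥(e ⁻¹' T) = _
    rw [dim_preimage e.isEmbedding, e.surjective.range_eq, inter_univ]
  exact (key e.symm).antisymm (key e)

end Groth.Agent.H8Norm.FibreComponentDims
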