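import Groth.Agent.H06EGA12.ConstrLoci
import Groth.Agent.H06EGA12.Components
import Groth.Agent.H8Norm.FibreComponentDims

/-!
# Dimensions of the associated prime cycles of the fibres (EGA IV 9.8.3)
-/

set_option autoImplicit false
set_option linter.style.haveILetI false
set_option maxSynthPendingDepth 4
set_option maxHeartbeats 1000000
set_option synthInstance.maxHeartbeats 400000
universe u

open CategoryTheory CategoryTheory.Limits AlgebraicGeometry TopologicalSpace TensorProduct Topology IsLocalRing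

namespace Groth.Agent.H8Norm.AssDims

open H06EGA12

/-- The associated primes of `M` have dimension in `D - t`. -/
def AssDimIn (D : Finset ℕ) (t : ℕ) (A : Type u) [CommRing A] [IsLocalRing A] (M : Type u) [AddCommGroup M]
    [Module A M] : Prop :=
  ∀ P : PrimeSpectrum A, P.asIdeal ∈ associatedPrimes A M →
    ∃ n ∈ D, ringKrullDim (A ⧸ P.asIdeal) + (t : WithBot ℕ∞) = (n : WithBot ℕ∞)

theorem semilinearInvariant_assDimIn (D : Finset ℕ) (t : ℕ) : SemilinearInvariant.{u} (AssDimIn D t) :=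
  fun A O _ _ _ _ φ hφ M N _ _ _ _ e he => by
  have hcolon : ∀ m : M, Submodule.colon (⊥ : Submodule A M) {m} =
      (Submodule.colon (⊥ : Submodule O N) {e m}).comap φ := fun m => by
    ext a
    simp only [Submodule.mem_colon_singleton, Submodule.mem_bot, Ideal.mem_comap, ← he,
      map_eq_zero_iff e e.injective]
  have hass : ∀ P : PrimeSpectrum O, P.asIdeal ∈ associatedPrimes O N ↔
      P.asIdeal.comap φ ∈ associatedPrimes A M := by
    intro P
    constructor
    · rintro ⟨hp, y, hy⟩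
      obtain ⟨m, rfl⟩ := e.surjective y
      exact ⟨Ideal.comap_isPrime φ _, m, by rw [hy, hcolon, Ideal.comap_radical]⟩
    · rintro ⟨-, m, hm⟩
      refine ⟨P.2, e m, Ideal.comap_injective_of_surjective φ hφ ?_⟩
      rw [hm, hcolon, Ideal.comap_radical]
  have hdim : ∀ P : PrimeSpectrum O,
      ringKrullDim (A ⧸ P.asIdeal.comap φ) = ringKrullDim (O ⧸ P.asIdeal) := fun P =>
    ringKrullDim_eq_of_ringEquiv (RingEquiv.ofBijective (Ideal.quotientMap P.asIdeal φ le_rfl)
      ⟨Ideal.quotientMap_injective, Ideal.quotientMap_surjective hφ⟩)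
  constructor
  · intro h P hP
    obtain ⟨hp, m, hm⟩ := hP
    obtain ⟨Q, hQ⟩ : P ∈ Set.range (PrimeSpectrum.comap φ) := by
      rw [range_comap_of_surjective _ _ hφ]
      intro a ha
      refine hm.symm ▸ Ideal.le_radical ?_
      rw [hcolon, Ideal.mem_comap, (RingHom.mem_ker).1 ha]
      exact zero_mem _
    subst hQ
    have h1 := h Q ((hass Q).2 ⟨hp, m, hm⟩)
    rwa [← hdim Q] at h1
  · intro h P hP
    obtain ⟨n, hn, hd⟩ := h ⟨P.asIdeal.comap φ, Ideal.comap_isPrime φ _⟩ ((hass P).1 hP)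
    exact ⟨n, hn, by rwa [← hdim P]⟩

section Field

variable {F : Type u} [CommRing F] (K : Type u) [Field K] [Algebra K F] [Algebra.FiniteType K F]
  [IsDomain F] [IsRegularRing F] {n : ℕ}
  (N : Type u) [AddCommGroup N] [Module F N] [Module.Finite F N]

include K in
theorem assDimIn_iff (D : Finset ℕ) (Q : PrimeSpectrum F) :
    AssDimIn D (tdim Q) (Localization.AtPrime Q.asIdeal) (LocalizedModule Q.asIdeal.primeCompl N) ↔
      ∀ Q', Q' ≤ Q → IsAssPt N Q' → tdim Q' ∈ D := by
  haveI : IsNoetherianRing F := Algebra.FiniteType.isNoetherianRing K F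
  let R := Localization.AtPrime Q.asIdeal
  let L := LocalizedModule Q.asIdeal.primeCompl N
  let c := PrimeSpectrum.comap (algebraMap F R)
  have hle : ∀ P, c P ≤ Q := fun P => (Ideal.comap_mono (IsLocalRing.le_maximalIdeal P.2.ne_top)).trans_eq
    (IsLocalization.AtPrime.under_maximalIdeal R Q.asIdeal)
  have hex : ∀ Q' : PrimeSpectrum F, Q' ≤ Q → ∃ P, c P = Q' := fun Q' h => by
    have hdisj : Disjoint (Q.asIdeal.primeCompl : Set F) Q'.asIdeal :=
      Set.disjoint_left.2 fun z hz hz' => hz (h hz')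
    exact ⟨⟨Q'.asIdeal.map (algebraMap F R),
      IsLocalization.isPrime_of_isPrime_disjoint Q.asIdeal.primeCompl R Q'.asIdeal Q'.2 hdisj⟩,
      PrimeSpectrum.ext (IsLocalization.under_map_of_isPrime_disjoint Q.asIdeal.primeCompl R Q'.2 hdisj)⟩
  have hass : ∀ P : PrimeSpectrum R, P.asIdeal ∈ associatedPrimes R L ↔ IsAssPt N (c P) := fun P => by
    refine Iff.trans ?_ (H1CAlg.maximalIdeal_mem_associatedPrimes_localization_iff (M := N) (c P).asIdeal).symm
    exact (Set.ext_iff.1 (Module.associatedPrimes.preimage_comap_associatedPrimes_eq_associatedPrimes_of_isLocalizedModule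
      (R := F) (M := N) Q.asIdeal.primeCompl R (LocalizedModule.mkLinearMap Q.asIdeal.primeCompl N)) P.asIdeal).symm
  have hdim : ∀ P : PrimeSpectrum R,
      ringKrullDim (R ⧸ P.asIdeal) + (tdim Q : WithBot ℕ∞) = (tdim (c P) : WithBot ℕ∞) := fun P => by
    obtain ⟨s, hs, hst⟩ := exists_dim_quotient_eq K Q P
    rw [hs, ← hst, Nat.cast_add]
  constructor
  · intro h Q' hQ' hQass
    obtain ⟨P, rfl⟩ := hex Q' hQ'
    obtain ⟨m, hm, he⟩ := h P ((hass P).2 hQass)
    rw [hdim] at he
    rwa [show tdim (c P) = m by exact_mod_cast he]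
  · intro h P hP
    exact ⟨_, h _ (hle P) ((hass P).1 hP), hdim P⟩

end Field

theorem affineOpenDim_assDimIn (D : Finset ℕ) : AffineOpenDim.{u} (AssDimIn D) :=
  fun R _ n M _ _ _ _ _ _ => by
  obtain ⟨U, hUo, hU⟩ := exists_open_assDims (R := R) (n := n) M D
  refine ⟨U, hUo, fun K _ _ Q => ?_⟩
  letI : Algebra K ((MvPolynomial (Fin n) R) ⊗[R] K) := Algebra.TensorProduct.rightAlgebra
  obtain ⟨_, _, _, h4⟩ := polynomial_fibre (R := R) (n := n) K
  exact (assDimIn_iff K _ D Q).trans (hU K Q)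

variable {X S : Scheme.{u}} (f : X ⟶ S) (F : X.Modules)

/-- The dimensions of the associated prime cycles of the fibre over `s`. -/
def assDims (s : S) : Set (WithBot ℕ∞) :=
  (fun z : ↥(f.fiber s) => topologicalKrullDim ↥(closure ({z} : Set ↥(f.fiber s)))) ''
    AssSch.Ass ((Scheme.Modules.pullback (f.fiberι s)).obj F)

variable {f F}

theorem onFibreDim_assDimIn_iff [LocallyOfFinitePresentation f] (hF : CohB1.IsFP F) (D : Finset ℕ) {s : S}
    (z : f.fiber s) :
    OnFibreDim f F (AssDimIn D) z ↔ ∀ z' ∈ AssSch.Ass ((Scheme.Modules.pullback (f.fiberι s)).obj F),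
      z' ⤳ z → ∃ n ∈ D, topologicalKrullDim (closure ({z'} : Set (f.fiber s))) = (n : WithBot ℕ∞) := by
  obtain ⟨c, hc⟩ := exists_chart f F hF (f.fiberι s z)
  obtain ⟨p, Q, hQ⟩ := c.exists_corr z hc
  letI : Algebra p.asIdeal.ResidueField (c.Fib p) := Algebra.TensorProduct.rightAlgebra
  obtain ⟨_, _, _, h4⟩ := polynomial_fibre (R := c.R) (n := c.n) p.asIdeal.ResidueField
  have h1 : OnFibreDim f F (AssDimIn D) z ↔
      ∀ Q', Q' ≤ Q → IsAssPt ((c.Fib p) ⊗[MvPolynomial (Fin c.n) c.R] c.M) Q' → tdim Q' ∈ D := by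
    unfold OnFibreDim
    rw [hQ.cdim_eq]
    exact (hQ.onFibre_iff (semilinearInvariant_assDimIn D _)).trans (assDimIn_iff p.asIdeal.ResidueField _ D Q)
  rw [h1]
  constructor
  · intro H z' hz' hsp
    obtain ⟨Q', hle, hc'⟩ := hQ.exists_of_specializes hsp
    exact ⟨_, H Q' hle ((isAssPt_iff_mem_ass hc').1 hz'), hc'.cdim_eq⟩
  · intro H Q' hle hass
    obtain ⟨z', hz', hc'⟩ := hQ.exists_of_le hle (mem_support_of_isAssPt hass)
    obtain ⟨n, hn, hdim⟩ := H z' ((isAssPt_iff_mem_ass hc').2 hass) hz'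
    rw [show topologicalKrullDim (closure ({z'} : Set (f.fiber s))) = _ from hc'.cdim_eq] at hdim
    rwa [show tdim Q' = n by exact_mod_cast hdim]

variable [LocallyOfFinitePresentation f] [QuasiCompact f]

theorem isLocallyConstructible_assDims_subset (hF : CohB1.IsFP F) (D : Finset ℕ) :
    IsLocallyConstructible {s : S | ∀ e ∈ assDims f F s, ∃ n ∈ D, e = ((n : ℕ) : WithBot ℕ∞)} := by
  let A := {x : X | OnFibreDim f F (AssDimIn D) (f.asFiber x)}
  have hA : IsLocallyConstructible A :=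
    isLocallyConstructible_onFibreDim f F hF (semilinearInvariant_assDimIn D) (affineOpenDim_assDimIn D)
  have heq : {s : S | ∀ e ∈ assDims f F s, ∃ n ∈ D, e = ((n : ℕ) : WithBot ℕ∞)} = (f '' Aᶜ)ᶜ := by
    ext s
    constructor
    · rintro h ⟨x, hx, rfl⟩
      exact hx ((onFibreDim_assDimIn_iff hF D _).2 fun z' hz' _ => h _ ⟨z', hz', rfl⟩)
    · rintro h e ⟨z, hz, rfl⟩
      have hP := (property_iff_asFiber (fun _ w => OnFibreDim f F (AssDimIn D) w) z _ rfl).2
        (not_not.1 fun hx => h ⟨f.fiberι s z, hx, (f.range_fiberι s).subset (Set.mem_range_self z)⟩)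
      exact (onFibreDim_assDimIn_iff hF D z).1 hP z hz specializes_rfl
  rw [heq]
  exact FibreComponentDims.isLocallyConstructible_compl
    (f.isLocallyConstructible_image (FibreComponentDims.isLocallyConstructible_compl hA))

/-- Associated-cycle dimensions have constructible level sets. -/
theorem isLocallyConstructible_assDims_eq (hF : CohB1.IsFP F) (Φ : Finset ℕ) :
    IsLocallyConstructible {s : S | assDims f F s = (fun n : ℕ => (n : WithBot ℕ∞)) '' (Φ : Set ℕ)} := by
  classical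
  have key : {s : S | assDims f F s = (fun n : ℕ => (n : WithBot ℕ∞)) '' (Φ : Set ℕ)} =
      {s : S | ∀ e ∈ assDims f F s, ∃ n ∈ Φ, e = ((n : ℕ) : WithBot ℕ∞)} ∩
        ⋂ k : Φ, {s : S | ∀ e ∈ assDims f F s, ∃ n ∈ Φ.erase k, e = ((n : ℕ) : WithBot ℕ∞)}ᶜ := by
    ext s
    simp only [Set.mem_ofPred_eq, Set.mem_inter_iff, Set.mem_iInter, Set.mem_compl_iff]
    constructor
    · intro h
      refine ⟨fun e he => ?_, fun k hk => ?_⟩
      · rw [h] at he
        obtain ⟨n, hn, rfl⟩ := he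
        exact ⟨n, hn, rfl⟩
      · obtain ⟨n, hn, hkn⟩ := hk (k.1 : WithBot ℕ∞) (h.symm ▸ ⟨k.1, k.2, rfl⟩)
        have hnk : n = k.1 := by exact_mod_cast hkn.symm
        exact (Finset.mem_erase.1 hn).1 hnk
    · rintro ⟨h1, h2⟩
      refine Set.Subset.antisymm (fun e he => ?_) ?_
      · obtain ⟨n, hn, rfl⟩ := h1 e he
        exact ⟨n, hn, rfl⟩
      · rintro _ ⟨n, hn, rfl⟩
        by_contra hcon
        refine h2 ⟨n, hn⟩ fun e he => ?_
        obtain ⟨m, hm, rfl⟩ := h1 e he
        exact ⟨m, Finset.mem_erase.2 ⟨fun hmn => hcon (by cases hmn; exact he), hm⟩, rfl⟩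
  rw [key]
  exact (isLocallyConstructible_assDims_subset hF Φ).inter (IsLocallyConstructible.iInter fun k =>
    FibreComponentDims.isLocallyConstructible_compl (isLocallyConstructible_assDims_subset hF _))

end Groth.Agent.H8Norm.AssDims
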