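import Groth.Agent.H8Norm.RelAssSpec
import Groth.Agent.H8Props.Devissage.Points
import Groth.Agent.H06EGA14.EquidimStalk
import Groth.Agent.H06EGA14.ValuationDim
import Groth.Agent.H06Mod.StalkBaseChange
import Groth.Agent.S1481

/-!
# The closure of a relative associated point has constant fibre dimension where the module is flat
-/

set_option autoImplicit false
set_option linter.style.haveILetI false
universe u

open CategoryTheory CategoryTheory.Limits AlgebraicGeometry TopologicalSpace Topology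

namespace Groth.Agent.H8Norm

open H8Props.FieldDim H06EGA14

set_option backward.isDefEq.respectTransparency false in
/-- At a point of flatness which is generic in the fibre of the closure of a relative associated point
`y`, we find a relative associated point whose closure has the same fibre dimension as that of `y`. -/
theorem relAss_and_cdim_eq {X S : Scheme.{u}} (f : X ⟶ S) [LocallyOfFiniteType f] (F : X.Modules)
    (hF : Coh.IsQCoh F) (hFt : CohB1.IsFT F) {y x : X} (hy : y ∈ MoreMor.relAss f F) (hyx : y ⤳ x)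
    (hgen : ∀ z : X, y ⤳ z → f z = f x → z ⤳ x → z = x) (hfl : FlatMod.IsFlatOverAt f F x) :
    x ∈ MoreMor.relAss f F ∧ cdim (f.asFiber x) = cdim (f.asFiber y) := by
  have hxass : x ∈ MoreMor.relAss f F := by
    obtain ⟨z, hz, hyz, hzx, hfz⟩ := exists_relAss_between f F hF hFt hy hyx hfl
    rwa [← hgen z hyz hfz hzx]
  refine ⟨hxass, ?_⟩
  let Z : Closeds X := Closeds.closure {y}
  let ι := (Scheme.IdealSheafData.vanishingIdeal Z).subschemeι
  have hr : Set.range ι = closure {y} := by
    show Set.range (Scheme.IdealSheafData.vanishingIdeal Z).subschemeι = _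
    rw [Scheme.IdealSheafData.range_subschemeι, Scheme.IdealSheafData.coe_support_vanishingIdeal]
    rfl
  haveI : IsClosedImmersion ι := inferInstance
  -- the fibre dimension does not drop
  have hge : cdim (f.asFiber y) ≤ cdim (f.asFiber x) := by
    obtain ⟨a, ha⟩ : x ∈ Set.range ι := hr ▸ hyx.mem_closure
    obtain ⟨b, hb⟩ : y ∈ Set.range ι := hr ▸ subset_closure rfl
    have hba : b ⤳ a := ι.isEmbedding.isInducing.specializes_iff.1 (by rwa [ha, hb])
    have hmax : ∀ a', (ι ≫ f) a' = (ι ≫ f) a → a' ⤳ a → a' = a := fun a' h1 h2 => by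
      apply ι.isEmbedding.injective
      rw [ha]
      refine hgen _ (specializes_iff_mem_closure.2 (hr ▸ Set.mem_range_self a')) ?_ (ha ▸ h2.map ι.continuous)
      rwa [Scheme.Hom.comp_apply, Scheme.Hom.comp_apply, ha] at h1
    rw [← ha, ← hb, ← cdim_asFiber_comp_closedImmersion ι f, ← cdim_asFiber_comp_closedImmersion ι f,
      cdim_asFiber_eq_fibreDimAt_of_fibre (ι ≫ f) a hmax]
    exact (H06Equidim.cdim_asFiber_le_fibreDimAt _ b).trans (fibreDimAt_le_of_specializes _ hba)
  refine le_antisymm ?_ hge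
  -- base change to a valuation ring
  have hgen' : ∃ C ∈ irreducibleComponents ↥(closure ({y} : Set ↑X) ∩ f ⁻¹' {f x}),
      IsGenericPoint (⟨x, hyx.mem_closure, rfl⟩ : ↥(closure ({y} : Set ↑X) ∩ f ⁻¹' {f x})) C := by
    let x0 : ↥(closure ({y} : Set ↑X) ∩ f ⁻¹' {f x}) := ⟨x, hyx.mem_closure, rfl⟩
    refine ⟨closure {x0}, ⟨isIrreducible_singleton.closure, fun T hT hxT => ?_⟩, isGenericPoint_closure⟩
    haveI : QuasiSober ↥(closure ({y} : Set ↑X) ∩ f ⁻¹' {f x}) := by
      let φ : (ι ≫ f).fiber (f x) ≃ₜ ↥(closure ({y} : Set ↑X) ∩ f ⁻¹' {f x}) :=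
        ((ι.isEmbedding.comp ((ι ≫ f).fiberι (f x)).isEmbedding).toHomeomorph).trans
          (Homeomorph.setCongr (by
            rw [Set.range_comp, (ι ≫ f).range_fiberι, ← hr, Set.inter_comm,
              show ⇑(ι ≫ f) ⁻¹' {f x} = ι ⁻¹' (f ⁻¹' {f x}) from rfl, Set.image_preimage_eq_inter_range]))
      exact φ.symm.isClosedEmbedding.quasiSober
    intro w hw
    have hTc : IsIrreducible (closure T) := hT.closure
    have hg := hTc.isGenericPoint_genericPoint isClosed_closure
    have hxc : (⟨x, hyx.mem_closure, rfl⟩ : ↥(closure ({y} : Set ↑X) ∩ f ⁻¹' {f x})) ∈ closure T :=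
      subset_closure (hxT (subset_closure rfl))
    have h1 := hgen _ (specializes_iff_mem_closure.2 hTc.genericPoint.2.1) hTc.genericPoint.2.2
      ((hg.specializes hxc).map continuous_subtype_val)
    have h2 := (hg.specializes (subset_closure hw))
    rw [show hTc.genericPoint = (⟨x, hyx.mem_closure, rfl⟩ : ↥(closure ({y} : Set ↑X) ∩ f ⁻¹' {f x})) from
      Subtype.ext h1] at h2
    exact h2.mem_closure
  obtain ⟨R, _, _, _, g, hg0, hgc, y', hy't, hy'Y, hy', hy'gen, x', hx'c, hx's, hx', hx'gen⟩ :=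
    Groth.Agent.S1481.result f y (f x) x hyx.mem_closure rfl hgen'
  let f' := pullback.snd f g
  let F' := (Scheme.Modules.pullback (pullback.fst f g)).obj F
  have hc : IsPullback (pullback.fst f g) f' f g := IsPullback.of_hasPullback f g
  have hF' : Coh.IsQCoh F' := H29Fitt.isQCoh_pullback _ F hF
  have hFt' : CohB1.IsFT F' := H29Fitt.isFT_pullback _ F hF hFt
  haveI : Coh.IsQCoh F := hF
  have hy'max : ∀ z : ↑(pullback f g), z ⤳ y' → f' z = f' y' → pullback.fst f g z = pullback.fst f g y' →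
      z = y' := by
    obtain ⟨C, hC, hCy⟩ := hy'gen
    intro z hzy hz1 hz2
    let z' : ↥((pullback.fst f g) ⁻¹' closure ({y} : Set ↑X) ∩ (pullback.snd f g) ⁻¹' {(⊥ : PrimeSpectrum R)}) :=
      ⟨z, by rw [Set.mem_preimage, hz2, hy']; exact subset_closure rfl, hz1.trans hy't⟩
    have h1 : z' ⤳ ⟨y', hy'Y, hy't⟩ := (IsEmbedding.subtypeVal.isInducing.specializes_iff).1 hzy
    have h2 : C ≤ closure {z'} := by
      rw [← hCy.def]
      exact h1.closure_subset
    have h4 : IsGenericPoint z' C := le_antisymm (hC.le_of_ge isIrreducible_singleton.closure h2) h2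
    exact congrArg Subtype.val (h4.eq hCy)
  have hy'ass : y' ∈ MoreMor.relAss f' F' :=
    relAss_of_maximal_over f hc F y' (by rw [hy']; exact hy) hy'max
  have hx'flat : FlatMod.IsFlatOverAt f' F' x' := by
    refine H06Mod.isFlatOverAt_baseChange f g F x' ?_
    show FlatMod.IsFlatOverAt f F (pullback.fst f g x')
    rwa [hx']
  have hy'x' : y' ⤳ x' := specializes_iff_mem_closure.2 hx'c
  have hx'max : ∀ z, y' ⤳ z → f' z = f' x' → z ⤳ x' → z = x' := by
    obtain ⟨C, hC, hCx⟩ := hx'gen
    intro z hz hzs hzx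
    let z' : ↥(closure ({y'} : Set ↑(pullback f g)) ∩ (pullback.snd f g) ⁻¹' {IsLocalRing.closedPoint R}) :=
      ⟨z, hz.mem_closure, hzs.trans hx's⟩
    have h1 : z' ⤳ ⟨x', hx'c, hx's⟩ := (IsEmbedding.subtypeVal.isInducing.specializes_iff).1 hzx
    have h2 : C ≤ closure {z'} := by
      rw [← hCx.def]
      exact h1.closure_subset
    have h4 : IsGenericPoint z' C := le_antisymm (hC.le_of_ge isIrreducible_singleton.closure h2) h2
    exact congrArg Subtype.val (h4.eq hCx)
  have hx'ass : x' ∈ MoreMor.relAss f' F' := by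
    obtain ⟨z, hz, hyz, hzx, hfz⟩ := exists_relAss_between f' F' hF' hFt' hy'ass hy'x' hx'flat
    rwa [← hx'max z hyz hfz hzx]
  have hdx : cdim (f'.asFiber x') = cdim (f.asFiber x) := by
    rw [cdim_asFiber_of_maximal_over f hc x' fun z h1 h2 h3 => relAss_maximal_over f hc F x' hx'ass z h1 h2 h3]
    exact congrArg (fun p => cdim (f.asFiber p)) hx'
  have hdy : cdim (f'.asFiber y') = cdim (f.asFiber y) := by
    rw [cdim_asFiber_of_maximal_over f hc y' hy'max]
    exact congrArg (fun p => cdim (f.asFiber p)) hy'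
  rw [← hdx, ← hdy]
  exact cdim_asFiber_le_of_valuationRing (A := CommRingCat.of R) f' x' y' hy'x' hy't

set_option backward.isDefEq.respectTransparency false in
/-- The local dimension of the fibre of the closure of `y` at a generic point of that fibre. -/
theorem localDim_closure_inter_eq {X S : Scheme.{u}} (f : X ⟶ S) [LocallyOfFiniteType f] {y x : X}
    (hx : x ∈ closure ({y} : Set ↑X) ∩ f ⁻¹' {f x})
    (hgen : ∀ z : X, y ⤳ z → f z = f x → z ⤳ x → z = x) :
    FlatMor.localDim ↥(closure ({y} : Set ↑X) ∩ f ⁻¹' {f x}) ⟨x, hx⟩ = cdim (f.asFiber x) := by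
  let Z : Closeds X := Closeds.closure {y}
  let ι := (Scheme.IdealSheafData.vanishingIdeal Z).subschemeι
  have hr : Set.range ι = closure {y} := by
    show Set.range (Scheme.IdealSheafData.vanishingIdeal Z).subschemeι = _
    rw [Scheme.IdealSheafData.range_subschemeι, Scheme.IdealSheafData.coe_support_vanishingIdeal]
    rfl
  obtain ⟨a, ha⟩ : x ∈ Set.range ι := hr ▸ hx.1
  have hmax : ∀ a', (ι ≫ f) a' = (ι ≫ f) a → a' ⤳ a → a' = a := fun a' h1 h2 => by
    apply ι.isEmbedding.injective
    rw [ha]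
    refine hgen _ (specializes_iff_mem_closure.2 (hr ▸ Set.mem_range_self a')) ?_ (ha ▸ h2.map ι.continuous)
    rwa [Scheme.Hom.comp_apply, Scheme.Hom.comp_apply, ha] at h1
  subst ha
  rw [← cdim_asFiber_comp_closedImmersion ι f, cdim_asFiber_eq_fibreDimAt_of_fibre (ι ≫ f) a hmax]
  let φ : (ι ≫ f).fiber ((ι ≫ f) a) ≃ₜ ↥(closure ({y} : Set ↑X) ∩ f ⁻¹' {f (ι a)}) :=
    ((ι.isEmbedding.comp ((ι ≫ f).fiberι ((ι ≫ f) a)).isEmbedding).toHomeomorph).trans
      (Homeomorph.setCongr (by
        rw [Set.range_comp, (ι ≫ f).range_fiberι, ← hr, Set.inter_comm,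
          show ⇑(ι ≫ f) ⁻¹' {(ι ≫ f) a} = ι ⁻¹' (f ⁻¹' {f (ι a)}) from rfl, Set.image_preimage_eq_inter_range]))
  have hφ : φ ((ι ≫ f).asFiber a) = ⟨ι a, hx⟩ :=
    Subtype.ext (congrArg ι ((ι ≫ f).fiberι_asFiber a))
  rw [← hφ]
  exact H8Props.Devissage.localDim_homeomorph φ _

end Groth.Agent.H8Norm
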