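import Groth.Agent.H8Norm.AssDims
import Groth.Agent.H8Norm.RelAssDim
import Groth.Agent.H8Props.FlatGen.Fibre
import Groth.Agent.H17.AssFlatSch
import Groth.Agent.H12AlgSp.UnivInj
import Groth.Agent.S4799
import Groth.Agent.H7Flat.GenericFibreComponents

/-!
# Associated points of the fibres near the generic point (EGA IV 9.8.3)
-/

set_option autoImplicit false
set_option linter.style.haveILetI false
set_option backward.isDefEq.respectTransparency false
universe u

open CategoryTheory CategoryTheory.Limits AlgebraicGeometry Topology Set TopologicalSpace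

namespace Groth.Agent.H8Norm.AssGeneric

open H8Props.FieldDim H06EGA9

variable {X S : Scheme.{u}} (f : X ⟶ S)

/-- The maximal points of the trace of the closure of `y` on the fibre over `s`. -/
def maxPts (y : X) (s : S) : Set (f.fiber s) :=
  {z | z ∈ f.fiberι s ⁻¹' closure {y} ∧ ∀ z' ∈ f.fiberι s ⁻¹' closure {y}, z' ⤳ z → z' = z}

theorem apply_fiberι {s : S} (z : f.fiber s) : f (f.fiberι s z) = s :=
  (f.range_fiberι s).subset (mem_range_self z)

theorem maxPts_maximal {y : X} {s : S} {z : f.fiber s} (hz : z ∈ maxPts f y s) :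
    ∀ w : X, y ⤳ w → f w = f (f.fiberι s z) → w ⤳ f.fiberι s z → w = f.fiberι s z := by
  intro w hyw hfw hwz
  obtain ⟨v, rfl⟩ : w ∈ range (f.fiberι s) := (f.range_fiberι s).ge (hfw.trans (apply_fiberι f z))
  exact congrArg _ (hz.2 v hyw.mem_closure ((f.fiberι s).isEmbedding.isInducing.specializes_iff.mp hwz))

/-- A constructible set missing the generic fibre misses the fibres near it. -/
theorem exists_open_avoid [IsIntegral S] [IsNoetherian S] [LocallyOfFinitePresentation f] [QuasiCompact f]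
    {E : Set X} (hE : IsLocallyConstructible E) (h : ∀ x ∈ E, f x ≠ genericPoint S) :
    ∃ U : Set S, IsOpen U ∧ genericPoint S ∈ U ∧ ∀ x ∈ E, f x ∉ U := by
  have hc := (f.isLocallyConstructible_image hE).isConstructible.compl
  obtain ⟨V, hV, ⟨z, hz, -⟩, hVE⟩ := H28Top.IsConstructible.exists_isOpen_inter_subset hc
    (IrreducibleSpace.isIrreducible_univ S) (by
      rw [inter_univ, ← (genericPoint_spec S).def]
      exact closure_mono (singleton_subset_iff.2 fun ⟨x, hx, hfx⟩ => h x hx hfx))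
  exact ⟨V, hV, (genericPoint_specializes z).mem_open hV hz, fun x hx hfx => hVE ⟨hfx, trivial⟩ ⟨x, hx, rfl⟩⟩

variable (F : X.Modules)

theorem exists_nhd_ass [IsIntegral S] [IsNoetherian S] [LocallyOfFiniteType f] [QuasiCompact f]
    (hFq : Coh.IsQCoh F) (hF : CohB1.IsFP F) :
    ∃ U : S.Opens, genericPoint S ∈ U ∧ ∀ s ∈ U,
      (AssSch.Ass ((Scheme.Modules.pullback (f.fiberι s)).obj F) =
          ⋃ x ∈ AssSch.Ass ((Scheme.Modules.pullback (f.fiberι (genericPoint S))).obj F),
            maxPts f (f.fiberι (genericPoint S) x) s) ∧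
      (∀ x ∈ AssSch.Ass ((Scheme.Modules.pullback (f.fiberι (genericPoint S))).obj F),
        ∀ x' ∈ AssSch.Ass ((Scheme.Modules.pullback (f.fiberι (genericPoint S))).obj F), x ≠ x' →
          Disjoint (maxPts f (f.fiberι (genericPoint S) x) s) (maxPts f (f.fiberι (genericPoint S) x') s)) ∧
      (∀ x ∈ AssSch.Ass ((Scheme.Modules.pullback (f.fiberι (genericPoint S))).obj F),
        ∀ z ∈ maxPts f (f.fiberι (genericPoint S) x) s,
          ((∀ w ∈ AssSch.Ass ((Scheme.Modules.pullback (f.fiberι s)).obj F), w ⤳ z → w = z) ↔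
            (∀ w ∈ AssSch.Ass ((Scheme.Modules.pullback (f.fiberι (genericPoint S))).obj F), w ⤳ x → w = x))) := by
  classical
  haveI : LocallyOfFinitePresentation f := H12AlgSp.lfp_of_lft_of_isLocallyNoetherian f
  haveI : Coh.IsQCoh F := hFq
  haveI : IsNoetherian X := H17.ConsProp.isNoetherian_of_finiteType f
  have hFt : CohB1.IsFT F := H29Fitt.isFT_of_isFP F hF
  set η := genericPoint S
  let A := {y : X | y ∈ MoreMor.relAss f F ∧ f y = η}
  have hass : ∀ {s : S} (z : f.fiber s), z ∈ AssSch.Ass ((Scheme.Modules.pullback (f.fiberι s)).obj F) ↔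
      f.fiberι s z ∈ MoreMor.relAss f F := fun {s} z => H17.AssFlat.mem_ass_fibre_iff f F s z
  have hAfin : A.Finite := by
    obtain ⟨V, hV, hηV, -⟩ := exists_isAffineOpen_mem_and_subset (U := (⊤ : S.Opens)) (x := η) trivial
    obtain ⟨G, hG, hGV, hGcov⟩ := H7Flat.GenericFibre.exists_affine_cover f hV
    refine (hG.biUnion fun W _ => H8Props.FlatGen.finite_relAss_fibre f F hFq hFt η hV
      (W : X.affineOpens).2 (U := W.1) ?_).subset ?_ (t := A)
    · exact hGV W ‹_›
    · rintro y ⟨hy, hfy⟩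
      obtain ⟨W, hW, hyW⟩ := hGcov y (show f y ∈ V from hfy ▸ hηV)
      exact mem_iUnion₂.2 ⟨W, hW, hyW, hfy, hy⟩
  haveI := hAfin.to_subtype
  have hnat : ∀ x : X, ∃ d : ℕ, fdim f x = d := fun x => by
    haveI := locallyOfFiniteType_fiberToSpec f (f x)
    rw [fdim_eq_cdim]
    exact exists_nat_cdim (f.fiberToSpecResidueField (f x)) _
  choose d hd using hnat
  have hlt : ∀ x w : X, x ⤳ w → f w = f x → x ≠ w → d w < d x := fun x w h hf hne => by
    have := fdim_lt f h hf hne
    rw [hd, hd] at this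
    exact_mod_cast this
  -- flatness
  obtain ⟨U₀, hU₀ne, hflat⟩ := S4799.result f F hF
  have hηU₀ : η ∈ U₀ := by
    obtain ⟨t, ht⟩ := hU₀ne
    exact (genericPoint_specializes t).mem_open U₀.2 ht
  obtain ⟨N, hN⟩ := FibreComponentDims.exists_bound f (U := (univ : Set S)) isCompact_univ isOpen_univ
  have hdN : ∀ x, d x ≤ N := fun x => by
    obtain ⟨n, hn, hn'⟩ := hN (f x) trivial (f.asFiber x)
    rw [← fdim_eq_cdim, hd] at hn'
    exact (show d x = n by exact_mod_cast hn') ▸ hn
  -- the associated points of each dimension lie over those of the generic fibre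
  have hW : ∀ n : Fin (N + 1), ∃ U : Set S, IsOpen U ∧ η ∈ U ∧
      ∀ x ∈ MoreMor.relAss f F, f x ∈ U → d x = n → ∃ y ∈ A, d y = n ∧ y ⤳ x := by
    intro n
    let D : Finset ℕ := (Finset.range (N + 1)).erase n
    let W : Set X := ⋃ y : {y : A // d y.1 = (n : ℕ)}, closure {y.1.1}
    have hWc : IsClosed W := isClosed_iUnion_of_finite fun y => isClosed_closure
    let C : Set X := {x | H06EGA12.OnFibreDim f F (AssDims.AssDimIn D) (f.asFiber x)}ᶜ
    have hC : IsLocallyConstructible C := FibreComponentDims.isLocallyConstructible_compl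
      (H06EGA12.isLocallyConstructible_onFibreDim f F hF (AssDims.semilinearInvariant_assDimIn D)
        (AssDims.affineOpenDim_assDimIn D))
    have hmemC : ∀ x, x ∈ C ↔ ∃ w ∈ MoreMor.relAss f F, f w = f x ∧ w ⤳ x ∧ d w = n := by
      intro x
      simp only [C, mem_compl_iff, mem_ofPred_eq, AssDims.onFibreDim_assDimIn_iff hF]
      have hdz : ∀ z' : f.fiber (f x), topologicalKrullDim ↥(closure ({z'} : Set (f.fiber (f x)))) =
          (d (f.fiberι (f x) z') : WithBot ℕ∞) := fun z' => by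
        rw [← hd, FibreComponentDims.fdim_fiberι]
        rfl
      constructor
      · intro h
        push Not at h
        obtain ⟨z', hz', hsp, hnd⟩ := h
        refine ⟨f.fiberι (f x) z', (hass z').1 hz', apply_fiberι f z', ?_, ?_⟩
        · have := hsp.map (f.fiberι (f x)).continuous
          rwa [f.fiberι_asFiber] at this
        · by_contra hne
          exact hnd _ (Finset.mem_erase.2 ⟨hne, Finset.mem_range.2 (Nat.lt_succ_of_le (hdN _))⟩) (hdz z')
      · rintro ⟨w, hw, hfw, hwx, hwn⟩ h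
        obtain ⟨v, rfl⟩ : w ∈ range (f.fiberι (f x)) := (f.range_fiberι (f x)).ge hfw
        obtain ⟨m, hm, hme⟩ := h v ((hass v).2 hw) ((f.fiberι (f x)).isEmbedding.isInducing.specializes_iff.mp
          (by rwa [f.fiberι_asFiber]))
        rw [hdz, hwn, Nat.cast_inj] at hme
        exact (Finset.mem_erase.1 hm).1 hme.symm
    obtain ⟨U, hU, hηU, hav⟩ := exists_open_avoid f
      (hC.inter (H28Top.isConstructible_of_isClosed hWc).compl.isLocallyConstructible) (by
        rintro x ⟨hxC, hxW⟩ hfx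
        obtain ⟨w, hw, hfw, hwx, hwn⟩ := (hmemC x).1 hxC
        exact hxW (mem_iUnion.2 ⟨⟨⟨w, hw, hfw.trans hfx⟩, hwn⟩, hwx.mem_closure⟩))
    refine ⟨U, hU, hηU, fun x hx hfx hxn => ?_⟩
    have hxW : x ∈ W := by
      by_contra hc
      exact hav x ⟨(hmemC x).2 ⟨x, hx, rfl, specializes_rfl, hxn⟩, hc⟩ hfx
    obtain ⟨⟨y, hy⟩, hyx⟩ := mem_iUnion.1 hxW
    exact ⟨y.1, y.2, hy, specializes_iff_mem_closure.2 hyx⟩
  choose UW hUW hηUW hWU using hW
  -- the closures of distinct associated points share no big component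
  have hP : ∀ p : {p : A × A // ¬ p.2.1 ⤳ p.1.1}, ∃ U : Set S, IsOpen U ∧ η ∈ U ∧
      ∀ x, p.1.1.1 ⤳ x → p.1.2.1 ⤳ x → f x ∈ U → d x < d p.1.1.1 := by
    rintro ⟨⟨⟨y, hy⟩, ⟨y', hy'⟩⟩, hne⟩
    have hcl : IsClosed (closure {y} ∩ closure {y'} : Set X) := isClosed_closure.inter isClosed_closure
    obtain ⟨U, hU, hηU, hav⟩ := exists_open_avoid f
      (FibreComponentDims.isLocallyConstructible_genDim f
        (H28Top.isConstructible_of_isClosed hcl).isLocallyConstructible (FibreComponentDims.below (d y))) (by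
        rintro x ⟨w, ⟨hw1, hw2⟩, hfw, -, hlw⟩ hfx
        rw [hd, FibreComponentDims.below_lt_iff] at hlw
        have hyw : y ⤳ w := specializes_iff_mem_closure.2 hw1
        have hne' : y ≠ w := fun e => hne (specializes_iff_mem_closure.2 (e ▸ hw2))
        exact absurd (hlt y w hyw (hfw.trans (hfx.trans hy.2.symm)) hne') (not_lt.2 hlw))
    refine ⟨U, hU, hηU, fun x h1 h2 hfx => ?_⟩
    by_contra hc
    refine hav x ⟨x, ⟨h1.mem_closure, h2.mem_closure⟩, rfl, specializes_rfl, ?_⟩ hfx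
    rw [hd, FibreComponentDims.below_lt_iff]
    exact not_lt.1 hc
  choose UP hUP hηUP hPU using hP
  let U : S.Opens := ⟨(U₀ : Set S) ∩ ((⋂ n, UW n) ∩ ⋂ p, UP p),
    U₀.2.inter ((isOpen_iInter_of_finite hUW).inter (isOpen_iInter_of_finite hUP))⟩
  refine ⟨U, ⟨hηU₀, mem_iInter.2 hηUW, mem_iInter.2 hηUP⟩, fun s hs => ?_⟩
  obtain ⟨hs0, hsW, hsP⟩ := hs
  have hA : ∀ {x : f.fiber η}, x ∈ AssSch.Ass ((Scheme.Modules.pullback (f.fiberι η)).obj F) →
      f.fiberι η x ∈ A := fun {x} hx => ⟨(hass x).1 hx, apply_fiberι f x⟩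
  have hAiff : ∀ {y : X}, y ∈ A → ∃ x : f.fiber η, f.fiberι η x = y ∧
      x ∈ AssSch.Ass ((Scheme.Modules.pullback (f.fiberι η)).obj F) := fun {y} hy => by
    obtain ⟨x, rfl⟩ : y ∈ range (f.fiberι η) := (f.range_fiberι η).ge hy.2
    exact ⟨x, rfl, (hass x).2 hy.1⟩
  have hmem : ∀ {y : X}, y ∈ A → ∀ {z : f.fiber s}, z ∈ maxPts f y s →
      z ∈ AssSch.Ass ((Scheme.Modules.pullback (f.fiberι s)).obj F) ∧ d (f.fiberι s z) = d y := by
    intro y hy z hz
    obtain ⟨h1, h2⟩ := relAss_and_cdim_eq f F hFq hFt hy.1 (specializes_iff_mem_closure.2 hz.1)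
      (maxPts_maximal f hz) (hflat _ (by rw [apply_fiberι]; exact hs0))
    rw [← fdim_eq_cdim, ← fdim_eq_cdim, hd, hd] at h2
    exact ⟨(hass z).2 h1, by exact_mod_cast h2⟩
  have hgen : ∀ {y : X}, ∀ {z : f.fiber s}, y ⤳ f.fiberι s z →
      ∃ z₀ ∈ maxPts f y s, z₀ ⤳ z := by
    intro y z hz
    obtain ⟨x', hx', hfx', hsp, hmax⟩ := exists_maximal f (closure {y}) isClosed_closure _ hz.mem_closure
    rw [apply_fiberι] at hfx'
    obtain ⟨v, rfl⟩ : x' ∈ range (f.fiberι s) := (f.range_fiberι s).ge hfx'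
    refine ⟨v, ⟨hx', fun z' hz' hzv => (f.fiberι s).isEmbedding.injective ?_⟩,
      (f.fiberι s).isEmbedding.isInducing.specializes_iff.mp hsp⟩
    exact hmax _ hz' (by rw [apply_fiberι, apply_fiberι]) (hzv.map (f.fiberι s).continuous)
  refine ⟨Subset.antisymm (fun z hz => ?_) (iUnion₂_subset fun x hx z hz => (hmem (hA hx) hz).1), ?_, ?_⟩
  · obtain ⟨y, hy, hyn, hyz⟩ := hWU ⟨d (f.fiberι s z), Nat.lt_succ_of_le (hdN _)⟩ _ ((hass z).1 hz)
      (by rw [apply_fiberι]; exact mem_iInter.1 hsW _) rfl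
    obtain ⟨z₀, hz₀, hsp⟩ := hgen hyz
    have he : z₀ = z := by
      by_contra hne
      have h1 := hlt _ _ (hsp.map (f.fiberι s).continuous) (by rw [apply_fiberι, apply_fiberι])
        fun e => hne ((f.fiberι s).isEmbedding.injective e)
      rw [(hmem hy hz₀).2, hyn] at h1
      exact lt_irrefl _ h1
    subst he
    obtain ⟨x, rfl, hx⟩ := hAiff hy
    exact mem_iUnion₂.2 ⟨x, hx, hz₀⟩
  · intro x hx x' hx' hne
    refine disjoint_left.2 fun z hz hz' => ?_
    have h1 := (hmem (hA hx) hz).2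
    have h2 := (hmem (hA hx') hz').2
    have hns : ¬ f.fiberι η x' ⤳ f.fiberι η x := fun hsp => by
      have := hlt _ _ hsp (by rw [apply_fiberι, apply_fiberι])
        fun e => hne ((f.fiberι η).isEmbedding.injective e).symm
      omega
    have h3 := hPU ⟨(⟨_, hA hx⟩, ⟨_, hA hx'⟩), hns⟩ _ (specializes_iff_mem_closure.2 hz.1)
      (specializes_iff_mem_closure.2 hz'.1) (by rw [apply_fiberι]; exact mem_iInter.1 hsP _)
    exact h3.ne h1
  · intro x hx z hz
    constructor
    · intro hzmax w hw hwx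
      by_contra hne
      have hdw := hlt _ _ (hwx.map (f.fiberι η).continuous) (by rw [apply_fiberι, apply_fiberι])
        fun e => hne ((f.fiberι η).isEmbedding.injective e)
      obtain ⟨z₀, hz₀, hsp⟩ := hgen ((hwx.map (f.fiberι η).continuous).trans (specializes_iff_mem_closure.2 hz.1))
      have e := hzmax z₀ (hmem (hA hw) hz₀).1 hsp
      subst e
      rw [← (hmem (hA hx) hz).2, ← (hmem (hA hw) hz₀).2] at hdw
      exact lt_irrefl _ hdw
    · intro hxmax w hw hwz
      by_contra hne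
      have hdw := hlt _ _ (hwz.map (f.fiberι s).continuous) (by rw [apply_fiberι, apply_fiberι])
        fun e => hne ((f.fiberι s).isEmbedding.injective e)
      obtain ⟨y, hy, hyn, hyw⟩ := hWU ⟨d (f.fiberι s w), Nat.lt_succ_of_le (hdN _)⟩ _ ((hass w).1 hw)
        (by rw [apply_fiberι]; exact mem_iInter.1 hsW _) rfl
      obtain ⟨x', rfl, hx'⟩ := hAiff hy
      have hns : ¬ f.fiberι η x' ⤳ f.fiberι η x := fun hsp => by
        have hxx := hxmax x' hx' ((f.fiberι η).isEmbedding.isInducing.specializes_iff.mp hsp)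
        subst hxx
        have := (hmem (hA hx) hz).2
        simp only at hyn
        omega
      have h3 := hPU ⟨(⟨_, hA hx⟩, ⟨_, hA hx'⟩), hns⟩ _ (specializes_iff_mem_closure.2 hz.1)
        (hyw.trans (hwz.map (f.fiberι s).continuous)) (by rw [apply_fiberι]; exact mem_iInter.1 hsP _)
      exact h3.ne (hmem (hA hx) hz).2

end Groth.Agent.H8Norm.AssGeneric
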