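import Groth.Agent.H7Flat.RegularSpecialize

/-!
# Specialising associated points of fibres under a given point of flatness
-/

set_option autoImplicit false
universe u

namespace Groth.Agent.H8Norm

open TensorProduct FlatMor IsLocalRing
open Groth.Agent.H7Flat Groth.Agent.H7Flat.ImpurityDescend Groth.Agent.H7Flat.UnivInjCover
open Groth.Agent.H02CA.FibreAss (fiber_smul toFiberMod_eq_zero_iff)

attribute [local instance] Algebra.TensorProduct.rightAlgebra

set_option backward.isDefEq.respectTransparency false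
set_option maxHeartbeats 1000000
set_option synthInstance.maxHeartbeats 400000

/-- An associated point of a fibre specializing to a point `t` of flatness over `p` specializes to an
associated point of the fibre over `p` which specializes to `t`. -/
theorem exists_assoc_specialization_le {A B : Type u} [CommRing A] [CommRing B] [Algebra A B]
    [Algebra.FiniteType A B] (N : Type u) [AddCommGroup N] [Module B N] [Module A N]
    [IsScalarTower A B N] [Module.Finite B N] (p : Ideal A) [p.IsPrime]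
    (p' : Ideal A) [p'.IsPrime] (q' : Ideal B) [q'.IsPrime] [q'.LiesOver p']
    (hass : FlatCA.fiberIdeal p' q' ∈ associatedPrimes (p'.Fiber B) (FlatCA.fiberMod p' B N))
    (t : Ideal B) [t.IsPrime] [t.LiesOver p] (hqt : q' ≤ t) (hflat : FlatCA.FlatAt A t N) :
    ∃ (q : Ideal B) (_ : q.IsPrime), q' ≤ q ∧ q ≤ t ∧ q.LiesOver p ∧
      FlatCA.fiberIdeal p q ∈ associatedPrimes (p.Fiber B) (FlatCA.fiberMod p B N) := by
  classical
  by_contra hno
  have : IsNoetherianRing (p.Fiber B) := Algebra.FiniteType.isNoetherianRing p.ResidueField _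
  have : Module.Finite (p.Fiber B) (FlatCA.fiberMod p B N) :=
    inferInstanceAs (Module.Finite (p.Fiber B) ((p.Fiber B) ⊗[B] N))
  let ι := algebraMap B (p.Fiber B)
  have hQ : ∀ Q ∈ associatedPrimes (p.Fiber B) (FlatCA.fiberMod p B N), Q.comap ι ≤ t →
      ¬ q' ≤ Q.comap ι := by
    intro Q hQ hQt hle
    have : Q.IsPrime := hQ.isPrime
    refine hno ⟨Q.comap ι, Ideal.comap_isPrime _ _, hle, hQt, ⟨le_antisymm (fun a ha => ?_) fun a ha => ?_⟩, ?_⟩
    · rw [Ideal.mem_comap, Ideal.mem_comap, ← IsScalarTower.algebraMap_apply,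
        IsScalarTower.algebraMap_apply A p.ResidueField (p.Fiber B),
        Ideal.algebraMap_residueField_eq_zero.mpr ha, map_zero]
      exact zero_mem Q
    · rw [Ideal.mem_comap, Ideal.mem_comap, ← IsScalarTower.algebraMap_apply,
        IsScalarTower.algebraMap_apply A p.ResidueField (p.Fiber B)] at ha
      by_contra hap
      exact ‹Q.IsPrime›.ne_top (Ideal.eq_top_of_isUnit_mem _ ha
        ((IsUnit.mk0 _ (mt Ideal.algebraMap_residueField_eq_zero.mp hap)).map _))
    · rw [fiberIdeal_comap]; exact hQ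
  obtain ⟨s, hsq, hs⟩ : ∃ s ∈ q', ∀ Q ∈ associatedPrimes (p.Fiber B) (FlatCA.fiberMod p B N),
      Q.comap ι ≤ t → s ∉ Q.comap ι := by
    have hfin := (associatedPrimes.finite (p.Fiber B) (FlatCA.fiberMod p B N)).subset
      (Set.sep_subset _ fun Q => Q.comap ι ≤ t)
    by_contra! hall
    have hsub : (q' : Set B) ⊆ ⋃ Q ∈ (hfin.toFinset : Set (Ideal (p.Fiber B))), (Q.comap ι : Set B) :=
      fun s hs => by
        obtain ⟨Q, hQ', hQt, hsQ⟩ := hall s hs
        simp only [Set.mem_iUnion]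
        exact ⟨Q, hfin.mem_toFinset.mpr ⟨hQ', hQt⟩, hsQ⟩
    rw [Ideal.subset_union_prime (f := fun Q : Ideal (p.Fiber B) => Q.comap ι) ⊥ ⊥ fun Q hQ' _ _ =>
      haveI : Q.IsPrime := (hfin.mem_toFinset.mp hQ').1.isPrime
      Ideal.comap_isPrime ι Q] at hsub
    obtain ⟨Q, hQ', hle⟩ := hsub
    exact hQ Q (hfin.mem_toFinset.mp hQ').1 (hfin.mem_toFinset.mp hQ').2 hle
  have hreg : ∀ v : FlatCA.fiberMod p B N, s • v = 0 → ∃ c ∉ t, c • v = 0 := by
    intro v hv
    by_contra! hc
    rw [fiber_smul] at hv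
    let I : Ideal (p.Fiber B) := (⊥ : Submodule (p.Fiber B) (FlatCA.fiberMod p B N)).colon {v}
    have hmin : ∀ Q ∈ I.minimalPrimes, Q ∈ associatedPrimes (p.Fiber B) (FlatCA.fiberMod p B N) :=
      fun Q hQm => isAssociatedPrime_iff.mpr ⟨hQm.1.1, Submodule.exists_eq_colon_of_mem_minimalPrimes hQm⟩
    have hall : ∀ Q ∈ I.minimalPrimes, ∃ c ∉ t, ι c ∈ Q := fun Q hQm => by
      refine Set.not_subset.1 ?_ |>.elim fun c h => ⟨c, h.2, h.1⟩
      intro hle
      refine hs Q (hmin Q hQm) hle ?_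
      exact hQm.1.2 (Submodule.mem_colon_singleton.2 ((Submodule.mem_bot _).2 hv))
    choose c hct hcQ using hall
    let cc : B := ∏ Q ∈ I.finite_minimalPrimes_of_isNoetherianRing.toFinset.attach,
      c Q.1 (I.finite_minimalPrimes_of_isNoetherianRing.mem_toFinset.1 Q.2)
    have hcct : cc ∉ t := fun h => by
      obtain ⟨Q, -, hQ'⟩ := Ideal.IsPrime.prod_mem_iff.1 h
      exact hct _ _ hQ'
    have hrad : ι cc ∈ I.radical := by
      rw [← Ideal.sInf_minimalPrimes, Ideal.mem_sInf]
      intro Q hQm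
      rw [map_prod]
      exact Ideal.prod_mem _ (Finset.mem_attach _ ⟨Q, I.finite_minimalPrimes_of_isNoetherianRing.mem_toFinset.2 hQm⟩)
        (hcQ Q hQm)
    obtain ⟨n, hn⟩ := hrad
    refine hc (cc ^ n) (fun h => hcct (Ideal.IsPrime.mem_of_pow_mem ‹t.IsPrime› n h)) ?_
    rw [fiber_smul, map_pow]
    exact (Submodule.mem_bot _).1 (Submodule.mem_colon_singleton.1 hn)
  obtain ⟨n, hn⟩ := (AssLocal.assoc_iff N p' q').mp hass
  obtain ⟨r, hr, hrs⟩ := (hn s).mp hsq
  rw [smul_comm] at hrs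
  obtain ⟨c, hc, hcn⟩ := RegularSpecialize.mem_smul_of_regular N p t hflat s (fun m hm => by
    obtain ⟨c, hct, hcv⟩ := hreg (FlatCA.toFiberMod p B N m) (by
      rw [← map_smul, toFiberMod_eq_zero_iff]
      refine ⟨1, fun h => Ideal.IsPrime.ne_top ‹p.IsPrime› ((Ideal.eq_top_iff_one p).mpr h), ?_⟩
      rw [map_one, one_smul, ← Submodule.restrictScalars_mem A, Ideal.smul_restrictScalars,
        Submodule.restrictScalars_top]
      exact hm)
    rw [← map_smul] at hcv
    obtain ⟨r', hr', h⟩ := (toFiberMod_eq_zero_iff p (c • m)).mp hcv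
    rw [← Submodule.restrictScalars_mem A, Ideal.smul_restrictScalars, Submodule.restrictScalars_top] at h
    refine ⟨algebraMap A B r' * c, fun hh => ?_, by rwa [mul_smul]⟩
    exact (Ideal.IsPrime.mem_or_mem ‹t.IsPrime› hh).elim (fun h1 => hr' ((Ideal.over_def t p).ge h1)) hct)
    p' (r • n) hrs
  have hcq : c * algebraMap A B r ∈ q' := (hn _).mpr ⟨1,
    fun h => Ideal.IsPrime.ne_top ‹p'.IsPrime› ((Ideal.eq_top_iff_one p').mpr h), by
    rwa [one_smul, mul_smul, algebraMap_smul]⟩
  exact (Ideal.IsPrime.mem_or_mem ‹q'.IsPrime› hcq).elim (fun h => hc (hqt h))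
    fun h => hr ((Ideal.over_def q' p').ge h)

end Groth.Agent.H8Norm
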