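import Groth.Agent.H8Norm.EtaModification
import Groth.Agent.H7Lim.IntegralApprox
import Groth.Agent.H05EGA4.SchImageClopen
import Mathlib.AlgebraicGeometry.Normalization

/-!
# Finite birational covers realising finitely many integral elements of the function field
-/

set_option autoImplicit false
set_option linter.style.haveILetI false
set_option backward.isDefEq.respectTransparency false

universe u

open CategoryTheory CategoryTheory.Limits AlgebraicGeometry TopologicalSpace

namespace Groth.Agent.H8Norm.EtaClosed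

variable {S : Scheme.{u}} [IsIntegral S] [CompactSpace S] [QuasiSeparatedSpace S]

omit [CompactSpace S] in
theorem quasiSeparated_generic : QuasiSeparated (S.fromSpecStalk (genericPoint S)) :=
  inferInstance

omit [CompactSpace S] [QuasiSeparatedSpace S] in
theorem genericPoint_mem (V : S.Opens) [Nonempty V] : genericPoint S ∈ V :=
  ((genericPoint_spec S).mem_open_set_iff V.isOpen).mpr (by simpa [← Set.nonempty_coe_sort] using ‹Nonempty V›)

/-- A finite birational morphism is an isomorphism over a nonempty open. -/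
theorem exists_isIso_restrict {S' : Scheme.{u}} (g : S' ⟶ S) [IsFinite g]
    (a : Spec (S.presheaf.stalk (genericPoint S)) ⟶ S') [IsSchemeTheoreticallyDominant a] [QuasiCompact a]
    (ha : a ≫ g = S.fromSpecStalk (genericPoint S)) :
    ∃ V : S.Opens, (V : Set S).Nonempty ∧ IsIso (g ∣_ V) := by
  classical
  obtain ⟨_, ⟨W, hW : IsAffineOpen W, rfl⟩, hηW, -⟩ :=
    S.isBasis_affineOpens.exists_subset_of_mem_open (Set.mem_univ (genericPoint S)) isOpen_univ
  haveI : Nonempty W := ⟨⟨_, hηW⟩⟩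
  haveI := functionField_isFractionRing_of_isAffineOpen S W hW
  letI := (g.app W).hom.toAlgebra
  haveI : Module.Finite Γ(S, W) Γ(S', g ⁻¹ᵁ W) := g.finite_app W hW
  let η := S.fromSpecStalk (genericPoint S)
  -- the map to the function field
  let κ : Γ(S', g ⁻¹ᵁ W) ⟶ Γ(Spec (S.presheaf.stalk (genericPoint S)), η ⁻¹ᵁ W) :=
    a.appLE (g ⁻¹ᵁ W) (η ⁻¹ᵁ W) (le_of_eq (by rw [← Scheme.Hom.comp_preimage, ha]))
  have hκinj : Function.Injective κ := by
    have h : ∀ (D : (Spec (S.presheaf.stalk (genericPoint S))).Opens) (e : D ≤ a ⁻¹ᵁ g ⁻¹ᵁ W),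
        D = a ⁻¹ᵁ g ⁻¹ᵁ W → Function.Injective (a.appLE (g ⁻¹ᵁ W) D e) := by
      rintro D e rfl
      rw [← Scheme.Hom.app_eq_appLE]
      exact a.app_injective _
    exact h _ _ (by rw [← Scheme.Hom.comp_preimage, ha])
  have hκR : ∀ x : Γ(S, W), κ (g.app W x) = η.app W x := fun x => by
    have h : ∀ (q : Spec (S.presheaf.stalk (genericPoint S)) ⟶ S) (hq : q = η)
        (e : η ⁻¹ᵁ W ≤ q ⁻¹ᵁ W), q.appLE W (η ⁻¹ᵁ W) e x = η.app W x := by
      rintro q rfl e
      rw [← Scheme.Hom.app_eq_appLE]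
    rw [Scheme.Hom.app_eq_appLE, ← ConcreteCategory.comp_apply, Scheme.Hom.appLE_comp_appLE]
    exact h (a ≫ g) ha _
  have hfrac : ∀ t : Γ(Spec (S.presheaf.stalk (genericPoint S)), η ⁻¹ᵁ W),
      ∃ x d : Γ(S, W), d ≠ 0 ∧ t * η.app W d = η.app W x := by
    intro t
    let M := (Spec (S.presheaf.stalk (genericPoint S))).presheaf.map (homOfLE (le_top (a := η ⁻¹ᵁ W))).op
    have happ : ∀ x, η.app W x = M ((Scheme.ΓSpecIso (S.presheaf.stalk (genericPoint S))).inv
        (algebraMap Γ(S, W) S.functionField x)) := fun x => by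
      rw [Scheme.fromSpecStalk_app hηW]; rfl
    have htop : η ⁻¹ᵁ W = ⊤ := top_le_iff.1 fun z _ => by
      show η z ∈ W
      have hz : z = IsLocalRing.closedPoint (S.presheaf.stalk (genericPoint S)) := by
        haveI : Subsingleton ↥(Spec (S.presheaf.stalk (genericPoint S))) :=
          inferInstanceAs (Subsingleton (PrimeSpectrum S.functionField))
        exact Subsingleton.elim _ _
      rw [hz, Scheme.fromSpecStalk_closedPoint]
      exact hηW
    haveI : IsIso M := by
      have : (homOfLE (le_top (a := η ⁻¹ᵁ W))).op = (eqToHom htop).op := rfl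
      show IsIso ((Spec _).presheaf.map _)
      rw [this]
      infer_instance
    obtain ⟨t', rfl⟩ := (ConcreteCategory.bijective_of_isIso M).2 t
    obtain ⟨⟨x, d⟩, hxd⟩ := IsLocalization.surj (nonZeroDivisors Γ(S, W))
      ((Scheme.ΓSpecIso (S.presheaf.stalk (genericPoint S))).hom t' : S.functionField)
    refine ⟨x, d, nonZeroDivisors.ne_zero d.2, ?_⟩
    rw [happ, happ, ← hxd, ← map_mul]
    congr 1
    refine Eq.trans (congrArg (· * _) ?_) (map_mul _ _ _).symm
    rw [← ConcreteCategory.comp_apply, Iso.hom_inv_id]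
    rfl
  obtain ⟨T, hT⟩ := (Module.Finite.fg_top : (⊤ : Submodule Γ(S, W) Γ(S', g ⁻¹ᵁ W)).FG)
  choose x d hd hxd using fun t : Γ(S', g ⁻¹ᵁ W) => hfrac (κ t)
  let D : Γ(S, W) := ∏ t ∈ T, d t
  have hD : D ≠ 0 := Finset.prod_ne_zero_iff.2 fun t _ => hd t
  -- every section becomes a section of `S` after multiplying by `D`
  have hmul : ∀ y : Γ(S', g ⁻¹ᵁ W), ∃ z : Γ(S, W), g.app W D * y = g.app W z := by
    intro y
    have hy : y ∈ Submodule.span Γ(S, W) (T : Set Γ(S', g ⁻¹ᵁ W)) := hT ▸ Submodule.mem_top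
    induction hy using Submodule.span_induction with
    | mem t ht =>
      refine ⟨(∏ t' ∈ T.erase t, d t') * x t, hκinj ?_⟩
      rw [map_mul, hκR, hκR, map_mul, ← hxd, show D = (∏ t' ∈ T.erase t, d t') * d t from (Finset.prod_erase_mul T d ht).symm, map_mul]
      ring
    | zero => exact ⟨0, by simp⟩
    | add p q _ _ hp hq =>
      obtain ⟨z, hz⟩ := hp
      obtain ⟨z', hz'⟩ := hq
      exact ⟨z + z', by rw [mul_add, hz, hz', map_add]⟩
    | smul c p _ hp =>
      obtain ⟨z, hz⟩ := hp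
      exact ⟨c * z, by rw [Algebra.smul_def, mul_left_comm, hz, map_mul]; rfl⟩
  have hηD : genericPoint S ∈ S.basicOpen D := by
    rw [Scheme.mem_basicOpen _ _ _ hηW]
    exact IsUnit.mk0 (G₀ := S.functionField) (S.germToFunctionField W D)
      ((map_ne_zero_iff _ (S.germToFunctionField_injective W)).2 hD)
  refine ⟨S.basicOpen D, ⟨_, hηD⟩, ?_⟩
  let O := S.basicOpen D
  have hOW : O ≤ W := S.basicOpen_le D
  have hO' : g ⁻¹ᵁ O = S'.basicOpen (g.app W D) := Scheme.Hom.preimage_basicOpen g D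
  letI : Algebra Γ(S, W) Γ(S, O) := (S.presheaf.map (homOfLE hOW).op).hom.toAlgebra
  letI : Algebra Γ(S', g ⁻¹ᵁ W) Γ(S', g ⁻¹ᵁ O) :=
    (S'.presheaf.map (homOfLE (g.preimage_mono hOW)).op).hom.toAlgebra
  haveI : IsLocalization.Away D Γ(S, O) := hW.isLocalization_of_eq_basicOpen D (homOfLE hOW) rfl
  haveI : IsLocalization.Away (g.app W D) Γ(S', g ⁻¹ᵁ O) :=
    (hW.preimage g).isLocalization_of_eq_basicOpen _ (homOfLE (g.preimage_mono hOW)) hO'
  have hnat : ∀ x : Γ(S, W), g.app O (algebraMap Γ(S, W) Γ(S, O) x) =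
      algebraMap Γ(S', g ⁻¹ᵁ W) Γ(S', g ⁻¹ᵁ O) (g.app W x) := fun x =>
    ConcreteCategory.congr_hom (g.naturality (homOfLE hOW).op) x
  have hginj : Function.Injective (g.app W) := by
    refine Function.Injective.of_comp (f := κ) ?_
    have hη : Function.Injective (η.app W) := by
      refine (injective_iff_map_eq_zero _).2 fun x hx => ?_
      by_contra hx0
      have hu : IsUnit ((S.fromSpecStalk (genericPoint S)).app W x) := by
        rw [Scheme.fromSpecStalk_app hηW, ConcreteCategory.comp_apply, ConcreteCategory.comp_apply]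
        refine IsUnit.map (CommRingCat.Hom.hom _) (IsUnit.map (CommRingCat.Hom.hom _) ?_)
        exact IsUnit.mk0 (G₀ := S.functionField) (S.germToFunctionField W x)
          ((map_ne_zero_iff _ (S.germToFunctionField_injective W)).2 hx0)
      rw [show η.app W x = _ from hx] at hu
      haveI : Nonempty ↥(η ⁻¹ᵁ W) := ⟨⟨IsLocalRing.closedPoint (S.presheaf.stalk (genericPoint S)), by
        show η _ ∈ W
        rw [Scheme.fromSpecStalk_closedPoint]; exact hηW⟩⟩
      exact not_isUnit_zero hu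
    intro x y h
    exact hη (by rw [← hκR, ← hκR]; exact h)
  have hbij : Function.Bijective (g.app O) := by
    refine ⟨(injective_iff_map_eq_zero _).2 fun q hq => ?_, fun q => ?_⟩
    · obtain ⟨n, x, hx⟩ := IsLocalization.Away.surj D q
      have h1 : algebraMap Γ(S', g ⁻¹ᵁ W) Γ(S', g ⁻¹ᵁ O) (g.app W x) = 0 := by
        rw [← hnat, ← hx, map_mul, hq, zero_mul]
      obtain ⟨⟨_, k, rfl⟩, hk⟩ :=
        (IsLocalization.map_eq_zero_iff (Submonoid.powers (g.app W D)) Γ(S', g ⁻¹ᵁ O) _).1 h1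
      have h2 : D ^ k * x = 0 := hginj (by rw [map_mul, map_pow, map_zero]; exact hk)
      have hDO := IsLocalization.Away.algebraMap_isUnit (S := Γ(S, O)) D
      rcases mul_eq_zero.1 h2 with h3 | h3
      · exact absurd h3 (pow_ne_zero k hD)
      · rw [h3, map_zero] at hx
        exact (IsUnit.mul_left_eq_zero (hDO.pow n)).1 hx
    · obtain ⟨n, y, hy⟩ := IsLocalization.Away.surj (g.app W D) q
      obtain ⟨z, hz⟩ := hmul y
      have hDO := IsLocalization.Away.algebraMap_isUnit (S := Γ(S, O)) D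
      refine ⟨↑(hDO.pow (n + 1)).unit⁻¹ * algebraMap Γ(S, W) Γ(S, O) z, ?_⟩
      refine ((hDO.pow (n + 1)).map (g.app O).hom).mul_left_cancel ?_
      rw [← map_mul, ← mul_assoc, IsUnit.mul_val_inv, one_mul, hnat, ← hz, map_mul, map_pow, hnat,
        ← hy, pow_succ]
      ring
  haveI : IsIso (g.app O) := (ConcreteCategory.isIso_iff_bijective _).2 hbij
  show IsIso (g ∣_ O)
  have hι : O.ι = (hW.basicOpen D).isoSpec.hom ≫ (hW.basicOpen D).fromSpec := by
    rw [← IsAffineOpen.isoSpec_inv_ι, Iso.hom_inv_id_assoc]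
  have sq := (isPullback_morphismRestrict g O).flip
  rw [hι] at sq
  exact MorphismProperty.of_isPullback (P := MorphismProperty.isomorphisms Scheme)
    (IsPullback.of_right' sq (H22Alg.FiniteDegree.isPullback_fromSpec g (hW.basicOpen D)))
    (show IsIso (Spec.map (g.app O)) from inferInstance)

/-- A finite birational cover realising given integral elements of the function field. -/
theorem exists_birational {ι : Type u} [Finite ι] (V : ι → S.affineOpens)
    (s : ∀ j, Γ(Spec (S.presheaf.stalk (genericPoint S)), S.fromSpecStalk (genericPoint S) ⁻¹ᵁ (V j).1))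
    (hs : ∀ j, ((S.fromSpecStalk (genericPoint S)).app (V j).1).hom.IsIntegralElem (s j)) :
    ∃ (S' : Scheme.{u}) (g : S' ⟶ S) (a : Spec (S.presheaf.stalk (genericPoint S)) ⟶ S'),
      IsFinite g ∧ IsSchemeTheoreticallyDominant a ∧ QuasiCompact a ∧
      a ≫ g = S.fromSpecStalk (genericPoint S) ∧
      (∀ j, ∃ (h : S.fromSpecStalk (genericPoint S) ⁻¹ᵁ (V j).1 ≤ a ⁻¹ᵁ (g ⁻¹ᵁ (V j).1))
        (c : Γ(S', g ⁻¹ᵁ (V j).1)), a.appLE _ _ h c = s j) ∧
      ∃ W : S.Opens, (W : Set S).Nonempty ∧ IsIso (g ∣_ W) ∧ IsSchemeTheoreticallyDominant (g ⁻¹ᵁ W).ι := by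
  classical
  let η := S.fromSpecStalk (genericPoint S)
  haveI : QuasiCompact η := quasiCompact_generic
  haveI : QuasiSeparated η := quasiSeparated_generic
  let ν := η.fromNormalization
  haveI := Fintype.ofFinite ι
  let b : ∀ j, Γ(η.normalization, ν ⁻¹ᵁ (V j).1) := fun j =>
    letI := (η.app (V j).1).hom.toAlgebra
    (η.normalizationObjIso (V j).2).inv ⟨s j, hs j⟩
  obtain ⟨P, p, c, hp, hcp, hsec⟩ := H7Lim.exists_factor_sections (f := ν)
    ((Finset.univ : Finset ι).toList.map fun j => ⟨V j, b j⟩)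
  haveI := hp.1
  let q := η.toNormalization ≫ c
  have hqp : q ≫ p = η := by rw [Category.assoc, hcp]; exact η.toNormalization_fromNormalization
  haveI : QuasiCompact (q ≫ p) := by rw [hqp]; infer_instance
  haveI : QuasiCompact q := QuasiCompact.of_comp q p
  haveI : IsSchemeTheoreticallyDominant q.toImage :=
    H05EGA4.SchImageClopen.isSchemeTheoreticallyDominant_toImage q
  haveI : IsFinite (q.imageι ≫ p) := inferInstance
  have ha : q.toImage ≫ q.imageι ≫ p = η := by rw [Scheme.Hom.toImage_imageι_assoc, hqp]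
  haveI : QuasiCompact (q.toImage ≫ q.imageι ≫ p) := by rw [ha]; infer_instance
  haveI : QuasiCompact q.toImage := QuasiCompact.of_comp q.toImage (q.imageι ≫ p)
  refine ⟨q.image, q.imageι ≫ p, q.toImage, inferInstance, inferInstance, inferInstance, ha, fun j => ?_, ?_⟩
  · letI := (η.app (V j).1).hom.toAlgebra
    obtain ⟨h, d, hd⟩ := hsec ⟨V j, b j⟩ (List.mem_map.2 ⟨j, by simp, rfl⟩)
    have h0 : η ⁻¹ᵁ (V j).1 ≤ η.toNormalization ⁻¹ᵁ (ν ⁻¹ᵁ (V j).1) := by
      rw [← Scheme.Hom.comp_preimage, η.toNormalization_fromNormalization]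
    have h1 : η.toNormalization.appLE _ _ h0 (b j) = s j := by
      rw [← η.normalizationObjIso_hom_val (V j).2, ConcreteCategory.comp_apply]
      show ((η.normalizationObjIso (V j).2).hom ((η.normalizationObjIso (V j).2).inv ⟨s j, hs j⟩)).1 = s j
      rw [← ConcreteCategory.comp_apply, Iso.inv_hom_id]
      rfl
    refine ⟨le_of_eq (by rw [← Scheme.Hom.comp_preimage, ha]), q.imageι.app (p ⁻¹ᵁ (V j).1) d, ?_⟩
    have key : ∀ (t : Spec (S.presheaf.stalk (genericPoint S)) ⟶ P)
        (e : η ⁻¹ᵁ (V j).1 ≤ t ⁻¹ᵁ (p ⁻¹ᵁ (V j).1)), t = q →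
        t.appLE (p ⁻¹ᵁ (V j).1) (η ⁻¹ᵁ (V j).1) e d = s j := by
      rintro t e rfl
      rw [← Scheme.Hom.appLE_comp_appLE η.toNormalization c _ (ν ⁻¹ᵁ (V j).1) _ h h0,
        ConcreteCategory.comp_apply]
      exact (congrArg _ hd).trans h1
    show q.toImage.appLE (q.imageι ⁻¹ᵁ (p ⁻¹ᵁ (V j).1)) (η ⁻¹ᵁ (V j).1) _ _ = s j
    rw [Scheme.Hom.app_eq_appLE, ← ConcreteCategory.comp_apply, Scheme.Hom.appLE_comp_appLE]
    exact key _ _ (Scheme.Hom.toImage_imageι q)
  · obtain ⟨W, hW, hiso⟩ := exists_isIso_restrict (q.imageι ≫ p) q.toImage ha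
    refine ⟨W, hW, hiso, ?_⟩
    haveI : Subsingleton ↥(Spec (S.presheaf.stalk (genericPoint S))) :=
      inferInstanceAs (Subsingleton (PrimeSpectrum S.functionField))
    haveI : IsReduced (Spec (S.presheaf.stalk (genericPoint S))) :=
      inferInstanceAs (IsReduced (Spec (CommRingCat.of S.functionField)))
    haveI : IsReduced q.image := IsSchemeTheoreticallyDominant.isReduced q.toImage
    haveI : IsDominant ((q.imageι ≫ p) ⁻¹ᵁ W).ι := by
      rw [isDominant_iff, DenseRange, Scheme.Opens.range_ι]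
      refine Dense.mono ?_ q.toImage.denseRange
      rintro _ ⟨z, rfl⟩
      show (q.imageι ≫ p) (q.toImage z) ∈ W
      have hz : z = IsLocalRing.closedPoint (S.presheaf.stalk (genericPoint S)) := Subsingleton.elim _ _
      rw [← Scheme.Hom.comp_apply, ha, hz, Scheme.fromSpecStalk_closedPoint]
      haveI : Nonempty W := hW.to_subtype
      exact genericPoint_mem W
    exact IsSchemeTheoreticallyDominant.of_isDominant _

end Groth.Agent.H8Norm.EtaClosed
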