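import Groth.Agent.H8Extend.Compactify

/-!
# A common modification containing finitely many quasi-modifications
-/

set_option autoImplicit false
set_option linter.style.haveILetI false
set_option backward.isDefEq.respectTransparency false
set_option maxHeartbeats 1000000

universe u

open CategoryTheory Limits AlgebraicGeometry TopologicalSpace

namespace Groth.Agent.H8Norm.CommonModification

/-- An open of a proper `S`-scheme, containing a given point, with a proper map to `T`. -/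
def Piece {S Z T P : Scheme.{u}} (σ : Z ⟶ P) (π : P ⟶ S) (t : Z ⟶ T) (p : T ⟶ S) : Prop :=
  ∃ (O : P.Opens) (w : Z ⟶ (O : Scheme.{u})) (ρ : (O : Scheme.{u}) ⟶ T),
    w ≫ O.ι = σ ∧ IsProper ρ ∧ w ≫ ρ = t ∧ ρ ≫ p = O.ι ≫ π

theorem Piece.pullback_proper {S Z T P P' : Scheme.{u}} {σ : Z ⟶ P} {π : P ⟶ S} {t : Z ⟶ T} {p : T ⟶ S}
    (h : Piece σ π t p) (a : P' ⟶ P) [IsProper a] (σ' : Z ⟶ P') (hσ : σ' ≫ a = σ) :
    Piece σ' (a ≫ π) t p := by
  obtain ⟨O, w, ρ, hw, hρ, hwt, hρp⟩ := h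
  haveI := hρ
  have hrange : Set.range σ' ⊆ Set.range (a ⁻¹ᵁ O).ι := by
    rintro _ ⟨z, rfl⟩
    rw [Scheme.Opens.range_ι]
    show a (σ' z) ∈ O
    rw [← Scheme.Hom.comp_apply, hσ, ← hw, Scheme.Hom.comp_apply]
    exact (w z).2
  haveI : IsProper (a ∣_ O) := IsZariskiLocalAtTarget.restrict ‹IsProper a› O
  refine ⟨a ⁻¹ᵁ O, IsOpenImmersion.lift (a ⁻¹ᵁ O).ι σ' hrange, a ∣_ O ≫ ρ,
    IsOpenImmersion.lift_fac _ _ _, inferInstance, ?_, ?_⟩
  · have : IsOpenImmersion.lift (a ⁻¹ᵁ O).ι σ' hrange ≫ a ∣_ O = w := by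
      rw [← cancel_mono O.ι, Category.assoc, morphismRestrict_ι, IsOpenImmersion.lift_fac_assoc, hσ, hw]
    rw [← Category.assoc, this, hwt]
  · rw [Category.assoc, hρp, morphismRestrict_ι_assoc]

/-- All pieces inside one scheme proper over the base. -/
theorem exists_all {S Z : Scheme.{u}} [CompactSpace S] [QuasiSeparatedSpace S] (η : Z ⟶ S) :
    ∀ (n : ℕ) (T : Fin n → Scheme.{u}) (t : ∀ i, Z ⟶ T i) (p : ∀ i, T i ⟶ S) (_ : ∀ i, IsSeparated (p i))
      (_ : ∀ i, LocallyOfFiniteType (p i)) (_ : ∀ i, QuasiCompact (p i)), (∀ i, t i ≫ p i = η) →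
      ∃ (P : Scheme.{u}) (σ : Z ⟶ P) (π : P ⟶ S), IsProper π ∧ σ ≫ π = η ∧
        ∀ i, Piece σ π (t i) (p i) := by
  intro n
  induction n with
  | zero => exact fun _ _ _ _ _ _ _ => ⟨S, η, 𝟙 S, inferInstance, Category.comp_id _, fun i => i.elim0⟩
  | succ n ih =>
    intro T t p hs hl hq hp
    obtain ⟨P, σ, π, hπ, hσ, hP⟩ := ih (fun i => T i.castSucc) (fun i => t i.castSucc)
      (fun i => p i.castSucc) (fun i => hs _) (fun i => hl _) (fun i => hq _) (fun i => hp _)
    haveI := hπ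
    haveI := hs (Fin.last n); haveI := hl (Fin.last n); haveI := hq (Fin.last n)
    obtain ⟨Y, j, g, hj, -, hg, hjg⟩ := H7Flat.Flatten.exists_compactification (p (Fin.last n))
    haveI := hj; haveI := hg
    let σ' : Z ⟶ pullback π g := pullback.lift σ (t (Fin.last n) ≫ j) (by rw [hσ, Category.assoc, hjg, hp])
    refine ⟨pullback π g, σ', pullback.fst π g ≫ π, inferInstance,
      by rw [← Category.assoc, pullback.lift_fst, hσ], fun i => ?_⟩
    induction i using Fin.lastCases with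
    | cast i => exact (hP i).pullback_proper (pullback.fst π g) σ' (pullback.lift_fst _ _ _)
    | last =>
      have h0 : Piece (t (Fin.last n) ≫ j) g (t (Fin.last n)) (p (Fin.last n)) := by
        refine ⟨j.opensRange, t (Fin.last n) ≫ j.isoOpensRange.hom, j.isoOpensRange.inv, ?_, inferInstance,
          by simp, ?_⟩
        · rw [Category.assoc, Scheme.Hom.isoOpensRange_hom_ι]
        · rw [Iso.inv_comp_eq, ← Category.assoc, Scheme.Hom.isoOpensRange_hom_ι, hjg]
      rw [pullback.condition]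
      exact h0.pullback_proper (pullback.snd π g) σ' (pullback.lift_snd _ _ _)

/-- The scheme-theoretic image version. -/
theorem main {S Z : Scheme.{u}} [CompactSpace S] [QuasiSeparatedSpace S] [CompactSpace Z] (η : Z ⟶ S)
    {ι : Type u} [Finite ι] (T : ι → Scheme.{u}) (t : ∀ i, Z ⟶ T i)
    (p : ∀ i, T i ⟶ S) [∀ i, IsSeparated (p i)]
    [∀ i, LocallyOfFiniteType (p i)] [∀ i, QuasiCompact (p i)] (hp : ∀ i, t i ≫ p i = η) :
    ∃ (S' : Scheme.{u}) (s : Z ⟶ S') (q : S' ⟶ S),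
      IsSchemeTheoreticallyDominant s ∧ IsProper q ∧ s ≫ q = η ∧ ∀ i, Piece s q (t i) (p i) := by
  obtain ⟨n, ⟨e⟩⟩ := Finite.exists_equiv_fin ι
  obtain ⟨P, σ, π, hπ, hσ, hP⟩ := exists_all η n (fun i => T (e.symm i)) (fun i => t _) (fun i => p _)
    (fun _ => inferInstance) (fun _ => inferInstance) (fun _ => inferInstance) (fun i => hp _)
  haveI := hπ
  haveI : QuasiSeparatedSpace P := quasiSeparatedSpace_of_quasiSeparated π
  haveI : QuasiCompact σ := QuasiCompact.of_comp σ (terminal.from _)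
  refine ⟨σ.image, σ.toImage, σ.imageι ≫ π, ⟨H17.ker_toImage σ⟩, inferInstance,
    by rw [← Category.assoc, σ.toImage_imageι, hσ], fun i => ?_⟩
  obtain ⟨k, rfl⟩ : ∃ k, e.symm k = i := ⟨e i, e.symm_apply_apply i⟩
  exact (hP k).pullback_proper σ.imageι σ.toImage σ.toImage_imageι

end Groth.Agent.H8Norm.CommonModification
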