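import Groth.Agent.H8Norm.MinimalPrimeSpecialize
import Groth.Agent.H8Props.Generic
import Groth.Agent.H06Conn.OpenDvr
import Groth.Agent.H7Flat.GeomInt.Counts

/-!
# Components of the generic and of the special fibre over a discrete valuation ring

For a flat, universally closed scheme over a discrete valuation ring with reduced closed fibre the
generic fibre has no more irreducible components than the closed fibre.
-/

set_option autoImplicit false
set_option linter.style.haveILetI false
set_option backward.isDefEq.respectTransparency false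

universe u

open CategoryTheory CategoryTheory.Limits AlgebraicGeometry TopologicalSpace Topology IsLocalRing

namespace Groth.Agent.H8Norm.CompCountDVR

/-- A point is generic in an affine open exactly when it is a minimal prime. -/
theorem mem_minimalPrimes_of_generic {R : CommRingCat.{u}} {X : Scheme.{u}} (j : Spec R ⟶ X)
    [IsOpenImmersion j] (P : Spec R) (hP : j P ∈ genericPoints X) : P.asIdeal ∈ minimalPrimes R := by
  refine ⟨⟨P.isPrime, bot_le⟩, fun Q hQ hle => ?_⟩
  let Q' : Spec R := (⟨Q, hQ.1⟩ : PrimeSpectrum R)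
  have hsp : Q' ⤳ P := (PrimeSpectrum.le_iff_specializes _ _).1 hle
  have h : j Q' = j P := H8Props.mem_genericPoints_iff.1 hP _ (hsp.map j.continuous)
  exact (congrArg PrimeSpectrum.asIdeal (j.isOpenEmbedding.injective h)).ge

variable {A : Type u} [CommRing A] [IsDomain A] [IsDiscreteValuationRing A] {X : Scheme.{u}}
  (q : X ⟶ Spec (CommRingCat.of A))

/-- The point of a chart lies in the closed fibre exactly when its prime contains the uniformizer. -/
theorem mem_iff_closed {R : CommRingCat.{u}} (j : Spec R ⟶ X) (φ : CommRingCat.of A ⟶ R)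
    (hφ : Spec.map φ = j ≫ q) {π : A} (hπ : maximalIdeal A = Ideal.span {π}) (P : Spec R) :
    φ.hom π ∈ P.asIdeal ↔ q (j P) = (closedPoint A : Spec (CommRingCat.of A)) := by
  rw [← Scheme.Hom.comp_apply, ← hφ]
  constructor
  · intro h
    refine PrimeSpectrum.ext ((IsLocalRing.maximalIdeal.isMaximal A).eq_of_le
      (Ideal.comap_ne_top φ.hom P.isPrime.ne_top) ?_).symm
    rw [hπ, Ideal.span_singleton_le_iff_mem]
    exact h
  · intro h
    have hm : π ∈ maximalIdeal A := hπ.ge (Ideal.mem_span_singleton_self π)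
    have h' : (P.asIdeal.comap φ.hom) = maximalIdeal A := congrArg PrimeSpectrum.asIdeal h
    exact h'.ge hm

set_option maxHeartbeats 800000 in
/-- The generic point of a component dominating the base specializes to the generic point of a
component of the reduced closed fibre. -/
theorem exists_closedFibre_component [Flat q] [LocallyOfFiniteType q] [UniversallyClosed q]
    (hred : IsReduced (q.fiber (closedPoint A : Spec (CommRingCat.of A)))) {η : X}
    (hη : η ∈ genericPoints X) :
    ∃ s ∈ genericPoints ↥(q.fiber (closedPoint A : Spec (CommRingCat.of A))),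
      η ⤳ q.fiberι (closedPoint A : Spec (CommRingCat.of A)) s := by
  set c : Spec (CommRingCat.of A) := closedPoint A
  haveI : IsNoetherianRing (CommRingCat.of A) := inferInstanceAs (IsNoetherianRing A)
  haveI : IsLocallyNoetherian X := LocallyOfFiniteType.isLocallyNoetherian q
  obtain ⟨x, hxη, hqx⟩ := (IsLocalRing.specializes_closedPoint (q η : PrimeSpectrum A)).mem_closed
    (q.isClosedMap _ (isClosed_closure (s := ({η} : Set X)))) ⟨η, subset_closure rfl, rfl⟩
  have hηx : η ⤳ x := specializes_iff_mem_closure.2 hxη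
  obtain ⟨W, hW, hxW, -⟩ := exists_isAffineOpen_mem_and_subset (x := x) (U := (⊤ : X.Opens)) trivial
  haveI : IsNoetherianRing Γ(X, W) := IsLocallyNoetherian.component_noetherian ⟨W, hW⟩
  let j : Spec Γ(X, W) ⟶ X := hW.fromSpec
  obtain ⟨φ, hφ⟩ := Spec.map_surjective (j ≫ q)
  obtain ⟨m, hm⟩ : x ∈ Set.range j := by rw [hW.range_fromSpec]; exact hxW
  obtain ⟨p, hp⟩ : η ∈ Set.range j := by rw [hW.range_fromSpec]; exact hηx.mem_open W.2 hxW
  obtain ⟨π, hπ⟩ := IsDiscreteValuationRing.exists_irreducible A
  have hπm := hπ.maximalIdeal_eq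
  have hR : _root_.IsReduced (Γ(X, W) ⧸ Ideal.span {φ.hom π}) :=
    H06Conn.isReduced_quotient_of_fibre A q c rfl hred j φ hφ π hπm
  have hflat : φ.hom.Flat := by
    rw [← HasRingHomProperty.Spec_iff (P := @Flat), hφ]; infer_instance
  have hnz : ∀ r : Γ(X, W), φ.hom π * r = 0 → r = 0 := by
    letI := φ.hom.toAlgebra
    haveI : Module.Flat A Γ(X, W) := hflat
    intro r hr
    have hreg : IsSMulRegular Γ(X, W) π :=
      Module.Flat.isSMulRegular_of_isRegular (IsRegular.of_ne_zero hπ.ne_zero)
    exact hreg (by show π • r = π • 0; rw [smul_zero, Algebra.smul_def]; exact hr)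
  have hpm : p.asIdeal ≤ m.asIdeal := (PrimeSpectrum.le_iff_specializes p m).2
    (j.isOpenEmbedding.isInducing.specializes_iff.1 (by rw [hm, hp]; exact hηx))
  have hne : p.asIdeal ⊔ Ideal.span {φ.hom π} ≠ ⊤ := fun h => m.isPrime.ne_top (top_le_iff.1 (h.ge.trans
    (sup_le hpm ((Ideal.span_singleton_le_iff_mem _).2
      ((mem_iff_closed q j φ hφ hπm m).2 (by rw [hm]; exact hqx))))))
  obtain ⟨Q, hQ, hpQ⟩ := MinimalPrimeSpecialize.exists_minimalPrime_over (φ.hom π) hnz hR
    (mem_minimalPrimes_of_generic j p (hp ▸ hη)) hne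
  let Q' : Spec Γ(X, W) := (⟨Q, hQ.1.1⟩ : PrimeSpectrum Γ(X, W))
  have hQc : q (j Q') = c := (mem_iff_closed q j φ hφ hπm Q').1 (hQ.1.2 (Ideal.mem_span_singleton_self _))
  obtain ⟨s, hs⟩ : j Q' ∈ Set.range (q.fiberι c) := by rw [Scheme.Hom.range_fiberι]; exact hQc
  refine ⟨s, H8Props.mem_genericPoints_iff.2 fun t ht => ?_, ?_⟩
  · refine (q.fiberι c).isEmbedding.injective ?_
    have ht' : q.fiberι c t ⤳ j Q' := hs ▸ ht.map (q.fiberι c).continuous
    obtain ⟨T, hT⟩ := ht'.mem_open j.isOpenEmbedding.isOpen_range ⟨Q', rfl⟩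
    have htc : q (q.fiberι c t) = c := (Scheme.Hom.range_fiberι q c).le ⟨t, rfl⟩
    have hTQ : T.asIdeal ≤ Q := (PrimeSpectrum.le_iff_specializes T Q').2
      (j.isOpenEmbedding.isInducing.specializes_iff.1 (by rw [hT]; exact ht'))
    have hle : Q ≤ T.asIdeal := hQ.2 ⟨T.isPrime, (Ideal.span_singleton_le_iff_mem _).2
      ((mem_iff_closed q j φ hφ hπm T).2 (by rw [hT]; exact htc))⟩ hTQ
    rw [hs, ← hT]
    exact congrArg j (PrimeSpectrum.ext (le_antisymm hTQ hle) : T = Q')
  · rw [hs, ← hp]
    exact ((PrimeSpectrum.le_iff_specializes p Q').1 hpQ).map j.continuous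

set_option maxHeartbeats 800000 in
/-- The generic point of a component of the reduced closed fibre has at most one generization which is
a generic point off the closed fibre. -/
theorem eq_of_specializes_closedFibre [LocallyOfFiniteType q]
    (hred : IsReduced (q.fiber (closedPoint A : Spec (CommRingCat.of A)))) {η η' : X}
    (hη : η ∈ genericPoints X) (hη' : η' ∈ genericPoints X)
    (hqη : q η ≠ (closedPoint A : Spec (CommRingCat.of A)))
    {s : ↥(q.fiber (closedPoint A : Spec (CommRingCat.of A)))}
    (hs : s ∈ genericPoints ↥(q.fiber (closedPoint A : Spec (CommRingCat.of A))))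
    (h : η ⤳ q.fiberι (closedPoint A : Spec (CommRingCat.of A)) s)
    (h' : η' ⤳ q.fiberι (closedPoint A : Spec (CommRingCat.of A)) s) : η = η' := by
  let c : Spec (CommRingCat.of A) := closedPoint A
  haveI : IsNoetherianRing (CommRingCat.of A) := inferInstanceAs (IsNoetherianRing A)
  haveI : IsLocallyNoetherian X := LocallyOfFiniteType.isLocallyNoetherian q
  obtain ⟨W, hW, hxW, -⟩ := exists_isAffineOpen_mem_and_subset (x := q.fiberι c s) (U := (⊤ : X.Opens)) trivial
  haveI : IsNoetherianRing Γ(X, W) := IsLocallyNoetherian.component_noetherian ⟨W, hW⟩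
  let j : Spec Γ(X, W) ⟶ X := hW.fromSpec
  obtain ⟨φ, hφ⟩ := Spec.map_surjective (j ≫ q)
  obtain ⟨Q', hQ'⟩ : q.fiberι c s ∈ Set.range j := by rw [hW.range_fromSpec]; exact hxW
  obtain ⟨p, rfl⟩ : η ∈ Set.range j := by rw [hW.range_fromSpec]; exact h.mem_open W.2 hxW
  obtain ⟨p', rfl⟩ : η' ∈ Set.range j := by rw [hW.range_fromSpec]; exact h'.mem_open W.2 hxW
  obtain ⟨π, hπ⟩ := IsDiscreteValuationRing.exists_irreducible A
  have hπm := hπ.maximalIdeal_eq
  have hR : _root_.IsReduced (Γ(X, W) ⧸ Ideal.span {φ.hom π}) :=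
    H06Conn.isReduced_quotient_of_fibre A q c rfl hred j φ hφ π hπm
  have hle : ∀ P : Spec Γ(X, W), j P ⤳ q.fiberι c s → P.asIdeal ≤ Q'.asIdeal := fun P hP =>
    (PrimeSpectrum.le_iff_specializes P Q').2
      (j.isOpenEmbedding.isInducing.specializes_iff.1 (hQ'.symm ▸ hP))
  have hQmin : Q'.asIdeal ∈ (Ideal.span {φ.hom π}).minimalPrimes := by
    refine ⟨⟨Q'.isPrime, (Ideal.span_singleton_le_iff_mem _).2 ((mem_iff_closed q j φ hφ hπm Q').2 ?_)⟩,
      fun T hT hTQ => ?_⟩
    · rw [hQ']; exact (Scheme.Hom.range_fiberι q c).le ⟨s, rfl⟩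
    · let T' : Spec Γ(X, W) := (⟨T, hT.1⟩ : PrimeSpectrum Γ(X, W))
      obtain ⟨t, ht⟩ : j T' ∈ Set.range (q.fiberι c) := by
        rw [Scheme.Hom.range_fiberι]
        exact (mem_iff_closed q j φ hφ hπm T').1 (hT.2 (Ideal.mem_span_singleton_self _))
      have hts : t ⤳ s := (q.fiberι c).isEmbedding.isInducing.specializes_iff.1
        (by rw [ht, ← hQ']; exact ((PrimeSpectrum.le_iff_specializes T' Q').1 hTQ).map j.continuous)
      have := H8Props.mem_genericPoints_iff.1 hs t hts
      subst this
      exact (congrArg PrimeSpectrum.asIdeal (j.isOpenEmbedding.injective (ht.symm.trans hQ'.symm))).ge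
  exact congrArg j (PrimeSpectrum.ext (MinimalPrimeSpecialize.eq_of_le_minimalPrime (φ.hom π) hR hQmin
    (mem_minimalPrimes_of_generic j p hη) (mem_minimalPrimes_of_generic j p' hη')
    (hle p h) (hle p' h') fun hmem => hqη ((mem_iff_closed q j φ hφ hπm p).1 hmem)))

/-- The generic fibre has no more components than a reduced closed fibre. -/
theorem encard_generic_le [Flat q] [LocallyOfFiniteType q] [UniversallyClosed q]
    (hred : IsReduced (q.fiber (closedPoint A : Spec (CommRingCat.of A))))
    (K : Type u) [Field K] [Algebra A K] [IsFractionRing A K] :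
    (irreducibleComponents ↥(pullback q (Spec.map (CommRingCat.ofHom (algebraMap A K))))).encard ≤
      (irreducibleComponents ↥(q.fiber (closedPoint A : Spec (CommRingCat.of A)))).encard := by
  set c : Spec (CommRingCat.of A) := closedPoint A
  let γ := Spec.map (CommRingCat.ofHom (algebraMap A K))
  haveI : Flat γ := by
    rw [HasRingHomProperty.Spec_iff (P := @Flat)]
    exact RingHom.flat_algebraMap_iff.2 (IsLocalization.flat K (nonZeroDivisors A))
  haveI : IsPreimmersion γ := IsPreimmersion.of_isLocalization (R := A) (S := K) (nonZeroDivisors A)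
  let ιG := pullback.fst q γ
  have hne : ∀ z, q (ιG z) ≠ c := fun z hz => by
    rw [← Scheme.Hom.comp_apply, pullback.condition, Scheme.Hom.comp_apply] at hz
    have h : Ideal.comap (algebraMap A K) (pullback.snd q γ z).asIdeal = maximalIdeal A :=
      congrArg PrimeSpectrum.asIdeal hz
    have hb : (pullback.snd q γ z : PrimeSpectrum K).asIdeal = ⊥ :=
      (eq_bot_or_eq_top _).resolve_right (pullback.snd q γ z : PrimeSpectrum K).isPrime.ne_top
    rw [hb, ← RingHom.ker_eq_comap_bot, (RingHom.injective_iff_ker_eq_bot _).1 (IsFractionRing.injective A K)] at h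
    exact IsDiscreteValuationRing.not_a_field A h.symm
  choose s hs hsp using fun z : genericPoints ↥(pullback q γ) =>
    exists_closedFibre_component q hred (H8Props.flat_map_genericPoints ιG z.2)
  have key : ENat.card (genericPoints ↥(pullback q γ)) ≤ ENat.card (genericPoints ↥(q.fiber c)) := by
    refine ENat.card_le_card_of_injective (f := fun z => (⟨s z, hs z⟩ : genericPoints ↥(q.fiber c))) ?_
    intro z z' h
    have h0 : s z = s z' := congrArg Subtype.val h
    exact Subtype.ext (ιG.isEmbedding.injective (eq_of_specializes_closedFibre q hred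
      (H8Props.flat_map_genericPoints ιG z.2) (H8Props.flat_map_genericPoints ιG z'.2)
      (hne z.1) (hs z) (hsp z) (h0 ▸ hsp z')))
  calc (irreducibleComponents ↥(pullback q γ)).encard
      = ENat.card (genericPoints ↥(pullback q γ)) := ENat.card_congr (genericPoints.equiv).symm
    _ ≤ _ := key
    _ = (irreducibleComponents ↥(q.fiber c)).encard := ENat.card_congr genericPoints.equiv

end Groth.Agent.H8Norm.CompCountDVR
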