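import Groth.Agent.H06SecComp.BaseChange
import Groth.Agent.H22Alg.FieldComponents
import Groth.Agent.S15351

/-! Components of fibres of smooth morphisms meeting the image of a universally open morphism. -/

set_option autoImplicit false
set_option linter.style.haveILetI false
universe u

open CategoryTheory CategoryTheory.Limits AlgebraicGeometry TopologicalSpace Topology

namespace Groth.Agent.H8Norm

set_option backward.isDefEq.respectTransparency false in
/-- The component of a fibre of a base change through a point maps onto the component of its image. -/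
theorem image_component_fibre {X S S' : Scheme.{u}} (f : X ⟶ S) (g : S' ⟶ S) (s' : S') (z : ↑(pullback f g))
    (hz : pullback.snd f g z = s') :
    pullback.fst f g '' connectedComponentIn (pullback.snd f g ⁻¹' {s'}) z =
      connectedComponentIn (f ⁻¹' {g s'}) (pullback.fst f g z) := by
  let F := f.fiberToSpecResidueField (g s')
  let ι := f.fiberι (g s')
  letI : Algebra (IsLocalRing.ResidueField (S.presheaf.stalk (g s'))) (S'.residueField s') := (g.residueFieldMap s').hom.toAlgebra
  let q := pullback.snd f g
  let hP := isPullback_fiberToSpecResidueField_of_isPullback (IsPullback.of_hasPullback f g) s'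
  let e : q.fiber s' ≅ FBase.bc F (S'.residueField s') := hP.isoPullback
  have hem : e.hom ≫ FBase.bcπ F (S'.residueField s') ≫ ι = q.fiberι s' ≫ pullback.fst f g := by
    show hP.isoPullback.hom ≫ pullback.fst _ _ ≫ f.fiberι (g s') = _
    rw [← Category.assoc, IsPullback.isoPullback_hom_fst]
    exact pullback.lift_fst _ _ _
  have hem' : ∀ w, ι ((FBase.bcπ F (S'.residueField s')) (e.hom w)) = pullback.fst f g (q.fiberι s' w) :=
    fun w => congrArg (fun φ : q.fiber s' ⟶ X => φ w) hem
  obtain ⟨w, hw⟩ : z ∈ Set.range (q.fiberι s') := by rw [q.range_fiberι]; exact hz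
  subst hw
  have h1 : q.fiberι s' '' connectedComponent w =
      connectedComponentIn (q ⁻¹' {s'}) (q.fiberι s' w) := by
    rw [← connectedComponentIn_univ, H06SecComp.image_connectedComponentIn_of_isEmbedding
      (q.fiberι s').isEmbedding (Set.mem_univ _), Set.image_univ, q.range_fiberι]
  have h2 : ι '' connectedComponent (FBase.bcπ F (S'.residueField s') (e.hom w)) =
      connectedComponentIn (f ⁻¹' {g s'}) (pullback.fst f g (q.fiberι s' w)) := by
    rw [← hem', ← connectedComponentIn_univ, H06SecComp.image_connectedComponentIn_of_isEmbedding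
      ι.isEmbedding (Set.mem_univ _), Set.image_univ, f.range_fiberι]
  have h3 : e.hom '' connectedComponent w = connectedComponent (e.hom w) :=
    by
    rw [← connectedComponentIn_univ, H06SecComp.image_connectedComponentIn_of_isEmbedding
      e.hom.isEmbedding (Set.mem_univ _), Set.image_univ,
      Set.range_eq_univ.2 e.hom.surjective, connectedComponentIn_univ]
  rw [← h1, ← h2, ← H22Alg.FieldComponents.image_connectedComponent F, ← h3, Set.image_image, Set.image_image,
    Set.image_image]
  exact Set.image_congr fun a _ => (hem' a).symm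

theorem exists_open_components_of_affine {S S' X : Scheme.{u}} [IsAffine S'] (f : X ⟶ S)
    [Smooth f] [QuasiSeparated f] (g : S' ⟶ S) [UniversallyOpen g] (e : S' ⟶ X) (he : e ≫ f = g) :
    ∃ U : X.Opens, ∀ s : S, (U : Set ↥X) ∩ f ⁻¹' {s} =
      ⋃ x ∈ Set.range e ∩ f ⁻¹' {s}, connectedComponentIn (f ⁻¹' {s}) x := by
  let f' := pullback.snd f g
  let p := pullback.fst f g
  let e' : S' ⟶ pullback f g := pullback.lift e (𝟙 _) (by rw [he, Category.id_comp])
  have he' : e' ≫ f' = 𝟙 _ := pullback.lift_snd _ _ _
  have hep : ∀ t, p (e' t) = e t := fun t => congrArg (fun φ : S' ⟶ X => φ t) (pullback.lift_fst e (𝟙 _) _)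
  have hft : ∀ t, f' (e' t) = t := fun t => congrArg (fun φ : S' ⟶ S' => φ t) he'
  haveI : QuasiSeparated f' := inferInstance
  haveI : QuasiSeparatedSpace S' := inferInstance
  haveI : QuasiSeparatedSpace ↑(pullback f g) := quasiSeparatedSpace_of_quasiSeparated f'
  have hopen := Groth.Agent.S15351.result f' e' he'
  haveI : UniversallyOpen p := inferInstance
  refine ⟨⟨p '' MoreMor.sectionComponents f' e', p.isOpenMap _ hopen⟩, fun s => ?_⟩
  ext x
  simp only [TopologicalSpace.Opens.coe_mk, Set.mem_inter_iff, Set.mem_image, Set.mem_iUnion, Set.mem_preimage,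
    Set.mem_singleton_iff, Set.mem_range, exists_prop]
  constructor
  · rintro ⟨⟨z, hz, rfl⟩, hxs⟩
    have hgz : g (f' z) = s := by
      rw [← hxs, ← Scheme.Hom.comp_apply, ← pullback.condition, Scheme.Hom.comp_apply]
    refine ⟨e (f' z), ⟨⟨_, rfl⟩, ?_⟩, ?_⟩
    · rw [← Scheme.Hom.comp_apply, he, hgz]
    · rw [← hgz, ← hep, ← image_component_fibre f g (f' z) _ (hft _)]
      exact Set.mem_image_of_mem _ hz
  · rintro ⟨a, ⟨⟨t, rfl⟩, hts⟩, hx⟩
    have hgt : g t = s := by rw [← hts, ← Scheme.Hom.comp_apply, he]
    refine ⟨?_, (connectedComponentIn_subset _ _ hx : x ∈ f ⁻¹' {s})⟩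
    rw [← hgt, ← hep, ← image_component_fibre f g t _ (hft _)] at hx
    obtain ⟨z, hz, rfl⟩ := hx
    refine ⟨z, ?_, rfl⟩
    show z ∈ connectedComponentIn (f' ⁻¹' {f' z}) (e' (f' z))
    have hzt : f' z = t := (connectedComponentIn_subset _ _ hz : z ∈ f' ⁻¹' {t})
    rw [hzt]
    exact hz

end Groth.Agent.H8Norm
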