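import Groth.Agent.H8Norm.GaussNormal
import Groth.Agent.H8Props.FieldDimFibre
import Groth.Agent.H17.NormalNormalization
import Groth.Agent.H3CAlg.ValPd
import Groth.Prelude.Def_Pi1

/-!
# Local rings of normal relative curves over valuation rings at generic points of fibres

Such a local ring is a valuation ring.
-/

set_option autoImplicit false
set_option linter.style.haveILetI false
set_option backward.isDefEq.respectTransparency false

universe u

open CategoryTheory CategoryTheory.Limits AlgebraicGeometry TopologicalSpace Topology Opposite IsLocalRing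

namespace Groth.Agent.H8Norm.CurveValuation

variable {C S : Scheme.{u}} (φ : C ⟶ S) [LocallyOfFiniteType φ]

/-- The residue field at a generic point of a fibre of pure dimension one has transcendence degree one. -/
theorem trdeg_residueField_eq_one
    (hdim : ∀ s : S, ∀ Z ∈ irreducibleComponents (φ.fiber s : Type u), topologicalKrullDim Z = 1)
    (x : C) (hx : ∀ y : C, y ⤳ x → φ y = φ x → y = x) :
    @Algebra.trdeg (S.residueField (φ x)) (C.residueField x) _ _ (φ.residueFieldMap x).hom.toAlgebra = 1 := by
  haveI := H8Props.FieldDim.locallyOfFiniteType_fiberToSpec φ (φ x)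
  letI := (φ.residueFieldMap x).hom.toAlgebra
  obtain ⟨s, hs, hs'⟩ := H8Props.FieldDim.exists_trdeg (k := S.residueField (φ x)) (φ.fiberToSpecResidueField (φ x))
    (L := C.residueField x) (φ.asFiberHom x) (φ.asFiberHom_fiberToSpecResidueField x)
    (IsLocalRing.closedPoint _)
  have hu : φ.asFiberHom x (IsLocalRing.closedPoint (C.residueField x)) = φ.asFiber x :=
    φ.asFiberHom_apply x _
  have hgen : φ.asFiber x ∈ genericPoints ↥(φ.fiber (φ x)) := H17.mem_genericPoints_iff.2 fun z hz => by
    have h := hx (φ.fiberι (φ x) z) ((hz.map (φ.fiberι (φ x)).continuous).trans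
      (specializes_of_eq (φ.fiberι_asFiber x))) ((φ.range_fiberι (φ x)).le ⟨z, rfl⟩)
    exact (φ.fiberι (φ x)).isEmbedding.injective (h.trans (φ.fiberι_asFiber x).symm)
  replace hs : H8Props.FieldDim.cdim (φ.asFiber x) = (s : WithBot ℕ∞) := hu ▸ hs
  have h1 : (s : WithBot ℕ∞) = 1 := hs.symm.trans (hdim (φ x) _ hgen)
  have h2 : s = 1 := by exact_mod_cast h1
  rw [hs', h2, Nat.cast_one]

variable {R : Type u} [CommRing R] [IsDomain R] [ValuationRing R]

/-- The local rings of the spectrum of a valuation ring are valuation rings. -/
theorem valuationRing_stalk (p : Spec (CommRingCat.of R)) :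
    ∃ _ : IsDomain ((Spec (CommRingCat.of R)).presheaf.stalk p),
      ValuationRing ((Spec (CommRingCat.of R)).presheaf.stalk p) := by
  haveI := H3CAlg.ValPd.valuationRing_localization (V := R) p.asIdeal
  haveI : IsDomain (Localization.AtPrime p.asIdeal) :=
    IsLocalization.isDomain_localization p.asIdeal.primeCompl_le_nonZeroDivisors
  let e : Localization.AtPrime p.asIdeal ≃+* (Spec.structureSheaf R).presheaf.stalk p :=
    (IsLocalization.algEquiv p.asIdeal.primeCompl (Localization.AtPrime p.asIdeal)
      ((Spec.structureSheaf R).presheaf.stalk p)).toRingEquiv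
  haveI : IsDomain ((Spec.structureSheaf R).presheaf.stalk p) := e.symm.toMulEquiv.isDomain
  exact ⟨‹_›, Function.Surjective.valuationRing (e : Localization.AtPrime p.asIdeal →+* (Spec.structureSheaf R).presheaf.stalk p) e.surjective⟩

/-- The residue field of the generic point is algebraic over every local ring. -/
theorem exists_eq_div (p b : Spec (CommRingCat.of R)) (hb : b.asIdeal = ⊥) (h : b ⤳ p)
    (z : (Spec (CommRingCat.of R)).residueField b) :
    ∃ a c : (Spec (CommRingCat.of R)).presheaf.stalk p,
      (Spec (CommRingCat.of R)).residue b ((Spec (CommRingCat.of R)).presheaf.stalkSpecializes h c) ≠ 0 ∧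
      z * (Spec (CommRingCat.of R)).residue b ((Spec (CommRingCat.of R)).presheaf.stalkSpecializes h c) =
        (Spec (CommRingCat.of R)).residue b ((Spec (CommRingCat.of R)).presheaf.stalkSpecializes h a) := by
  obtain ⟨w, rfl⟩ := (Spec (CommRingCat.of R)).residue_surjective b z
  obtain ⟨a, c, hc, he⟩ := H17.NormalNormalization.stalkSpecializes_exists_div h w
  refine ⟨a, c, (hc.map ((Spec (CommRingCat.of R)).residue b).hom).ne_zero, ?_⟩
  rw [← map_mul, he]

set_option maxHeartbeats 1600000 in
/-- **The local ring at a generic point of a fibre is a valuation ring.** -/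
theorem valuationRing_of_fibreGeneric {C : Scheme.{u}} (φ : C ⟶ Spec (CommRingCat.of R)) [Flat φ]
    [LocallyOfFiniteType φ] [IsIntegral C] (hN : Pi1.IsNormalScheme C)
    (hdim : ∀ s, ∀ Z ∈ irreducibleComponents (φ.fiber s : Type u), topologicalKrullDim Z = 1)
    (x : C) (hx : ∀ y : C, y ⤳ x → φ y = φ x → y = x) : ValuationRing (C.presheaf.stalk x) := by
  let S := Spec (CommRingCat.of R)
  let η : C := genericPoint C
  have hηx : η ⤳ x := genericPoint_specializes x
  have hη : η ∈ genericPoints C := H17.mem_genericPoints_iff.2 fun y hy =>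
    (hy.antisymm (genericPoint_specializes y)).eq
  have hb : (φ η).asIdeal = ⊥ := by
    have h := H17.mem_genericPoints_iff.1 (H8Props.flat_map_genericPoints φ hη)
      (⟨⊥, Ideal.isPrime_bot⟩ : PrimeSpectrum R) ((PrimeSpectrum.le_iff_specializes _ _).1 bot_le)
    exact (congrArg PrimeSpectrum.asIdeal h).symm
  have hηgen : ∀ y : C, y ⤳ η → φ y = φ η → y = η := fun y hy _ => H17.mem_genericPoints_iff.1 hη y hy
  have hsp : φ η ⤳ φ x := hηx.map φ.continuous
  obtain ⟨_, hVal⟩ := valuationRing_stalk (φ x)
  haveI := hVal
  haveI := (hN x).1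
  haveI := (hN x).2
  haveI : IsFractionRing (C.presheaf.stalk x) C.functionField := inferInstance
  let V := S.presheaf.stalk (φ x)
  let B := C.presheaf.stalk x
  let L := C.residueField η
  letI : Algebra V B := (φ.stalkMap x).hom.toAlgebra
  haveI : IsLocalHom (algebraMap V B) := inferInstanceAs (IsLocalHom (φ.stalkMap x).hom)
  have hVB : Function.Injective (algebraMap V B) := by
    haveI : Module.Flat V B := Flat.stalkMap φ x
    haveI : Module.FaithfullyFlat V B := Module.FaithfullyFlat.of_flat_of_isLocalHom
    exact FaithfulSMul.algebraMap_injective V B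
  have hfield : IsField (C.presheaf.stalk η) :=
    Field.toIsField C.functionField
  haveI : IsLocalHom (C.residue η).hom := inferInstance
  have hres : Function.Bijective (C.residue η).hom := ⟨by
    letI := hfield.toField
    exact (C.residue η).hom.injective, C.residue_surjective η⟩
  let ρ : C.functionField ≃+* L := RingEquiv.ofBijective (C.residue η).hom hres
  letI : Algebra B L := ((C.residue η).hom.comp (C.presheaf.stalkSpecializes hηx).hom).toAlgebra
  haveI : IsFractionRing B L :=
    IsLocalization.isLocalization_of_algEquiv (nonZeroDivisors B)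
      ({ ρ with commutes' := fun _ => rfl } : C.functionField ≃ₐ[B] L)
  letI : Algebra V L := ((algebraMap B L).comp (algebraMap V B)).toAlgebra
  haveI : IsScalarTower V B L := IsScalarTower.of_algebraMap_eq fun _ => rfl
  -- the transcendence degree of the function field
  let K := S.residueField (φ η)
  letI : Algebra K L := (φ.residueFieldMap η).hom.toAlgebra
  letI : Algebra V K := ((S.residue (φ η)).hom.comp (S.presheaf.stalkSpecializes hsp).hom).toAlgebra
  haveI : IsScalarTower V K L := IsScalarTower.of_algebraMap_eq fun v => by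
    show (C.residue η).hom ((C.presheaf.stalkSpecializes hηx).hom ((φ.stalkMap x).hom v)) =
      (φ.residueFieldMap η).hom ((S.residue (φ η)).hom ((S.presheaf.stalkSpecializes hsp).hom v))
    have h1 := Scheme.Hom.stalkSpecializes_stalkMap_apply φ η x hηx v
    have h2 := congr($(Scheme.residue_residueFieldMap φ η) ((S.presheaf.stalkSpecializes hsp).hom v))
    exact (congrArg (C.residue η).hom h1.symm).trans h2.symm
  haveI : Algebra.IsAlgebraic V K := ⟨fun z => by
    obtain ⟨a, c, hc, he⟩ := exists_eq_div (φ x) (φ η) hb hsp z
    refine ⟨Polynomial.C c * Polynomial.X - Polynomial.C a, fun h0 => hc ?_, ?_⟩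
    · have h1 : ∀ w : K, algebraMap V K c * w - algebraMap V K a = 0 := fun w => by
        have h := congrArg (Polynomial.aeval w) h0
        rwa [map_sub, map_mul, Polynomial.aeval_C, Polynomial.aeval_X, Polynomial.aeval_C, map_zero] at h
      show algebraMap V K c = 0
      linear_combination h1 1 - h1 0
    · rw [map_sub, map_mul, Polynomial.aeval_C, Polynomial.aeval_X, Polynomial.aeval_C, sub_eq_zero, mul_comm]
      exact he⟩
  have hVL : Function.Injective (algebraMap V L) := (IsFractionRing.injective B L).comp hVB
  haveI : FaithfulSMul V K := by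
    refine (faithfulSMul_iff_algebraMap_injective V K).2 fun a b hab => hVL ?_
    rw [IsScalarTower.algebraMap_apply V K L a, IsScalarTower.algebraMap_apply V K L b, hab]
  haveI : FaithfulSMul K L := (faithfulSMul_iff_algebraMap_injective K L).2 (algebraMap K L).injective
  have htr : Algebra.trdeg V L ≤ 1 := by
    rw [← trdeg_add_eq V K (A := L), trdeg_eq_zero, zero_add]
    exact (trdeg_residueField_eq_one φ hdim η hηgen).le
  -- a transcendental residue
  letI : Algebra (S.residueField (φ x)) (C.residueField x) := (φ.residueFieldMap x).hom.toAlgebra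
  have hx1 := trdeg_residueField_eq_one φ hdim x hx
  obtain ⟨τ, hτ⟩ : ∃ τ : C.residueField x, Transcendental (S.residueField (φ x)) τ := by
    by_contra hh
    push Not at hh
    haveI : Algebra.IsAlgebraic (S.residueField (φ x)) (C.residueField x) := ⟨fun z => not_not.1 (hh z)⟩
    rw [trdeg_eq_zero] at hx1
    exact zero_ne_one hx1
  obtain ⟨t, rfl⟩ := C.residue_surjective x τ
  refine GaussNormal.valuationRing_of_transcendental (V := V) (L := L) hVB htr t ?_
  have e : algebraMap (IsLocalRing.ResidueField V) (IsLocalRing.ResidueField B) = (φ.residueFieldMap x).hom := by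
    refine RingHom.ext fun v => ?_
    obtain ⟨v, rfl⟩ := IsLocalRing.residue_surjective v
    exact (congr($(Scheme.residue_residueFieldMap φ x) v)).symm
  rw [transcendental_iff] at hτ ⊢
  intro q hq
  rw [Polynomial.aeval_def, e] at hq
  exact hτ q (by rw [Polynomial.aeval_def]; exact hq)

end Groth.Agent.H8Norm.CurveValuation
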