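import Groth.Agent.H3CAlg.NoEmbedded
import Mathlib.RingTheory.DiscreteValuationRing.TFAE
import Mathlib.RingTheory.LocalRing.ResidueField.Fiber
import Mathlib.RingTheory.TensorProduct.Quotient

/-!
# A flat algebra with reduced fibres over a normal Noetherian domain is closed under integral division
-/

set_option autoImplicit false
set_option linter.style.haveILetI false

universe u

open scoped TensorProduct

namespace Groth.Agent.H8Norm.EtaClosed

/-- The case of a discrete valuation ring: powers of a uniformiser. -/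
theorem dvd_of_relation_pow {V B : Type u} [CommRing V] [CommRing B] [Algebra V B] (ϖ : V)
    (hreg : ∀ b : B, algebraMap V B ϖ * b = 0 → b = 0)
    (hred : ∀ b : B, ∀ n : ℕ, algebraMap V B ϖ ∣ b ^ n → algebraMap V B ϖ ∣ b)
    (n : ℕ) (c : ℕ → B) : ∀ (m : ℕ) (e a : B), IsUnit e →
    a ^ n + ∑ i ∈ Finset.range n, c i * (e * algebraMap V B ϖ ^ m) ^ (n - i) * a ^ i = 0 →
      e * algebraMap V B ϖ ^ m ∣ a := by
  intro m
  induction m with
  | zero => intro e a he _; rw [pow_zero, mul_one]; exact he.dvd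
  | succ m ih =>
    intro e a he h
    set p := algebraMap V B ϖ with hp
    have hdvd : p ∣ a := by
      refine hred a n ?_
      rw [eq_neg_of_add_eq_zero_left h, dvd_neg]
      refine Finset.dvd_sum fun i hi => Dvd.dvd.mul_right (Dvd.dvd.mul_left ?_ _) _
      exact dvd_pow (Dvd.dvd.mul_left (dvd_pow_self p (Nat.succ_ne_zero m)) e)
        (Nat.sub_ne_zero_of_lt (Finset.mem_range.1 hi))
    obtain ⟨a', rfl⟩ := hdvd
    have hcancel : ∀ k : ℕ, ∀ b : B, p ^ k * b = 0 → b = 0 := by
      intro k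
      induction k with
      | zero => intro b hb; simpa using hb
      | succ k ihk => intro b hb; exact hreg b (ihk _ (by rw [← mul_assoc, ← pow_succ]; exact hb))
    have h' : a' ^ n + ∑ i ∈ Finset.range n, c i * (e * p ^ m) ^ (n - i) * a' ^ i = 0 := by
      refine hcancel n _ ?_
      rw [← h, mul_add, Finset.mul_sum, mul_pow p a']
      congr 1
      refine Finset.sum_congr rfl fun i hi => ?_
      have hni : n = (n - i) + i := (Nat.sub_add_cancel (Finset.mem_range.1 hi).le).symm
      calc p ^ n * (c i * (e * p ^ m) ^ (n - i) * a' ^ i)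
          = c i * ((e * p ^ m) ^ (n - i) * p ^ (n - i)) * (p ^ i * a' ^ i) := by
            nth_rw 1 [hni]; rw [pow_add]; ring
        _ = c i * (e * p ^ (m + 1)) ^ (n - i) * (p * a') ^ i := by
            rw [← mul_pow, ← mul_pow]; ring
    obtain ⟨b, hb⟩ := ih e a' he h'
    exact ⟨b, by rw [hb, pow_succ]; ring⟩

variable {R A : Type u} [CommRing R] [CommRing A] [Algebra R A]

/-- The reduction of `B = V ⊗ A` modulo the maximal ideal is the fibre. -/
theorem dvd_of_dvd_pow (V : Type u) [CommRing V] [IsLocalRing V] [Algebra R V]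
    [IsReduced (IsLocalRing.ResidueField V ⊗[R] A)] (ϖ : V) (hϖ : IsLocalRing.maximalIdeal V = Ideal.span {ϖ})
    (b : V ⊗[R] A) (n : ℕ) (h : algebraMap V (V ⊗[R] A) ϖ ∣ b ^ n) : algebraMap V (V ⊗[R] A) ϖ ∣ b := by
  let m := IsLocalRing.maximalIdeal V
  let e1 := Algebra.TensorProduct.quotIdealMapEquivTensorQuot (V ⊗[R] A) m
  let e2 : (V ⊗[R] A) ⊗[V] (V ⧸ m) ≃ₐ[V] (V ⧸ m) ⊗[R] A :=
    (Algebra.TensorProduct.comm V (V ⊗[R] A) (V ⧸ m)).trans
      ((Algebra.TensorProduct.cancelBaseChange R V V (V ⧸ m) A))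
  haveI : IsReduced ((V ⧸ m) ⊗[R] A) := ‹IsReduced (IsLocalRing.ResidueField V ⊗[R] A)›
  haveI : IsReduced ((V ⊗[R] A) ⊗[V] (V ⧸ m)) :=
    isReduced_of_injective e2.toAlgHom.toRingHom e2.injective
  haveI : IsReduced ((V ⊗[R] A) ⧸ m.map (algebraMap V (V ⊗[R] A))) :=
    isReduced_of_injective e1.toAlgHom.toRingHom e1.injective
  have hm : m.map (algebraMap V (V ⊗[R] A)) = Ideal.span {algebraMap V (V ⊗[R] A) ϖ} := by
    rw [show m = Ideal.span {ϖ} from hϖ, Ideal.map_span, Set.image_singleton]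
  rw [← Ideal.mem_span_singleton, ← hm, ← Ideal.Quotient.eq_zero_iff_mem] at h ⊢
  rw [map_pow] at h
  exact IsReduced.eq_zero _ ⟨n, h⟩

variable [IsDomain R]

/-- At a height one prime. -/
theorem exists_smul_dvd [IsNoetherianRing R] [IsIntegrallyClosed R] [Module.Flat R A] (q : Ideal R) [q.IsPrime]
    (hq1 : q.height ≤ 1) (hq0 : q ≠ ⊥) [IsReduced (q.ResidueField ⊗[R] A)] {r : R} (hr : r ≠ 0) (a : A) (n : ℕ) (c : ℕ → A)
    (h : a ^ n + ∑ i ∈ Finset.range n, c i * algebraMap R A r ^ (n - i) * a ^ i = 0) :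
    ∃ s ∉ q, algebraMap R A r ∣ algebraMap R A s * a := by
  let V := Localization.AtPrime q
  haveI : IsDomain V := IsLocalization.isDomain_localization q.primeCompl_le_nonZeroDivisors
  haveI : IsIntegrallyClosed V := isIntegrallyClosed_of_isLocalization _ q.primeCompl q.primeCompl_le_nonZeroDivisors
  haveI : IsNoetherianRing V := IsLocalization.isNoetherianRing q.primeCompl _ inferInstance
  have hh : q.height = 1 := by
    refine le_antisymm hq1 ?_
    rw [ENat.one_le_iff_ne_zero]
    exact fun h0 => hq0 (Ideal.height_eq_zero_iff_eq_bot.mp h0)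
  have hnf : ¬ IsField V := fun hf => hq0 (by
    have := hf.toField
    have hb : IsLocalRing.maximalIdeal V = ⊥ := IsLocalRing.isField_iff_maximalIdeal_eq.mp hf
    rw [← IsLocalization.AtPrime.under_maximalIdeal V q, hb]
    exact Ideal.comap_bot_of_injective _ (IsLocalization.injective V q.primeCompl_le_nonZeroDivisors))
  have hmax : IsLocalRing.maximalIdeal V ≠ ⊥ := mt IsLocalRing.isField_iff_maximalIdeal_eq.mpr hnf
  haveI : IsDiscreteValuationRing V := by
    have htfae : (IsIntegrallyClosed V ∧ ∃! P : Ideal V, P ≠ ⊥ ∧ P.IsPrime) ↔ IsDiscreteValuationRing V :=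
      (IsDiscreteValuationRing.TFAE V hnf).out 3 0
    refine htfae.mp ⟨inferInstance, IsLocalRing.maximalIdeal V, ⟨hmax, inferInstance⟩, ?_⟩
    rintro P ⟨hP0, hP⟩
    haveI := hP
    by_contra hne
    have hlt : P < IsLocalRing.maximalIdeal V := lt_of_le_of_ne (IsLocalRing.le_maximalIdeal hP.ne_top) hne
    have h1 : (IsLocalRing.maximalIdeal V).height = 1 := by
      rw [← hh, ← IsLocalization.height_under q.primeCompl, IsLocalization.AtPrime.under_maximalIdeal V q]
    have h2 := Ideal.height_strict_mono_of_isPrime hlt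
    rw [h1, ENat.lt_one_iff_eq_zero] at h2
    exact hP0 (Ideal.height_eq_zero_iff_eq_bot.mp h2)
  obtain ⟨ϖ, hϖ⟩ := IsDiscreteValuationRing.exists_irreducible V
  have hrV : algebraMap R V r ≠ 0 := fun h0 => hr (IsLocalization.injective V q.primeCompl_le_nonZeroDivisors
    (h0.trans (map_zero _).symm))
  obtain ⟨m, e, hre⟩ := IsDiscreteValuationRing.eq_unit_mul_pow_irreducible hrV hϖ
  haveI : IsReduced (IsLocalRing.ResidueField V ⊗[R] A) := ‹IsReduced (q.ResidueField ⊗[R] A)›
  let ι : A →ₐ[R] V ⊗[R] A := Algebra.TensorProduct.includeRight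
  have hrel := congrArg ι h
  simp only [map_add, map_sum, map_mul, map_pow, map_zero, AlgHom.commutes] at hrel
  rw [IsScalarTower.algebraMap_apply R V (V ⊗[R] A), hre, map_mul, map_pow] at hrel
  haveI : Module.IsTorsionFree V (V ⊗[R] A) := inferInstance
  have hreg : ∀ b : V ⊗[R] A, algebraMap V (V ⊗[R] A) ϖ * b = 0 → b = 0 := fun b hb => by
    rw [← Algebra.smul_def] at hb
    exact (smul_eq_zero.mp hb).resolve_left hϖ.ne_zero
  obtain ⟨x, hx⟩ := dvd_of_relation_pow ϖ hreg (fun b k => dvd_of_dvd_pow V ϖ hϖ.maximalIdeal_eq b k) n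
    (fun i => ι (c i)) m _ _ (e.isUnit.map (algebraMap V (V ⊗[R] A))) hrel
  have hx' : (TensorProduct.mk R V A 1) a = r • x := by
    show (1 : V) ⊗ₜ[R] a = r • x
    rw [show (1 : V) ⊗ₜ[R] a = ι a from rfl, hx, ← map_pow, ← map_mul, ← hre,
      ← IsScalarTower.algebraMap_apply]
    exact (Algebra.smul_def r x).symm
  obtain ⟨⟨b, t⟩, hbt⟩ := IsLocalizedModule.surj q.primeCompl (TensorProduct.mk R V A 1) x
  obtain ⟨s', hs'⟩ := (IsLocalizedModule.eq_iff_exists q.primeCompl (TensorProduct.mk R V A 1)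
    (x₁ := (t : R) • a) (x₂ := r • b)).mp (by rw [map_smul, map_smul, hx', smul_comm, ← hbt]; rfl)
  refine ⟨s' * t, (s' * t).2, algebraMap R A s' * b, ?_⟩
  simp only [Submonoid.smul_def, Algebra.smul_def, map_mul] at hs' ⊢
  linear_combination hs'

/-- The Noetherian core. -/
theorem dvd_of_relation [IsNoetherianRing R] [IsIntegrallyClosed R] [Module.Flat R A]
    (hred : ∀ (q : Ideal R) [q.IsPrime], IsReduced (q.ResidueField ⊗[R] A)) {r : R} (hr : r ≠ 0) (a : A) (n : ℕ) (c : ℕ → A)
    (h : a ^ n + ∑ i ∈ Finset.range n, c i * algebraMap R A r ^ (n - i) * a ^ i = 0) :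
    algebraMap R A r ∣ a := by
  let M := R ⧸ Ideal.span {r}
  let I : Ideal R :=
    { carrier := {s | algebraMap R A r ∣ algebraMap R A s * a}
      add_mem' := fun {x y} hx hy => by rw [Set.mem_ofPred_eq, map_add, add_mul]; exact dvd_add hx hy
      zero_mem' := by simp
      smul_mem' := fun x y hy => by
        rw [Set.mem_ofPred_eq, smul_eq_mul, map_mul, mul_assoc]; exact hy.mul_left _ }
  have hfin : (associatedPrimes R M).Finite := associatedPrimes.finite R M
  obtain ⟨s, hsI, hs⟩ : ∃ s ∈ I, ∀ q ∈ associatedPrimes R M, s ∉ q := by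
    by_contra hcon
    push Not at hcon
    have hsub : (I : Set R) ⊆ ⋃ q ∈ (hfin.toFinset : Set (Ideal R)), (q : Set R) := fun s hs => by
      obtain ⟨q, hq, hsq⟩ := hcon s hs
      exact Set.mem_iUnion₂.2 ⟨q, hfin.mem_toFinset.2 hq, hsq⟩
    obtain ⟨q, hq, hle⟩ := (Ideal.subset_union_prime ⊥ ⊥ fun q hq _ _ => (hfin.mem_toFinset.1 hq).isPrime).1 hsub
    replace hq := hfin.mem_toFinset.1 hq
    haveI := hq.isPrime
    have hrq : r ∈ q := by
      have := IsAssociatedPrime.annihilator_le (show IsAssociatedPrime q M from hq)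
      rw [Submodule.annihilator_top, Ideal.annihilator_quotient] at this
      exact this (Ideal.mem_span_singleton_self r)
    haveI := hred q
    obtain ⟨s, hs, hdvd⟩ := exists_smul_dvd q (H3CAlg.NoEmbedded.height_le_one_of_mem_associatedPrimes hr hq)
      (fun hb => hr (by rw [hb] at hrq; exact hrq)) hr a n c h
    exact hs (hle hdvd)
  have hinj : Function.Injective (LinearMap.lsmul R M s) := by
    refine (injective_iff_map_eq_zero _).2 fun x hx => ?_
    by_contra hx0
    have : s ∈ ⋃ q ∈ associatedPrimes R M, (q : Set R) := by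
      rw [biUnion_associatedPrimes_eq_zero_divisors]
      exact ⟨x, hx0, hx⟩
    obtain ⟨q, hq, hsq⟩ := Set.mem_iUnion₂.1 this
    exact hs q hq hsq
  have hA := Module.Flat.rTensor_preserves_injective_linearMap (M := A) _ hinj
  have h0 : (Ideal.Quotient.mk (Ideal.span {r}) 1 : M) ⊗ₜ[R] a = 0 := hA (by
    obtain ⟨y, hy⟩ := hsI
    rw [map_zero, LinearMap.rTensor_tmul, LinearMap.lsmul_apply, TensorProduct.smul_tmul, Algebra.smul_def,
      hy, ← Algebra.smul_def, ← TensorProduct.smul_tmul]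
    rw [Algebra.smul_def, Ideal.Quotient.algebraMap_eq, ← map_mul, mul_one,
      Ideal.Quotient.eq_zero_iff_mem.2 (Ideal.mem_span_singleton_self r), TensorProduct.zero_tmul])
  have h1 := congrArg (TensorProduct.quotTensorEquivQuotSMul A (Ideal.span {r})) h0
  rw [map_zero, TensorProduct.quotTensorEquivQuotSMul_mk_tmul, one_smul, Submodule.Quotient.mk_eq_zero,
    Submodule.ideal_span_singleton_smul, Submodule.mem_smul_pointwise_iff_exists] at h1
  obtain ⟨y, -, hy⟩ := h1
  exact ⟨y, by rw [← Algebra.smul_def, hy]⟩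

end Groth.Agent.H8Norm.EtaClosed
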