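import Groth.Agent.H8Norm.EtaClosed
import Groth.Agent.H7Flat.GeomReducedConstructible
import Groth.Agent.H13Flat.Algebra
import Groth.Agent.H05EGA4.NormTensor
import Groth.Agent.H06Unibr.Normal
import Groth.Agent.S0566

/-!
# A flat finitely presented algebra with geometrically reduced fibres over a normal domain is closed
under integral division
-/

set_option autoImplicit false
set_option linter.style.haveILetI false
set_option backward.isDefEq.respectTransparency false

universe u

open CategoryTheory CategoryTheory.Limits AlgebraicGeometry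
open scoped TensorProduct

namespace Groth.Agent.H8Norm.EtaClosed

open Groth.Agent.H7Flat.GeomReduced

/-- The tensor square of spectra. -/
theorem isPullback_spec (R₁ R A₁ : Type u) [CommRing R₁] [CommRing R] [CommRing A₁] [Algebra R₁ R]
    [Algebra R₁ A₁] :
    IsPullback (Spec.map (CommRingCat.ofHom (Algebra.TensorProduct.includeRight : A₁ →ₐ[R₁] R ⊗[R₁] A₁).toRingHom))
      (Spec.map (CommRingCat.ofHom (algebraMap R (R ⊗[R₁] A₁))))
      (Spec.map (CommRingCat.ofHom (algebraMap R₁ A₁))) (Spec.map (CommRingCat.ofHom (algebraMap R₁ R))) :=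
  (isPullback_SpecMap_of_isPushout _ _ _ _ (CommRingCat.isPushout_tensorProduct R₁ R A₁)).flip

/-- A geometrically reduced fibre is reduced. -/
theorem isReduced_fibre {R A : Type u} [CommRing R] [CommRing A] [Algebra R A] (q : Ideal R) [q.IsPrime]
    (h : GeometricallyReduced
      ((Spec.map (CommRingCat.ofHom (algebraMap R A))).fiberToSpecResidueField (⟨q, inferInstance⟩ : Spec (CommRingCat.of R)))) :
    _root_.IsReduced (q.ResidueField ⊗[R] A) := by
  haveI := (geometricallyReduced_fiber_iff _ _).1 h q.ResidueField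
    (Spec.map (CommRingCat.ofHom (algebraMap R q.ResidueField))) (by
      refine PrimeSpectrum.ext ?_
      show (IsLocalRing.maximalIdeal q.ResidueField).comap (algebraMap R q.ResidueField) = q
      rw [IsLocalRing.isField_iff_maximalIdeal_eq.mp (Field.toIsField q.ResidueField)]
      exact Ideal.ker_algebraMap_residueField q)
  haveI : IsReduced (Spec (CommRingCat.of (A ⊗[R] q.ResidueField))) :=
    isReduced_of_isOpenImmersion (pullbackSpecIso R A q.ResidueField).inv
  haveI : _root_.IsReduced (A ⊗[R] q.ResidueField) := by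
    exact (affine_isReduced_iff (CommRingCat.of (A ⊗[R] q.ResidueField))).mp inferInstance
  exact isReduced_of_injective (Algebra.TensorProduct.comm R q.ResidueField A).toAlgHom.toRingHom
    (Algebra.TensorProduct.comm R q.ResidueField A).injective

/-- Coefficients of a tensor. -/
theorem exists_coeffs {R₁ R A₁ : Type u} [CommRing R₁] [CommRing R] [CommRing A₁] [Algebra R₁ R] [Algebra R₁ A₁]
    (z : R ⊗[R₁] A₁) : ∃ t : Set R, t.Finite ∧ ∀ (R' : Type u) [CommRing R'] [Algebra R₁ R'] (j : R' →ₐ[R₁] R),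
      t ⊆ Set.range j → z ∈ (Algebra.TensorProduct.map j (AlgHom.id R₁ A₁)).range := by
  induction z using TensorProduct.induction_on with
  | zero => exact ⟨∅, Set.finite_empty, fun _ _ _ j _ => zero_mem _⟩
  | tmul c b =>
    refine ⟨{c}, Set.finite_singleton c, fun R' _ _ j hj => ?_⟩
    obtain ⟨c', hc⟩ := hj rfl
    exact ⟨c' ⊗ₜ b, by simp [hc]⟩
  | add x y hx hy =>
    obtain ⟨s, hs, hx⟩ := hx
    obtain ⟨t, ht, hy⟩ := hy
    exact ⟨s ∪ t, hs.union ht, fun R' _ _ j hj => add_mem (hx R' j (Set.subset_union_left.trans hj))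
      (hy R' j (Set.subset_union_right.trans hj))⟩

/-- Finitely many elements of `R` keep a set of primes of `R₁` out of the spectrum. -/
theorem exists_witnesses {R₁ R : Type u} [CommRing R₁] [CommRing R] [Algebra R₁ R]
    (E : Set (PrimeSpectrum R₁)) (hE : Topology.IsConstructible E)
    (h : ∀ p : PrimeSpectrum R, p.comap (algebraMap R₁ R) ∉ E) :
    ∃ t : Set R, t.Finite ∧ ∀ (R' : Type u) [CommRing R'] [Algebra R₁ R'] (j : R' →ₐ[R₁] R),
      Function.Injective j → t ⊆ Set.range j → ∀ p : PrimeSpectrum R', p.comap (algebraMap R₁ R') ∉ E := by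
  obtain ⟨D, rfl⟩ := PrimeSpectrum.exists_constructibleSetData_iff.mpr hE
  suffices key : ∀ C ∈ D, ∃ t : Set R, t.Finite ∧ ∀ (R' : Type u) [CommRing R'] [Algebra R₁ R'] (j : R' →ₐ[R₁] R),
      Function.Injective j → t ⊆ Set.range j →
        ∀ p : PrimeSpectrum R', p.comap (algebraMap R₁ R') ∉ C.toSet by
    choose t ht hts using key
    refine ⟨⋃ C : D, t C.1 C.2, Set.finite_iUnion fun C => ht _ _, fun R' _ _ j hj hsub p hp => ?_⟩
    obtain ⟨C, hC, hpC⟩ := Set.mem_iUnion₂.1 hp
    exact hts C hC R' j hj ((Set.subset_iUnion (fun C : D => t C.1 C.2) ⟨C, hC⟩).trans hsub) p hpC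
  intro C hC
  let g : Fin C.n → R := fun i => algebraMap R₁ R (C.g i)
  have hrad : algebraMap R₁ R C.f ∈ (Ideal.span (Set.range g)).radical := by
    rw [Ideal.radical_eq_sInf, Submodule.mem_sInf]
    rintro P ⟨hle, hP⟩
    by_contra hf
    refine h ⟨P, hP⟩ (Set.mem_iUnion₂.2 ⟨C, hC, ?_, fun h1 => hf (h1 rfl)⟩)
    rintro _ ⟨i, rfl⟩
    exact hle (Ideal.subset_span ⟨i, rfl⟩)
  obtain ⟨k, hk⟩ := Ideal.mem_radical_iff.1 hrad
  obtain ⟨d, hd⟩ := (Ideal.mem_span_range_iff_exists_fun (R := R)).1 hk
  refine ⟨Set.range d, Set.finite_range d, fun R' _ _ j hj hsub p hp => ?_⟩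
  choose d' hd' using fun i => hsub ⟨i, rfl⟩
  have heq : algebraMap R₁ R' C.f ^ k = ∑ i, d' i * algebraMap R₁ R' (C.g i) := hj (by
    simp only [map_pow, map_sum, map_mul, AlgHom.commutes, hd']
    exact hd.symm)
  refine hp.2 (Set.singleton_subset_iff.2 (p.2.mem_of_pow_mem k ?_))
  show algebraMap R₁ R' C.f ^ k ∈ p.asIdeal
  rw [heq]
  exact p.asIdeal.sum_mem fun i _ => p.asIdeal.mul_mem_left _ (hp.1 ⟨i, rfl⟩)

/-- A normal finitely generated stage containing given elements. -/
theorem exists_normal_stage {R : Type u} [CommRing R] [IsDomain R] [IsIntegrallyClosed R]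
    (R₁ : Subalgebra ℤ R) (hfg : R₁.FG) (t : Set R) (ht : t.Finite) :
    ∃ (R' : Type u) (_ : CommRing R') (_ : Algebra R₁ R') (j : R' →ₐ[R₁] R),
      IsDomain R' ∧ IsNoetherianRing R' ∧ IsIntegrallyClosed R' ∧ Function.Injective j ∧ t ⊆ Set.range j := by
  let R₂ : Subalgebra ℤ R := R₁ ⊔ Algebra.adjoin ℤ t
  haveI : Algebra.FiniteType ℤ R₂ :=
    R₂.fg_iff_finiteType.1 (hfg.sup ⟨ht.toFinset, by rw [ht.coe_toFinset]⟩)
  letI : Algebra (ULift.{u} ℤ) R₂ :=
    ((algebraMap ℤ R₂).comp ULift.ringEquiv.toRingHom).toAlgebra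
  haveI : Algebra.FiniteType (ULift.{u} ℤ) R₂ := RingHom.finiteType_algebraMap.mp
    ((RingHom.finiteType_algebraMap.mpr ‹Algebra.FiniteType ℤ R₂›).comp
      (RingHom.FiniteType.of_surjective _ ULift.ringEquiv.surjective))
  have hN : CAlg.IsNagata R₂ := S0566.result (ULift.{u} ℤ) H06Unibr.isNagata_int R₂
  haveI : IsNoetherianRing R₂ := hN.1
  let K := FractionRing R₂
  let R' := integralClosure R₂ K
  haveI : Module.Finite R₂ R' := H05EGA4.NormTensor.finite_integralClosure_fraction R₂ hN
  haveI : IsNoetherianRing R' := IsNoetherianRing.of_finite R₂ R'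
  haveI : IsFractionRing R' K := IsIntegralClosure.isFractionRing_of_finite_extension R₂ K K R'
  haveI : IsIntegrallyClosed R' := (isIntegrallyClosed_iff_isIntegrallyClosedIn K).2 inferInstance
  let J : K →ₐ[R₂] FractionRing R := IsFractionRing.liftAlgHom (g := Algebra.ofId R₂ (FractionRing R)) (by
    intro x y hxy
    exact Subtype.ext (IsFractionRing.injective R (FractionRing R) hxy))
  have hmem : ∀ x : R', ∃ y : R, algebraMap R (FractionRing R) y = J x := fun x =>
    IsIntegrallyClosed.algebraMap_eq_of_integral ((x.2.map J).tower_top (A := R))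
  choose j₀ hj₀ using hmem
  have hinjR := IsFractionRing.injective R (FractionRing R)
  let jhom : R' →+* R :=
    { toFun := j₀
      map_one' := hinjR (by rw [hj₀]; simp)
      map_mul' := fun x y => hinjR (by simp [hj₀])
      map_zero' := hinjR (by rw [hj₀]; simp)
      map_add' := fun x y => hinjR (by simp [hj₀]) }
  have hj₂ : ∀ x : R₂, jhom (algebraMap R₂ R' x) = (x : R) := fun x => hinjR (by
    show algebraMap R (FractionRing R) (j₀ (algebraMap R₂ R' x)) = _
    rw [hj₀]
    exact (J.commutes x).trans rfl)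
  letI : Algebra R₁ R' :=
    ((algebraMap R₂ R').comp (Subalgebra.inclusion (le_sup_left : R₁ ≤ R₂)).toRingHom).toAlgebra
  refine ⟨R', inferInstance, inferInstance,
    { jhom with commutes' := fun x => hj₂ (Subalgebra.inclusion (le_sup_left : R₁ ≤ R₂) x) },
    inferInstance, inferInstance, inferInstance, fun x y hxy => ?_, fun a ha => ?_⟩
  · refine Subtype.ext ((J : K →+* FractionRing R).injective ?_)
    show J x = J y
    rw [← hj₀, ← hj₀]
    exact congrArg _ hxy
  · exact ⟨algebraMap R₂ R' ⟨a, (le_sup_right : _ ≤ R₂) (Algebra.subset_adjoin ha)⟩, hj₂ _⟩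

/-- The non-Noetherian statement. -/
theorem dvd_of_relation_normal {R A : Type u} [CommRing R] [CommRing A] [Algebra R A] [IsDomain R]
    [IsIntegrallyClosed R] [Module.Flat R A] [Algebra.FinitePresentation R A]
    (hred : ∀ p : Spec (CommRingCat.of R),
      GeometricallyReduced ((Spec.map (CommRingCat.ofHom (algebraMap R A))).fiberToSpecResidueField p))
    {r : R} (hr : r ≠ 0) (a : A) (n : ℕ) (c : ℕ → A)
    (h : a ^ n + ∑ i ∈ Finset.range n, c i * algebraMap R A r ^ (n - i) * a ^ i = 0) :
    algebraMap R A r ∣ a := by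
  classical
  obtain ⟨R₁, hfg, A₁, _, _, hfp, hflat, ⟨e⟩⟩ := H13Flat.exists_flat_stage R A
  haveI := hfp; haveI := hflat
  obtain ⟨ta, hta, Ha⟩ := exists_coeffs (e.symm a)
  choose tc htc Hc using fun i => exists_coeffs (e.symm (c i))
  have hsq : ∀ p : Spec (CommRingCat.of R),
      GeometricallyReduced ((Spec.map (CommRingCat.ofHom (algebraMap R₁ A₁))).fiberToSpecResidueField
        (Spec.map (CommRingCat.ofHom (algebraMap R₁ R)) p)) := fun p => by
    have hc : IsPullback (Spec.map (CommRingCat.ofHom ((e.toAlgHom.restrictScalars R₁).comp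
        (Algebra.TensorProduct.includeRight : A₁ →ₐ[R₁] R ⊗[R₁] A₁)).toRingHom))
      (Spec.map (CommRingCat.ofHom (algebraMap R A))) (Spec.map (CommRingCat.ofHom (algebraMap R₁ A₁)))
      (Spec.map (CommRingCat.ofHom (algebraMap R₁ R))) := ?_
    · exact (geometricallyReduced_fiber_baseChange hc p).1 (hred p)
    refine (isPullback_spec R₁ R A₁).of_iso (Scheme.Spec.mapIso e.symm.toRingEquiv.toCommRingCatIso.op)
      (Iso.refl _) (Iso.refl _) (Iso.refl _) ?_ ?_ (by simp) (by simp)
    · simp only [Iso.refl_hom, Category.comp_id, Functor.mapIso_hom, Iso.op_hom, Scheme.Spec_map,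
        Quiver.Hom.unop_op, ← Spec.map_comp]
      congr 1
      ext x
      show _ = e.symm (e ((1 : R) ⊗ₜ x))
      rw [e.symm_apply_apply]
      rfl
    · simp only [Iso.refl_hom, Category.comp_id, Functor.mapIso_hom, Iso.op_hom, Scheme.Spec_map,
        Quiver.Hom.unop_op, ← Spec.map_comp]
      congr 1
      ext x
      simp
  obtain ⟨tE, htE, HE⟩ := exists_witnesses (R₁ := R₁) (R := R) _
    (isConstructible_spec (R := R₁) (A := A₁)).compl (fun p hp => hp (hsq p))
  obtain ⟨R', _, _, j, _, _, _, hj, hsub⟩ := exists_normal_stage R₁ hfg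
    (({r} ∪ ta ∪ tE) ∪ ⋃ i ∈ Finset.range n, tc i)
    ((((Set.finite_singleton r).union hta).union htE).union ((Finset.range n).finite_toSet.biUnion fun i _ => htc i))
  let m := Algebra.TensorProduct.map j (AlgHom.id R₁ A₁)
  have hm : Function.Injective m := Module.Flat.rTensor_preserves_injective_linearMap (M := A₁) j.toLinearMap hj
  obtain ⟨r', hr'⟩ := hsub (Or.inl (Or.inl (Or.inl rfl)))
  obtain ⟨a', ha'⟩ := Ha R' j fun x hx => hsub (Or.inl (Or.inl (Or.inr hx)))
  have hc' : ∀ i ∈ Finset.range n, ∃ x, m x = e.symm (c i) := fun i hi =>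
    Hc i R' j fun x hx => hsub (Or.inr (Set.mem_biUnion hi hx))
  choose! c' hc'' using hc'
  have hr'' : m (algebraMap R' (R' ⊗[R₁] A₁) r') = e.symm (algebraMap R A r) := by
    rw [AlgEquiv.commutes, ← hr', Algebra.TensorProduct.algebraMap_apply,
      Algebra.TensorProduct.map_tmul, map_one]
    rfl
  have hrel : a' ^ n + ∑ i ∈ Finset.range n,
      c' i * algebraMap R' (R' ⊗[R₁] A₁) r' ^ (n - i) * a' ^ i = 0 := hm (by
    rw [map_add, map_pow, map_sum, map_zero, show m a' = e.symm a from ha',
      ← map_zero e.symm, ← h, map_add, map_pow, map_sum]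
    congr 1
    refine Finset.sum_congr rfl fun i hi => ?_
    rw [map_mul, map_mul, map_pow, map_pow, hc'' i hi, hr'', show m a' = e.symm a from ha',
      map_mul, map_mul, map_pow, map_pow])
  haveI : Module.Flat R' (R' ⊗[R₁] A₁) := inferInstance
  obtain ⟨y, hy⟩ := dvd_of_relation (R := R') (A := R' ⊗[R₁] A₁) (fun q _ => isReduced_fibre q (by
      refine (geometricallyReduced_fiber_baseChange (isPullback_spec R₁ R' A₁) ⟨q, inferInstance⟩).2 ?_
      exact not_not.mp (HE R' j hj (fun x hx => hsub (Or.inl (Or.inr hx))) ⟨q, inferInstance⟩)))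
    (r := r') (fun h0 => hr (by rw [← hr', h0, map_zero])) a' n c' hrel
  refine ⟨e (m y), e.symm.injective ?_⟩
  rw [← ha', map_mul, e.symm_apply_apply, ← hr'']
  show m a' = _
  rw [hy, map_mul]

end Groth.Agent.H8Norm.EtaClosed
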