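import Groth.Agent.H8Norm.EtaClosedApprox
import Groth.Agent.H22Alg.FiniteDegree
import Groth.Agent.H11Curve.NormalizationBasic
import Groth.Prelude.Def_Pi1
import Mathlib.AlgebraicGeometry.Morphisms.SchemeTheoreticallyDominant
import Mathlib.AlgebraicGeometry.FunctionField

/-!
# No finite generic modifications over normal bases
-/

set_option autoImplicit false
set_option linter.style.haveILetI false
set_option backward.isDefEq.respectTransparency false

universe u

open CategoryTheory CategoryTheory.Limits AlgebraicGeometry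
open scoped TensorProduct

namespace Groth.Agent.H8Norm.EtaClosed

/-- The ring statement. -/
theorem bijective_of_finite {R A A' : Type u} [CommRing R] [CommRing A] [CommRing A'] [Algebra R A]
    [Algebra A A'] [IsDomain R] [IsIntegrallyClosed R] [Module.Flat R A] [Algebra.FinitePresentation R A]
    [Algebra.IsIntegral A A']
    (hred : ∀ p : Spec (CommRingCat.of R),
      GeometricallyReduced ((Spec.map (CommRingCat.ofHom (algebraMap R A))).fiberToSpecResidueField p))
    (htf : ∀ r : R, r ≠ 0 → ∀ x : A', algebraMap A A' (algebraMap R A r) * x = 0 → x = 0)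
    (AK : Type u) [CommRing AK] [Algebra A AK]
    [IsLocalization (Algebra.algebraMapSubmonoid A (nonZeroDivisors R)) AK]
    (hK : Function.Bijective (algebraMap AK (AK ⊗[A] A'))) :
    Function.Bijective (algebraMap A A') := by
  let M := Algebra.algebraMapSubmonoid A (nonZeroDivisors R)
  have hM : ∀ m ∈ M, ∃ r : R, r ≠ 0 ∧ algebraMap R A r = m := by
    rintro _ ⟨r, hr, rfl⟩
    exact ⟨r, nonZeroDivisors.ne_zero hr, rfl⟩
  have hinj : Function.Injective (algebraMap A A') := by
    refine (injective_iff_map_eq_zero _).2 fun a ha => ?_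
    have h0 : algebraMap AK (AK ⊗[A] A') (algebraMap A AK a) = 0 := by
      rw [← IsScalarTower.algebraMap_apply, Algebra.algebraMap_eq_smul_one, Algebra.TensorProduct.one_def,
        ← TensorProduct.tmul_smul, ← Algebra.algebraMap_eq_smul_one, ha, TensorProduct.tmul_zero]
    obtain ⟨⟨m, hm⟩, hma⟩ := (IsLocalization.map_eq_zero_iff M AK a).mp (hK.1 (h0.trans (map_zero _).symm))
    obtain ⟨r, hr, rfl⟩ := hM m hm
    haveI : Module.IsTorsionFree R A := inferInstance
    rw [← Algebra.smul_def] at hma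
    exact (smul_eq_zero.mp hma).resolve_left hr
  refine ⟨hinj, fun y => ?_⟩
  obtain ⟨z, hz⟩ := hK.2 ((TensorProduct.mk A AK A' 1) y)
  obtain ⟨⟨a, s⟩, hs⟩ := IsLocalization.surj M z
  obtain ⟨⟨t, ht⟩, hts⟩ := (IsLocalizedModule.eq_iff_exists M (TensorProduct.mk A AK A' 1)
    (x₁ := (s : A) • y) (x₂ := algebraMap A A' a)).mp (by
      calc (TensorProduct.mk A AK A' 1) ((s : A) • y)
          = (s : A) • algebraMap AK (AK ⊗[A] A') z := by rw [map_smul, hz]
        _ = algebraMap AK (AK ⊗[A] A') (z * algebraMap A AK s) := by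
            rw [Algebra.smul_def, IsScalarTower.algebraMap_apply A AK (AK ⊗[A] A'), ← map_mul, mul_comm]
        _ = (TensorProduct.mk A AK A' 1) (algebraMap A A' a) := by
            rw [hs, ← IsScalarTower.algebraMap_apply, Algebra.algebraMap_eq_smul_one,
              Algebra.algebraMap_eq_smul_one, map_smul]
            rfl)
  obtain ⟨rt, hrt, rfl⟩ := hM t ht
  obtain ⟨r, hr, hrs⟩ := hM s s.2
  rw [← hrs] at hts
  have hry : algebraMap A A' (algebraMap R A r) * y = algebraMap A A' a := sub_eq_zero.mp (htf rt hrt _ (by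
    simp only [Submonoid.smul_def, Algebra.smul_def] at hts
    rw [mul_sub, hts, sub_self]))
  obtain ⟨P, hP, hPy⟩ := Algebra.IsIntegral.isIntegral (R := A) y
  obtain ⟨b, hb⟩ := dvd_of_relation_normal hred hr a P.natDegree (fun i => P.coeff i) (hinj (by
    rw [map_zero, ← mul_zero (algebraMap A A' (algebraMap R A r) ^ P.natDegree), ← hPy,
      Polynomial.eval₂_eq_sum_range, Finset.sum_range_succ, hP.coeff_natDegree, map_one, one_mul, map_add,
      map_pow, ← hry, mul_pow, mul_add, add_comm]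
    congr 1
    rw [map_sum, Finset.mul_sum]
    refine Finset.sum_congr rfl fun i hi => ?_
    rw [map_mul, map_mul, map_pow, map_pow, ← hry, mul_pow]
    have : P.natDegree = (P.natDegree - i) + i := (Nat.sub_add_cancel (Finset.mem_range.1 hi).le).symm
    nth_rw 2 [this]
    rw [pow_add]
    ring))
  exact ⟨b, (sub_eq_zero.mp (htf r hr (y - algebraMap A A' b)
    (by rw [mul_sub, hry, hb, map_mul, sub_self]))).symm⟩

variable {X X' S : Scheme.{u}} [IsIntegral S] [QuasiSeparatedSpace S]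

theorem quasiCompact_generic : QuasiCompact (S.fromSpecStalk (genericPoint S)) :=
  quasiCompact_of_compactSpace _

/-- The generic fibre of a flat morphism is schematically dense. -/
theorem std_generic (φ : X ⟶ S) [Flat φ] :
    IsSchemeTheoreticallyDominant (pullback.fst φ (S.fromSpecStalk (genericPoint S))) := by
  haveI := quasiCompact_generic (S := S)
  haveI : IsSchemeTheoreticallyDominant (S.fromSpecStalk (genericPoint S)) := .of_isDominant _
  rw [← pullbackSymmetry_hom_comp_snd]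
  infer_instance

/-- The generic fibre of a modification is schematically dense. -/
theorem std_generic_modification (φ : X ⟶ S) [Flat φ] (f : X' ⟶ X) (U : X.Opens)
    [IsSchemeTheoreticallyDominant (f ⁻¹ᵁ U).ι] [IsIso (f ∣_ U)] :
    IsSchemeTheoreticallyDominant (pullback.fst (f ≫ φ) (S.fromSpecStalk (genericPoint S))) := by
  have hfl : Flat ((f ⁻¹ᵁ U).ι ≫ f ≫ φ) := by
    rw [← morphismRestrict_ι_assoc]; infer_instance
  haveI := std_generic ((f ⁻¹ᵁ U).ι ≫ f ≫ φ)
  let m := pullback.map ((f ⁻¹ᵁ U).ι ≫ f ≫ φ) (S.fromSpecStalk (genericPoint S)) (f ≫ φ)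
    (S.fromSpecStalk (genericPoint S)) (f ⁻¹ᵁ U).ι (𝟙 _) (𝟙 _) (by simp) (by simp)
  refine ⟨eq_bot_iff.2 ((Scheme.Hom.le_ker_comp m _).trans ?_)⟩
  rw [show m ≫ pullback.fst (f ≫ φ) (S.fromSpecStalk (genericPoint S)) =
    pullback.fst _ _ ≫ (f ⁻¹ᵁ U).ι from pullback.lift_fst _ _ _]
  exact (IsSchemeTheoreticallyDominant.ker_eq_bot _).le

/-- A schematically dense generic fibre forbids torsion. -/
theorem eq_zero_of_mul_eq_zero {Y : Scheme.{u}} (ψ : Y ⟶ S)
    [IsSchemeTheoreticallyDominant (pullback.fst ψ (S.fromSpecStalk (genericPoint S)))]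
    (V : S.Opens) [Nonempty V] (W : Y.Opens) (hW : W ≤ ψ ⁻¹ᵁ V) (r : Γ(S, V)) (hr : r ≠ 0) (x : Γ(Y, W))
    (h : ψ.appLE V W hW r * x = 0) : x = 0 := by
  haveI := quasiCompact_generic (S := S)
  let q := pullback.fst ψ (S.fromSpecStalk (genericPoint S))
  haveI : QuasiCompact q := MorphismProperty.pullback_fst _ _ inferInstance
  refine q.app_injective W ?_
  rw [map_zero]
  have hu : IsUnit ((S.fromSpecStalk (genericPoint S)).app V r) := by
    rw [Scheme.fromSpecStalk_app (((genericPoint_spec S).mem_open_set_iff V.isOpen).mpr (by simpa [← Set.nonempty_coe_sort] using ‹Nonempty V›))]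
    rw [ConcreteCategory.comp_apply, ConcreteCategory.comp_apply]
    refine IsUnit.map (CommRingCat.Hom.hom _) (IsUnit.map (CommRingCat.Hom.hom _) ?_)
    exact IsUnit.mk0 (G₀ := S.functionField) (S.germToFunctionField V r)
      ((map_ne_zero_iff _ (S.germToFunctionField_injective V)).2 hr)
  have key : ∀ (ρ : pullback ψ (S.fromSpecStalk (genericPoint S)) ⟶ S)
      (e : q ⁻¹ᵁ W ≤ ρ ⁻¹ᵁ V), ρ = pullback.snd _ _ ≫ S.fromSpecStalk (genericPoint S) →
        IsUnit (ρ.appLE V (q ⁻¹ᵁ W) e r) := by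
    rintro _ e rfl
    rw [Scheme.Hom.comp_appLE]
    exact hu.map (Scheme.Hom.appLE (pullback.snd ψ (S.fromSpecStalk (genericPoint S))) ((S.fromSpecStalk (genericPoint S)) ⁻¹ᵁ V) (q ⁻¹ᵁ W) e).hom
  have hunit : IsUnit (q.app W (ψ.appLE V W hW r)) := by
    have h1 := key (q ≫ ψ) (q.preimage_mono hW) pullback.condition
    rw [← Scheme.Hom.appLE_comp_appLE q ψ V W (q ⁻¹ᵁ W) hW le_rfl, ← Scheme.Hom.app_eq_appLE] at h1
    exact h1
  have h2 := congrArg (q.app W) h
  rw [map_mul, map_zero] at h2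
  exact (hunit.mul_right_eq_zero).1 h2

variable [CompactSpace S]

/-- The generic fibre of a chart of a modification, on rings. -/
theorem bijective_generic (φ : X ⟶ S) (f : X' ⟶ X) [IsFinite f]
    (hη : IsIso (pullback.snd f (pullback.fst φ (S.fromSpecStalk (genericPoint S)))))
    {W : X.Opens} (hW : IsAffineOpen W) {V : S.Opens} (hV : IsAffineOpen V) [Nonempty V] (hle : W ≤ φ ⁻¹ᵁ V) :
    letI := (φ.appLE V W hle).hom.toAlgebra
    letI := (f.app W).hom.toAlgebra
    Function.Bijective (algebraMap (Localization (Algebra.algebraMapSubmonoid Γ(X, W) (nonZeroDivisors Γ(S, V))))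
      (Localization (Algebra.algebraMapSubmonoid Γ(X, W) (nonZeroDivisors Γ(S, V))) ⊗[Γ(X, W)] Γ(X', f ⁻¹ᵁ W))) := by
  letI := (φ.appLE V W hle).hom.toAlgebra
  letI := (f.app W).hom.toAlgebra
  haveI := functionField_isFractionRing_of_isAffineOpen S V hV
  let AK := Localization (Algebra.algebraMapSubmonoid Γ(X, W) (nonZeroDivisors Γ(S, V)))
  let κ : S.functionField →+* AK := IsLocalization.lift (M := nonZeroDivisors Γ(S, V))
    (g := algebraMap Γ(S, V) AK) fun y => by
    rw [IsScalarTower.algebraMap_apply Γ(S, V) Γ(X, W) AK]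
    exact IsLocalization.map_units (M := Algebra.algebraMapSubmonoid Γ(X, W) (nonZeroDivisors Γ(S, V))) AK
      ⟨_, Algebra.mem_algebraMapSubmonoid_of_mem y⟩
  let j : Spec (CommRingCat.of AK) ⟶ Spec Γ(X, W) :=
    Spec.map (CommRingCat.ofHom (algebraMap Γ(X, W) AK))
  have hw : (j ≫ hW.fromSpec) ≫ φ =
      Spec.map (CommRingCat.ofHom κ) ≫ S.fromSpecStalk (genericPoint S) := by
    rw [← hV.fromSpecStalk_eq_fromSpecStalk (((genericPoint_spec S).mem_open_set_iff V.isOpen).mpr (by simpa [← Set.nonempty_coe_sort] using ‹Nonempty V›)), IsAffineOpen.fromSpecStalk,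
      Category.assoc, ← IsAffineOpen.SpecMap_appLE_fromSpec φ hV hW hle, ← Category.assoc,
      ← Category.assoc]
    congr 1
    rw [← Spec.map_comp, ← Spec.map_comp]
    congr 1
    refine CommRingCat.hom_ext (RingHom.ext fun y => ?_)
    exact (IsScalarTower.algebraMap_apply Γ(S, V) Γ(X, W) AK y).symm.trans
      (IsLocalization.lift_eq (M := nonZeroDivisors Γ(S, V)) (S := S.functionField) _ y).symm
  let w : Spec (CommRingCat.of AK) ⟶ pullback φ (S.fromSpecStalk (genericPoint S)) :=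
    pullback.lift (j ≫ hW.fromSpec) (Spec.map (CommRingCat.ofHom κ)) hw
  have hiso : IsIso (pullback.snd (Spec.map (f.app W)) j) := by
    have sq := (IsPullback.of_hasPullback (Spec.map (f.app W)) j).paste_horiz
      (H22Alg.FiniteDegree.isPullback_fromSpec f hW)
    rw [show j ≫ hW.fromSpec = w ≫ pullback.fst φ (S.fromSpecStalk (genericPoint S)) from
      (pullback.lift_fst _ _ _).symm] at sq
    exact MorphismProperty.of_isPullback (P := MorphismProperty.isomorphisms Scheme)
      (IsPullback.of_right' sq (IsPullback.of_hasPullback f (pullback.fst φ (S.fromSpecStalk (genericPoint S))))) hη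
  have hsnd : (pullback.snd (Spec.map (CommRingCat.ofHom (algebraMap Γ(X, W) Γ(X', f ⁻¹ᵁ W)))) j) =
      (pullbackSymmetry _ _).hom ≫ (pullbackSpecIso Γ(X, W) AK Γ(X', f ⁻¹ᵁ W)).hom ≫
        Spec.map (CommRingCat.ofHom (algebraMap AK (AK ⊗[Γ(X, W)] Γ(X', f ⁻¹ᵁ W)))) := by
    rw [pullbackSpecIso_hom_fst']
    simp [j]
  haveI : IsIso (Spec.map (CommRingCat.ofHom (algebraMap AK (AK ⊗[Γ(X, W)] Γ(X', f ⁻¹ᵁ W))))) := by
    haveI : IsIso ((pullbackSymmetry _ _).hom ≫ (pullbackSpecIso Γ(X, W) AK Γ(X', f ⁻¹ᵁ W)).hom ≫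
        Spec.map (CommRingCat.ofHom (algebraMap AK (AK ⊗[Γ(X, W)] Γ(X', f ⁻¹ᵁ W))))) := hsnd ▸ hiso
    haveI := IsIso.of_isIso_comp_left (pullbackSymmetry _ _).hom
      ((pullbackSpecIso Γ(X, W) AK Γ(X', f ⁻¹ᵁ W)).hom ≫
        Spec.map (CommRingCat.ofHom (algebraMap AK (AK ⊗[Γ(X, W)] Γ(X', f ⁻¹ᵁ W)))))
    exact IsIso.of_isIso_comp_left (pullbackSpecIso Γ(X, W) AK Γ(X', f ⁻¹ᵁ W)).hom _
  haveI : IsIso (Scheme.Spec.map (CommRingCat.ofHom (algebraMap AK (AK ⊗[Γ(X, W)] Γ(X', f ⁻¹ᵁ W)))).op) :=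
    ‹IsIso (Spec.map (CommRingCat.ofHom (algebraMap AK (AK ⊗[Γ(X, W)] Γ(X', f ⁻¹ᵁ W)))))›
  haveI := isIso_of_fully_faithful Scheme.Spec
    (CommRingCat.ofHom (algebraMap AK (AK ⊗[Γ(X, W)] Γ(X', f ⁻¹ᵁ W)))).op
  haveI := isIso_of_op (CommRingCat.ofHom (algebraMap AK (AK ⊗[Γ(X, W)] Γ(X', f ⁻¹ᵁ W))))
  exact ConcreteCategory.bijective_of_isIso (CommRingCat.ofHom (algebraMap AK (AK ⊗[Γ(X, W)] Γ(X', f ⁻¹ᵁ W))))

/-- The local statement: bijective on sections. -/
theorem bijective_app (hS : Pi1.IsNormalScheme S) (φ : X ⟶ S) [Flat φ] [LocallyOfFinitePresentation φ]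
    (hred : GeometricallyReduced φ) (f : X' ⟶ X) [IsFinite f] (U : X.Opens)
    [IsSchemeTheoreticallyDominant (f ⁻¹ᵁ U).ι] [IsIso (f ∣_ U)]
    (hη : IsIso (pullback.snd f (pullback.fst φ (S.fromSpecStalk (genericPoint S)))))
    {W : X.Opens} (hW : IsAffineOpen W) {V : S.Opens} (hV : IsAffineOpen V) [Nonempty V]
    (hle : W ≤ φ ⁻¹ᵁ V) : Function.Bijective (f.app W) := by
  letI := (φ.appLE V W hle).hom.toAlgebra
  letI := (f.app W).hom.toAlgebra
  haveI : Module.Flat Γ(S, V) Γ(X, W) := HasRingHomProperty.appLE @Flat φ inferInstance ⟨V, hV⟩ ⟨W, hW⟩ hle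
  haveI : Algebra.FinitePresentation Γ(S, V) Γ(X, W) := φ.finitePresentation_appLE hV hW hle
  haveI : Module.Finite Γ(X, W) Γ(X', f ⁻¹ᵁ W) := f.finite_app W hW
  haveI : IsIntegrallyClosed Γ(S, V) := by
    refine IsIntegrallyClosed.of_localization_maximal fun p _ hp => ?_
    let x : Spec Γ(S, V) := ⟨p, inferInstance⟩
    have hxV : hV.fromSpec x ∈ V := by rw [← SetLike.mem_coe, ← hV.range_fromSpec]; exact Set.mem_range_self x
    letI := TopCat.Presheaf.algebra_section_stalk S.presheaf (⟨_, hxV⟩ : V)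
    haveI := hV.isLocalization_stalk' x hxV
    haveI := (hS (hV.fromSpec x)).2
    exact IsIntegrallyClosed.of_equiv (IsLocalization.algEquiv p.primeCompl
      (S.presheaf.stalk (hV.fromSpec x)) (Localization.AtPrime p)).toRingEquiv
  haveI := functionField_isFractionRing_of_isAffineOpen S V hV
  have hred' : ∀ p : Spec (CommRingCat.of Γ(S, V)), GeometricallyReduced
      ((Spec.map (CommRingCat.ofHom (algebraMap Γ(S, V) Γ(X, W)))).fiberToSpecResidueField p) := fun p => by
    haveI : GeometricallyReduced (φ.fiberToSpecResidueField (hV.fromSpec p)) :=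
      MorphismProperty.pullback_snd _ _ hred
    have h1 := (H7Flat.GeomReduced.geometricallyReduced_fiber_iff φ (hV.fromSpec p)).1 inferInstance
    refine (H7Flat.GeomReduced.geometricallyReduced_fiber_iff _ p).2 fun K _ a ha => ?_
    haveI := h1 K (a ≫ hV.fromSpec) (by rw [Scheme.Hom.comp_apply]; exact congrArg hV.fromSpec ha)
    exact isReduced_of_isOpenImmersion (pullback.map (Spec.map (φ.appLE V W hle)) a φ (a ≫ hV.fromSpec)
      hW.fromSpec (𝟙 _) hV.fromSpec (IsAffineOpen.SpecMap_appLE_fromSpec φ hV hW hle) (by simp))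
  haveI := std_generic_modification φ f U
  refine bijective_of_finite hred' (fun r hr x hx => ?_)
    (Localization (Algebra.algebraMapSubmonoid Γ(X, W) (nonZeroDivisors Γ(S, V)))) ?_
  · refine eq_zero_of_mul_eq_zero (f ≫ φ) V (f ⁻¹ᵁ W) (f.preimage_mono hle) r hr x ?_
    rw [← Scheme.Hom.appLE_comp_appLE f φ V W (f ⁻¹ᵁ W) hle le_rfl, ← Scheme.Hom.app_eq_appLE]
    exact hx
  · exact bijective_generic φ f hη hW hV hle

/-- No finite modification. -/
theorem isIso_of_finite_modification (hS : Pi1.IsNormalScheme S) (φ : X ⟶ S) [Flat φ]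
    [LocallyOfFinitePresentation φ] (hred : GeometricallyReduced φ) (f : X' ⟶ X) [IsFinite f] (U : X.Opens)
    [IsSchemeTheoreticallyDominant (f ⁻¹ᵁ U).ι] [IsIso (f ∣_ U)]
    (hη : IsIso (pullback.snd f (pullback.fst φ (S.fromSpecStalk (genericPoint S))))) : IsIso f := by
  choose W V hW hV hx hle using fun x : X => show ∃ (W : X.Opens) (V : S.Opens),
      IsAffineOpen W ∧ IsAffineOpen V ∧ x ∈ W ∧ W ≤ φ ⁻¹ᵁ V by
    obtain ⟨_, ⟨V, hV : IsAffineOpen V, rfl⟩, hxV, -⟩ :=
      S.isBasis_affineOpens.exists_subset_of_mem_open (Set.mem_univ (φ x)) isOpen_univ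
    obtain ⟨_, ⟨W, hW : IsAffineOpen W, rfl⟩, hxW, hle⟩ :=
      X.isBasis_affineOpens.exists_subset_of_mem_open (show x ∈ φ ⁻¹ᵁ V from hxV) (φ ⁻¹ᵁ V).isOpen
    exact ⟨W, V, hW, hV, hxW, hle⟩
  refine (IsZariskiLocalAtTarget.iff_of_iSup_eq_top (P := MorphismProperty.isomorphisms Scheme) W
    (eq_top_iff.2 fun x _ => TopologicalSpace.Opens.mem_iSup.2 ⟨x, hx x⟩)).2 fun x => ?_
  haveI : Nonempty (V x) := ⟨⟨φ x, hle x (hx x)⟩⟩
  haveI : IsIso (f.app (W x)) := (ConcreteCategory.isIso_iff_bijective _).2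
    (bijective_app hS φ hred f U hη (hW x) (hV x) (hle x))
  show IsIso (f ∣_ W x)
  have hι : (W x).ι = (hW x).isoSpec.hom ≫ (hW x).fromSpec := by
    rw [← IsAffineOpen.isoSpec_inv_ι, Iso.hom_inv_id_assoc]
  have sq := (isPullback_morphismRestrict f (W x)).flip
  rw [hι] at sq
  exact MorphismProperty.of_isPullback (P := MorphismProperty.isomorphisms Scheme)
    (IsPullback.of_right' sq (H22Alg.FiniteDegree.isPullback_fromSpec f (hW x)))
    (show IsIso (Spec.map (f.app (W x))) from inferInstance)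

end Groth.Agent.H8Norm.EtaClosed
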