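import Groth.Agent.H8Norm.BirationalStage
import Groth.Agent.H26Sym.BC
import Groth.Agent.H7Flat.Flatten.NagataC
import Groth.Agent.S0406

/-!
# Two flat modifications with geometrically reduced fibres agree after a finite birational base change
-/

set_option autoImplicit false
set_option linter.style.haveILetI false
set_option backward.isDefEq.respectTransparency false

universe u

open CategoryTheory CategoryTheory.Limits AlgebraicGeometry TopologicalSpace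
open scoped TensorProduct

namespace Groth.Agent.H8Norm.EtaClosed

/-- Dividing inside the generic fibre: coefficients are integral over the base. -/
theorem exists_tensor {R K B : Type u} [CommRing R] [Field K] [CommRing B] [Algebra R K] [Algebra R B]
    [IsFractionRing R K] [IsDomain R] [Module.Flat R B] [Algebra.FinitePresentation R B]
    (hred : ∀ p : Spec (CommRingCat.of R),
      GeometricallyReduced ((Spec.map (CommRingCat.ofHom (algebraMap R B))).fiberToSpecResidueField p))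
    {r : R} (hr : r ≠ 0) (a : B) (n : ℕ) (c : ℕ → B)
    (h : a ^ n + ∑ i ∈ Finset.range n, c i * algebraMap R B r ^ (n - i) * a ^ i = 0) :
    ∃ T : Finset (K × B), (∀ t ∈ T, IsIntegral R t.1) ∧
      algebraMap R (K ⊗[R] B) r * ∑ t ∈ T, t.1 ⊗ₜ[R] t.2 = (1 : K) ⊗ₜ[R] a := by
  classical
  let R₁ := integralClosure R K
  haveI : IsIntegralClosure R₁ R K := inferInstance
  haveI : IsIntegrallyClosed R₁ := integralClosure.isIntegrallyClosedOfFiniteExtension K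
  have hinj : Function.Injective (algebraMap R R₁) := fun x y hxy =>
    IsFractionRing.injective R K (congrArg Subtype.val hxy)
  haveI : Module.Flat R₁ (R₁ ⊗[R] B) := inferInstance
  have hred₁ : ∀ p : Spec (CommRingCat.of R₁), GeometricallyReduced
      ((Spec.map (CommRingCat.ofHom (algebraMap R₁ (R₁ ⊗[R] B)))).fiberToSpecResidueField p) := fun p =>
    (H7Flat.GeomReduced.geometricallyReduced_fiber_baseChange (isPullback_spec R R₁ B) p).2 (hred _)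
  let ι : B →ₐ[R] R₁ ⊗[R] B := Algebra.TensorProduct.includeRight
  have hrel := congrArg ι h
  simp only [map_add, map_sum, map_mul, map_pow, map_zero, AlgHom.commutes] at hrel
  rw [IsScalarTower.algebraMap_apply R R₁ (R₁ ⊗[R] B)] at hrel
  obtain ⟨z, hz⟩ := dvd_of_relation_normal hred₁ (fun h0 => hr (hinj (h0.trans (map_zero _).symm)))
    (ι a) n (fun i => ι (c i)) hrel
  obtain ⟨T, rfl⟩ := TensorProduct.exists_finset z
  refine ⟨T.image fun t => ((t.1 : K), t.2), fun t ht => ?_, ?_⟩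
  · obtain ⟨t', -, rfl⟩ := Finset.mem_image.1 ht
    exact t'.1.2
  · have hf : Set.InjOn (fun t : R₁ × B => ((t.1 : K), t.2)) T := fun x _ y _ hxy =>
      Prod.ext (Subtype.ext (congrArg Prod.fst hxy)) (congrArg Prod.snd hxy :)
    rw [Finset.sum_image hf]
    have h2 := congrArg (Algebra.TensorProduct.map R₁.val (AlgHom.id R B)) hz
    rw [map_mul, map_sum, ← IsScalarTower.algebraMap_apply, AlgHom.commutes] at h2
    exact h2.symm

variable {S X X' : Scheme.{u}} [IsIntegral S] [CompactSpace S] [QuasiSeparatedSpace S]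

omit [CompactSpace S] [QuasiSeparatedSpace S] in
/-- Two maps into a modification agree as soon as they agree in the generic fibre of the base. -/
theorem hom_ext_generic_modification (φ : X ⟶ S) (f : X' ⟶ X)
    (hη : IsIso (pullback.snd f (pullback.fst φ (S.fromSpecStalk (genericPoint S)))))
    {Z : Scheme.{u}} (μ : Z ⟶ pullback φ (S.fromSpecStalk (genericPoint S))) (m m' : Z ⟶ X')
    (h : m ≫ f = μ ≫ pullback.fst _ _) (h' : m' ≫ f = μ ≫ pullback.fst _ _) : m = m' := by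
  have e : pullback.lift m μ h = pullback.lift m' μ h' := by
    rw [← cancel_mono (pullback.snd f (pullback.fst φ (S.fromSpecStalk (genericPoint S)))), pullback.lift_snd,
      pullback.lift_snd]
  simpa using congrArg (· ≫ pullback.fst _ _) e

/-- The map to the function field on sections. -/
noncomputable def toGeneric (V : S.Opens) :
    S.presheaf.stalk (genericPoint S) ⟶
      Γ(Spec (S.presheaf.stalk (genericPoint S)), S.fromSpecStalk (genericPoint S) ⁻¹ᵁ V) :=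
  (Scheme.ΓSpecIso (S.presheaf.stalk (genericPoint S))).inv ≫
    (Spec (S.presheaf.stalk (genericPoint S))).presheaf.map (homOfLE le_top).op

omit [CompactSpace S] [QuasiSeparatedSpace S] in
theorem toGeneric_algebraMap (V : S.Opens) [Nonempty V] (x : Γ(S, V)) :
    toGeneric V (algebraMap Γ(S, V) S.functionField x) = (S.fromSpecStalk (genericPoint S)).app V x := by
  rw [Scheme.fromSpecStalk_app (genericPoint_mem V)]
  rfl

omit [CompactSpace S] [QuasiSeparatedSpace S] in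
theorem isUnit_app_generic (V : S.Opens) [Nonempty V] {x : Γ(S, V)} (hx : x ≠ 0) :
    IsUnit ((S.fromSpecStalk (genericPoint S)).app V x) := by
  haveI : IsScalarTower Γ(S, V) Γ(S, V) S.functionField := inferInstance
  rw [← toGeneric_algebraMap]
  refine IsUnit.map (toGeneric V).hom ?_
  exact IsUnit.mk0 (G₀ := S.functionField) (S.germToFunctionField V x)
    ((map_ne_zero_iff _ (S.germToFunctionField_injective V)).2 hx)

/-- The generic fibre of a base changed flat modification is schematically dense. -/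
theorem std_of_flat {Y S' : Scheme.{u}} (ψ : Y ⟶ S') [Flat ψ]
    (a : Spec (S.presheaf.stalk (genericPoint S)) ⟶ S') [IsSchemeTheoreticallyDominant a] [QuasiCompact a] :
    IsSchemeTheoreticallyDominant (pullback.fst ψ a) := by
  rw [← pullbackSymmetry_hom_comp_snd]
  infer_instance

/-- Sections vanishing in the generic fibre: torsion. -/
theorem eq_of_mul_eq {Z Y : Scheme.{u}} (j : Z ⟶ Y) [IsSchemeTheoreticallyDominant j] [QuasiCompact j]
    (ψ : Y ⟶ S) (σ : Z ⟶ Spec (S.presheaf.stalk (genericPoint S)))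
    (hσ : σ ≫ S.fromSpecStalk (genericPoint S) = j ≫ ψ) (V : S.Opens) [Nonempty V] (W : Y.Opens)
    (hW : W ≤ ψ ⁻¹ᵁ V) (r : Γ(S, V)) (hr : r ≠ 0) (x y : Γ(Y, W))
    (h : ψ.appLE V W hW r * x = ψ.appLE V W hW r * y) : x = y := by
  refine j.app_injective W ?_
  have key : ∀ (ρ : Z ⟶ S) (e : j ⁻¹ᵁ W ≤ ρ ⁻¹ᵁ V), ρ = σ ≫ S.fromSpecStalk (genericPoint S) →
      IsUnit (ρ.appLE V (j ⁻¹ᵁ W) e r) := by
    rintro _ e rfl
    rw [Scheme.Hom.comp_appLE]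
    exact (isUnit_app_generic V hr).map (σ.appLE ((S.fromSpecStalk (genericPoint S)) ⁻¹ᵁ V) (j ⁻¹ᵁ W) e).hom
  have hunit : IsUnit (j.app W (ψ.appLE V W hW r)) := by
    have h1 := key (j ≫ ψ) (j.preimage_mono hW) hσ.symm
    rw [← Scheme.Hom.appLE_comp_appLE j ψ V W (j ⁻¹ᵁ W) hW le_rfl, ← Scheme.Hom.app_eq_appLE] at h1
    exact h1
  have h2 := congrArg (j.app W) h
  rw [map_mul, map_mul] at h2
  exact hunit.mul_left_cancel h2

/-- On a chart: finitely many integral elements of the function field make the sections of one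
modification appear in the other. -/
theorem exists_chart (φ : X ⟶ S) [Flat φ] {X₁ X₂ : Scheme.{u}} (f₁ : X₁ ⟶ X) (f₂ : X₂ ⟶ X) [IsFinite f₁]
    [IsFinite f₂] [Flat (f₁ ≫ φ)] [LocallyOfFiniteType φ] (hred₁ : GeometricallyReduced (f₁ ≫ φ))
    (hη₂ : IsIso (pullback.snd f₂ (pullback.fst φ (S.fromSpecStalk (genericPoint S)))))
    {W : X.Opens} (hW : IsAffineOpen W) {V : S.Opens} (hV : IsAffineOpen V) [Nonempty V] (hle : W ≤ φ ⁻¹ᵁ V)
    (y : Γ(X₂, f₂ ⁻¹ᵁ W)) :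
    ∃ T : Finset (S.functionField × Γ(X₁, f₁ ⁻¹ᵁ W)),
      (∀ t ∈ T, ((S.fromSpecStalk (genericPoint S)).app V).hom.IsIntegralElem (toGeneric V t.1)) ∧
      ∃ (r : Γ(S, V)) (a : Γ(X, W)), r ≠ 0 ∧ f₂.app W (φ.appLE V W hle r) * y = f₂.app W a ∧
        ∀ {Z : Scheme.{u}} (σ : Z ⟶ Spec (S.presheaf.stalk (genericPoint S))) (m : Z ⟶ X₁)
          (hm : σ ≫ S.fromSpecStalk (genericPoint S) = m ≫ f₁ ≫ φ) (W' : Z.Opens)
          (e₁ : W' ≤ m ⁻¹ᵁ (f₁ ⁻¹ᵁ W)) (e₂ : W' ≤ σ ⁻¹ᵁ (S.fromSpecStalk (genericPoint S) ⁻¹ᵁ V)),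
          m.appLE _ W' e₁ (f₁.app W (φ.appLE V W hle r)) *
              ∑ t ∈ T, σ.appLE _ W' e₂ (toGeneric V t.1) * m.appLE _ W' e₁ t.2 =
            m.appLE _ W' e₁ (f₁.app W a) := by
  classical
  letI := (φ.appLE V W hle).hom.toAlgebra
  letI := (f₂.app W).hom.toAlgebra
  let ψ₁ := (φ.appLE V W hle ≫ f₁.app W)
  letI := ψ₁.hom.toAlgebra
  haveI : Module.Flat Γ(S, V) Γ(X, W) := HasRingHomProperty.appLE @Flat φ inferInstance ⟨V, hV⟩ ⟨W, hW⟩ hle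
  have hle₁ : f₁ ⁻¹ᵁ W ≤ (f₁ ≫ φ) ⁻¹ᵁ V := f₁.preimage_mono hle
  have hψ₁ : ψ₁ = (f₁ ≫ φ).appLE V (f₁ ⁻¹ᵁ W) hle₁ := by
    rw [← Scheme.Hom.appLE_comp_appLE f₁ φ V W (f₁ ⁻¹ᵁ W) hle le_rfl, ← Scheme.Hom.app_eq_appLE]
  haveI : Module.Flat Γ(S, V) Γ(X₁, f₁ ⁻¹ᵁ W) := by
    have := HasRingHomProperty.appLE @Flat (f₁ ≫ φ) inferInstance ⟨V, hV⟩ ⟨f₁ ⁻¹ᵁ W, hW.preimage f₁⟩ hle₁
    rw [← hψ₁] at this
    exact this
  haveI : Algebra.FiniteType Γ(S, V) Γ(X₁, f₁ ⁻¹ᵁ W) := by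
    have := HasRingHomProperty.appLE @LocallyOfFiniteType (f₁ ≫ φ) inferInstance ⟨V, hV⟩
      ⟨f₁ ⁻¹ᵁ W, hW.preimage f₁⟩ hle₁
    rw [← hψ₁] at this
    exact this
  haveI : Algebra.FinitePresentation Γ(S, V) Γ(X₁, f₁ ⁻¹ᵁ W) := S0406.result
  haveI := functionField_isFractionRing_of_isAffineOpen S V hV
  have hred : ∀ p : Spec (CommRingCat.of Γ(S, V)), GeometricallyReduced
      ((Spec.map (CommRingCat.ofHom (algebraMap Γ(S, V) Γ(X₁, f₁ ⁻¹ᵁ W)))).fiberToSpecResidueField p) := fun p => by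
    haveI : GeometricallyReduced ((f₁ ≫ φ).fiberToSpecResidueField (hV.fromSpec p)) :=
      MorphismProperty.pullback_snd _ _ hred₁
    have h1 := (H7Flat.GeomReduced.geometricallyReduced_fiber_iff (f₁ ≫ φ) (hV.fromSpec p)).1 inferInstance
    refine (H7Flat.GeomReduced.geometricallyReduced_fiber_iff _ p).2 fun K _ a ha => ?_
    haveI := h1 K (a ≫ hV.fromSpec) (by rw [Scheme.Hom.comp_apply]; exact congrArg hV.fromSpec ha)
    exact isReduced_of_isOpenImmersion (pullback.map (Spec.map ψ₁) a (f₁ ≫ φ) (a ≫ hV.fromSpec)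
      (hW.preimage f₁).fromSpec (𝟙 _) hV.fromSpec
      (by rw [hψ₁]; exact IsAffineOpen.SpecMap_appLE_fromSpec (f₁ ≫ φ) hV (hW.preimage f₁) hle₁) (by simp))
  -- the generic fibre
  let AK := Localization (Algebra.algebraMapSubmonoid Γ(X, W) (nonZeroDivisors Γ(S, V)))
  have hbij : Function.Bijective (algebraMap AK (AK ⊗[Γ(X, W)] Γ(X₂, f₂ ⁻¹ᵁ W))) :=
    bijective_generic φ f₂ hη₂ hW hV hle
  let M := Algebra.algebraMapSubmonoid Γ(X, W) (nonZeroDivisors Γ(S, V))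
  obtain ⟨z, hz⟩ := hbij.2 ((TensorProduct.mk Γ(X, W) AK Γ(X₂, f₂ ⁻¹ᵁ W) 1) y)
  obtain ⟨⟨a₀, s⟩, hs⟩ := IsLocalization.surj M z
  obtain ⟨⟨_, rt, hrt, rfl⟩, hts⟩ := (IsLocalizedModule.eq_iff_exists M (TensorProduct.mk Γ(X, W) AK Γ(X₂, f₂ ⁻¹ᵁ W) 1)
    (x₁ := (s : Γ(X, W)) • y) (x₂ := algebraMap Γ(X, W) Γ(X₂, f₂ ⁻¹ᵁ W) a₀)).mp (by
      calc (TensorProduct.mk Γ(X, W) AK Γ(X₂, f₂ ⁻¹ᵁ W) 1) ((s : Γ(X, W)) • y)
          = (s : Γ(X, W)) • algebraMap AK (AK ⊗[Γ(X, W)] Γ(X₂, f₂ ⁻¹ᵁ W)) z := by rw [map_smul, hz]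
        _ = algebraMap AK (AK ⊗[Γ(X, W)] Γ(X₂, f₂ ⁻¹ᵁ W)) (z * algebraMap Γ(X, W) AK s) := by
            show (s : Γ(X, W)) • (z ⊗ₜ[Γ(X, W)] (1 : Γ(X₂, f₂ ⁻¹ᵁ W))) = (z * algebraMap Γ(X, W) AK s) ⊗ₜ[Γ(X, W)] 1
            rw [TensorProduct.smul_tmul', Algebra.smul_def, mul_comm]
        _ = (TensorProduct.mk Γ(X, W) AK Γ(X₂, f₂ ⁻¹ᵁ W) 1) (algebraMap Γ(X, W) Γ(X₂, f₂ ⁻¹ᵁ W) a₀) := by
            rw [hs, ← IsScalarTower.algebraMap_apply, Algebra.algebraMap_eq_smul_one,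
              Algebra.algebraMap_eq_smul_one, map_smul]
            rfl)
  obtain ⟨rs, hrs, hrs'⟩ := s.2
  let r : Γ(S, V) := rt * rs
  let a : Γ(X, W) := φ.appLE V W hle rt * a₀
  have hr : r ≠ 0 := nonZeroDivisors.ne_zero (mul_mem hrt hrs)
  have hry : f₂.app W (φ.appLE V W hle r) * y = f₂.app W a := by
    simp only [Submonoid.smul_def, Algebra.smul_def, ← hrs'] at hts
    show f₂.app W (algebraMap Γ(S, V) Γ(X, W) (rt * rs)) * y = f₂.app W (algebraMap Γ(S, V) Γ(X, W) rt * a₀)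
    rw [map_mul, map_mul, map_mul, mul_assoc]
    exact hts
  -- a relation in `A`
  haveI : Module.Finite Γ(X, W) Γ(X₂, f₂ ⁻¹ᵁ W) := f₂.finite_app W hW
  have hinj : Function.Injective (algebraMap Γ(X, W) Γ(X₂, f₂ ⁻¹ᵁ W)) := by
    refine (injective_iff_map_eq_zero _).2 fun x hx => ?_
    have h0 : algebraMap AK (AK ⊗[Γ(X, W)] Γ(X₂, f₂ ⁻¹ᵁ W)) (algebraMap Γ(X, W) AK x) = 0 := by
      rw [← IsScalarTower.algebraMap_apply, Algebra.algebraMap_eq_smul_one, Algebra.TensorProduct.one_def,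
        ← TensorProduct.tmul_smul, ← Algebra.algebraMap_eq_smul_one, hx, TensorProduct.tmul_zero]
    obtain ⟨⟨_, q, hq, rfl⟩, hqx⟩ := (IsLocalization.map_eq_zero_iff M AK x).mp (hbij.1 (h0.trans (map_zero _).symm))
    haveI : Module.IsTorsionFree Γ(S, V) Γ(X, W) := inferInstance
    rw [← Algebra.smul_def] at hqx
    exact (smul_eq_zero.mp hqx).resolve_left (nonZeroDivisors.ne_zero hq)
  obtain ⟨P, hP, hPy⟩ := Algebra.IsIntegral.isIntegral (R := Γ(X, W)) y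
  have hrel : a ^ P.natDegree + ∑ i ∈ Finset.range P.natDegree,
      P.coeff i * φ.appLE V W hle r ^ (P.natDegree - i) * a ^ i = 0 := hinj (by
    rw [map_zero, ← mul_zero (algebraMap Γ(X, W) Γ(X₂, f₂ ⁻¹ᵁ W) (φ.appLE V W hle r) ^ P.natDegree), ← hPy,
      Polynomial.eval₂_eq_sum_range, Finset.sum_range_succ, hP.coeff_natDegree, map_one, one_mul, map_add,
      map_pow, show algebraMap Γ(X, W) Γ(X₂, f₂ ⁻¹ᵁ W) a =
        algebraMap Γ(X, W) Γ(X₂, f₂ ⁻¹ᵁ W) (φ.appLE V W hle r) * y from hry.symm,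
      mul_pow, mul_add, add_comm]
    congr 1
    rw [map_sum, Finset.mul_sum]
    refine Finset.sum_congr rfl fun i hi => ?_
    rw [map_mul, map_mul, map_pow, map_pow, show algebraMap Γ(X, W) Γ(X₂, f₂ ⁻¹ᵁ W) a =
        algebraMap Γ(X, W) Γ(X₂, f₂ ⁻¹ᵁ W) (φ.appLE V W hle r) * y from hry.symm, mul_pow]
    nth_rw 2 [show P.natDegree = (P.natDegree - i) + i from (Nat.sub_add_cancel (Finset.mem_range.1 hi).le).symm]
    rw [pow_add]
    ring)
  have hrel₁ := congrArg (f₁.app W).hom hrel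
  simp only [map_add, map_sum, map_mul, map_pow, map_zero] at hrel₁
  obtain ⟨T, hT, hTeq⟩ := exists_tensor (K := S.functionField) hred hr (f₁.app W a) P.natDegree
    (fun i => f₁.app W (P.coeff i)) hrel₁
  refine ⟨T, fun t ht => ?_, r, a, hr, hry, fun {Z} σ m hm W' e₁ e₂ => ?_⟩
  · obtain ⟨Q, hQ, hQt⟩ := hT t ht
    refine ⟨Q, hQ, ?_⟩
    rw [show ((S.fromSpecStalk (genericPoint S)).app V).hom =
      (toGeneric V).hom.comp (algebraMap Γ(S, V) S.functionField) from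
        RingHom.ext fun x => (toGeneric_algebraMap V x).symm, ← Polynomial.hom_eval₂]
    rw [hQt, map_zero]
  · letI : Algebra Γ(S, V) Γ(Z, W') :=
      ((m.appLE _ W' e₁).hom.comp ψ₁.hom).toAlgebra
    have hcomm : ∀ x : Γ(S, V), σ.appLE _ W' e₂ (toGeneric V (algebraMap Γ(S, V) S.functionField x)) =
        m.appLE _ W' e₁ (ψ₁ x) := fun x => by
      have key : ∀ (ρ : Z ⟶ S) (e : W' ≤ ρ ⁻¹ᵁ V), ρ = σ ≫ S.fromSpecStalk (genericPoint S) →
          ρ.appLE V W' e x = σ.appLE _ W' e₂ ((S.fromSpecStalk (genericPoint S)).app V x) := by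
        rintro _ e rfl
        rw [Scheme.Hom.comp_appLE]
        rfl
      rw [toGeneric_algebraMap, hψ₁, ← ConcreteCategory.comp_apply ((f₁ ≫ φ).appLE V (f₁ ⁻¹ᵁ W) hle₁),
        Scheme.Hom.appLE_comp_appLE]
      exact (key _ _ hm.symm).symm
    let g₁ : S.functionField →ₐ[Γ(S, V)] Γ(Z, W') :=
      { (σ.appLE _ W' e₂).hom.comp (toGeneric V).hom with commutes' := hcomm }
    let g₂ : Γ(X₁, f₁ ⁻¹ᵁ W) →ₐ[Γ(S, V)] Γ(Z, W') :=
      { (m.appLE _ W' e₁).hom with commutes' := fun _ => rfl }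
    let Φ := Algebra.TensorProduct.lift g₁ g₂ fun _ _ => Commute.all _ _
    have hΦ := congrArg Φ hTeq
    rw [map_mul, map_sum, AlgHom.commutes] at hΦ
    simp only [Φ, Algebra.TensorProduct.lift_tmul, map_one, one_mul] at hΦ
    exact hΦ

/-- The morphism from one modification to the other over a base change. -/
theorem exists_hom (φ : X ⟶ S) [Flat φ] {X₁ X₂ : Scheme.{u}} (f₁ : X₁ ⟶ X) (f₂ : X₂ ⟶ X) [IsFinite f₁]
    [IsFinite f₂] [Flat (f₁ ≫ φ)]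
    (hη₂ : IsIso (pullback.snd f₂ (pullback.fst φ (S.fromSpecStalk (genericPoint S)))))
    {S' : Scheme.{u}} (g : S' ⟶ S) [IsFinite g] (a : Spec (S.presheaf.stalk (genericPoint S)) ⟶ S')
    [IsSchemeTheoreticallyDominant a] [QuasiCompact a] (ha : a ≫ g = S.fromSpecStalk (genericPoint S))
    {κ : Type u} (W : κ → X.Opens) (hWcov : ∀ x, ∃ k, x ∈ W k) (hW : ∀ k, IsAffineOpen (W k))
    (V : κ → S.Opens) [∀ k, Nonempty (V k)] (hle : ∀ k, W k ≤ φ ⁻¹ᵁ V k)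
    (G : ∀ k, Set Γ(X₂, f₂ ⁻¹ᵁ W k))
    (hG : ∀ k, letI := (f₂.app (W k)).hom.toAlgebra
      Submodule.span Γ(X, W k) (G k) = ⊤)
    (hlift : ∀ k, ∀ y ∈ G k, ∃ T : Finset (S.functionField × Γ(X₁, f₁ ⁻¹ᵁ W k)),
      (∀ t ∈ T, ∃ (h : S.fromSpecStalk (genericPoint S) ⁻¹ᵁ V k ≤ a ⁻¹ᵁ (g ⁻¹ᵁ V k)) (c : Γ(S', g ⁻¹ᵁ V k)),
        a.appLE _ _ h c = toGeneric (V k) t.1) ∧
      ∃ (r : Γ(S, V k)) (a' : Γ(X, W k)), r ≠ 0 ∧
        f₂.app (W k) (φ.appLE (V k) (W k) (hle k) r) * y = f₂.app (W k) a' ∧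
        ∀ {Z : Scheme.{u}} (σ : Z ⟶ Spec (S.presheaf.stalk (genericPoint S))) (m : Z ⟶ X₁)
          (hm : σ ≫ S.fromSpecStalk (genericPoint S) = m ≫ f₁ ≫ φ) (W' : Z.Opens)
          (e₁ : W' ≤ m ⁻¹ᵁ (f₁ ⁻¹ᵁ W k)) (e₂ : W' ≤ σ ⁻¹ᵁ (S.fromSpecStalk (genericPoint S) ⁻¹ᵁ V k)),
          m.appLE _ W' e₁ (f₁.app (W k) (φ.appLE (V k) (W k) (hle k) r)) *
              ∑ t ∈ T, σ.appLE _ W' e₂ (toGeneric (V k) t.1) * m.appLE _ W' e₁ t.2 =
            m.appLE _ W' e₁ (f₁.app (W k) a')) :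
    ∃ e : pullback f₁ (pullback.fst φ g) ⟶ pullback f₂ (pullback.fst φ g),
      e ≫ pullback.snd f₂ (pullback.fst φ g) = pullback.snd f₁ (pullback.fst φ g) := by
  classical
  haveI : QuasiCompact (S.fromSpecStalk (genericPoint S)) := quasiCompact_generic
  let P₁ := pullback f₁ (pullback.fst φ g)
  let h₁ : P₁ ⟶ X := pullback.snd f₁ (pullback.fst φ g) ≫ pullback.fst φ g
  let ψ' : P₁ ⟶ S' := pullback.snd f₁ (pullback.fst φ g) ≫ pullback.snd φ g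
  haveI : IsFinite h₁ := inferInstance
  haveI : Flat ψ' := MorphismProperty.of_isPullback
    ((IsPullback.of_hasPullback f₁ (pullback.fst φ g)).paste_vert (IsPullback.of_hasPullback φ g))
    (inferInstance : Flat (f₁ ≫ φ))
  haveI := std_of_flat ψ' a
  let θ₁ := pullback.fst ψ' a
  let σ := pullback.snd ψ' a
  haveI : QuasiCompact θ₁ := MorphismProperty.pullback_fst _ _ inferInstance
  have hσS : σ ≫ S.fromSpecStalk (genericPoint S) = θ₁ ≫ h₁ ≫ φ := by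
    rw [← ha, ← pullback.condition_assoc]
    simp only [θ₁, h₁, ψ', Category.assoc, pullback.condition]
  let μ : pullback ψ' a ⟶ pullback φ (S.fromSpecStalk (genericPoint S)) :=
    pullback.lift (θ₁ ≫ h₁) σ (by rw [Category.assoc, hσS])
  let w : pullback ψ' a ⟶ X₂ :=
    μ ≫ inv (pullback.snd f₂ (pullback.fst φ (S.fromSpecStalk (genericPoint S)))) ≫ pullback.fst f₂ _
  have hw : θ₁ ≫ h₁ = w ≫ f₂ := by
    simp only [w, Category.assoc, pullback.condition, IsIso.inv_hom_id_assoc, μ, pullback.lift_fst]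
  let θ : pullback ψ' a ⟶ pullback h₁ f₂ := pullback.lift θ₁ w hw
  haveI : QuasiCompact (θ ≫ pullback.fst h₁ f₂) := by
    rw [pullback.lift_fst]; infer_instance
  haveI : QuasiCompact θ := QuasiCompact.of_comp θ (pullback.fst h₁ f₂)
  haveI : IsSchemeTheoreticallyDominant θ.toImage :=
    H05EGA4.SchImageClopen.isSchemeTheoreticallyDominant_toImage θ
  let π := θ.imageι ≫ pullback.fst h₁ f₂
  let v := θ.imageι ≫ pullback.snd h₁ f₂
  have hθπ : θ.toImage ≫ π = θ₁ := by rw [Scheme.Hom.toImage_imageι_assoc, pullback.lift_fst]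
  haveI : QuasiCompact θ.toImage := by
    haveI : QuasiCompact (θ.toImage ≫ θ.imageι) := by rw [Scheme.Hom.toImage_imageι]; infer_instance
    exact QuasiCompact.of_comp θ.toImage θ.imageι
  haveI : IsSchemeTheoreticallyDominant π := ⟨eq_bot_iff.2 ((Scheme.Hom.le_ker_comp θ.toImage π).trans
    (by rw [hθπ, Scheme.Hom.ker_eq_bot]))⟩
  haveI : IsFinite π := inferInstance
  have hπv : π ≫ h₁ = v ≫ f₂ := by simp only [π, v, Category.assoc, pullback.condition]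
  suffices IsIso π by
    refine ⟨pullback.lift (inv π ≫ v) (pullback.snd f₁ (pullback.fst φ g)) ?_, pullback.lift_snd _ _ _⟩
    rw [Category.assoc, ← hπv, IsIso.inv_hom_id_assoc]
  refine (IsZariskiLocalAtTarget.iff_of_iSup_eq_top (P := MorphismProperty.isomorphisms Scheme)
    (fun k => h₁ ⁻¹ᵁ W k) (eq_top_iff.2 fun x _ => Opens.mem_iSup.2 (hWcov (h₁ x)))).2 fun k => ?_
  show IsIso (π ∣_ h₁ ⁻¹ᵁ W k)
  let O := h₁ ⁻¹ᵁ W k
  have hO : IsAffineOpen O := (hW k).preimage h₁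
  suffices hsurj : Function.Surjective (π.app O) by
    haveI : IsIso (π.app O) := (ConcreteCategory.isIso_iff_bijective _).2 ⟨π.app_injective O, hsurj⟩
    have hι : O.ι = hO.isoSpec.hom ≫ hO.fromSpec := by
      rw [← IsAffineOpen.isoSpec_inv_ι, Iso.hom_inv_id_assoc]
    have sq := (isPullback_morphismRestrict π O).flip
    rw [hι] at sq
    exact MorphismProperty.of_isPullback (P := MorphismProperty.isomorphisms Scheme)
      (IsPullback.of_right' sq (H22Alg.FiniteDegree.isPullback_fromSpec π hO))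
      (show IsIso (Spec.map (π.app O)) from inferInstance)
  -- generation of the sections over the chart
  have hUY : pullback.fst h₁ f₂ ⁻¹ᵁ O =
      pullback.fst h₁ f₂ ⁻¹ᵁ O ⊓ pullback.snd h₁ f₂ ⁻¹ᵁ (f₂ ⁻¹ᵁ W k) := by
    refine (inf_eq_left.2 ?_).symm
    rw [← Scheme.Hom.comp_preimage, ← Scheme.Hom.comp_preimage, pullback.condition]
  have hev : π ⁻¹ᵁ O ≤ v ⁻¹ᵁ (f₂ ⁻¹ᵁ W k) := by
    rw [← Scheme.Hom.comp_preimage, ← Scheme.Hom.comp_preimage, hπv]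
  let ρ := v.appLE (f₂ ⁻¹ᵁ W k) (π ⁻¹ᵁ O) hev
  let Q : Subring Γ(θ.image, π ⁻¹ᵁ O) := (π.app O).hom.range
  -- sections pulled back from `X` come from `P₁`
  have hA : ∀ x : Γ(X, W k), ρ (f₂.app (W k) x) = π.app O (h₁.app (W k) x) := fun x => by
    have key : ∀ (t t' : θ.image ⟶ X) (e : π ⁻¹ᵁ O ≤ t ⁻¹ᵁ W k) (e' : π ⁻¹ᵁ O ≤ t' ⁻¹ᵁ W k), t = t' →
        t.appLE (W k) (π ⁻¹ᵁ O) e x = t'.appLE (W k) (π ⁻¹ᵁ O) e' x := by
      rintro t t' e e' rfl; rfl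
    rw [Scheme.Hom.app_eq_appLE, Scheme.Hom.app_eq_appLE, Scheme.Hom.app_eq_appLE,
      ← ConcreteCategory.comp_apply, ← ConcreteCategory.comp_apply, Scheme.Hom.appLE_comp_appLE,
      Scheme.Hom.appLE_comp_appLE]
    exact key _ _ _ _ hπv.symm
  have hgen : ∀ y ∈ G k, ρ y ∈ Q := by
    intro y hy
    obtain ⟨T, hT, r, a', hr, hry, hid⟩ := hlift k y hy
    choose hac c hc using hT
    have eO₁ : O ≤ pullback.fst f₁ (pullback.fst φ g) ⁻¹ᵁ (f₁ ⁻¹ᵁ W k) := by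
      rw [← Scheme.Hom.comp_preimage, pullback.condition]
    have eO₂ : O ≤ ψ' ⁻¹ᵁ (g ⁻¹ᵁ V k) := by
      refine (h₁.preimage_mono (hle k)).trans (le_of_eq ?_)
      rw [← Scheme.Hom.comp_preimage, ← Scheme.Hom.comp_preimage]
      simp only [h₁, ψ', Category.assoc, pullback.condition]
    let z : Γ(P₁, O) := ∑ t ∈ T.attach, ψ'.appLE (g ⁻¹ᵁ V k) O eO₂ (c t.1 t.2) *
      (pullback.fst f₁ (pullback.fst φ g)).appLE (f₁ ⁻¹ᵁ W k) O eO₁ t.1.2
    refine ⟨z, ?_⟩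
    -- the identity in `Γ(P₁, O)`
    have hz : h₁.app (W k) (φ.appLE (V k) (W k) (hle k) r) * z = h₁.app (W k) a' := by
      refine θ₁.app_injective O ?_
      have e₁ : θ₁ ⁻¹ᵁ O ≤ (θ₁ ≫ pullback.fst f₁ (pullback.fst φ g)) ⁻¹ᵁ (f₁ ⁻¹ᵁ W k) := θ₁.preimage_mono eO₁
      have e₂ : θ₁ ⁻¹ᵁ O ≤ σ ⁻¹ᵁ (S.fromSpecStalk (genericPoint S) ⁻¹ᵁ V k) := by
        rw [← Scheme.Hom.comp_preimage σ (S.fromSpecStalk (genericPoint S)), hσS, Scheme.Hom.comp_preimage]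
        exact θ₁.preimage_mono (h₁.preimage_mono (hle k))
      have hm : σ ≫ S.fromSpecStalk (genericPoint S) =
          (θ₁ ≫ pullback.fst f₁ (pullback.fst φ g)) ≫ f₁ ≫ φ := by
        rw [hσS]; simp only [h₁, Category.assoc, pullback.condition_assoc]
      have hX : ∀ x : Γ(X, W k), θ₁.app O (h₁.app (W k) x) =
          (θ₁ ≫ pullback.fst f₁ (pullback.fst φ g)).appLE _ (θ₁ ⁻¹ᵁ O) e₁ (f₁.app (W k) x) := fun x => by
        have key : ∀ (t t' : pullback ψ' a ⟶ X) (e : θ₁ ⁻¹ᵁ O ≤ t ⁻¹ᵁ W k) (e' : θ₁ ⁻¹ᵁ O ≤ t' ⁻¹ᵁ W k),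
            t = t' → t.appLE (W k) (θ₁ ⁻¹ᵁ O) e x = t'.appLE (W k) (θ₁ ⁻¹ᵁ O) e' x := by
          rintro t t' e e' rfl; rfl
        rw [Scheme.Hom.app_eq_appLE, Scheme.Hom.app_eq_appLE, Scheme.Hom.app_eq_appLE,
          ← ConcreteCategory.comp_apply, ← ConcreteCategory.comp_apply, Scheme.Hom.appLE_comp_appLE,
          Scheme.Hom.appLE_comp_appLE]
        refine key _ _ _ _ ?_
        rw [Category.assoc, pullback.condition]
      rw [map_mul, hX, hX, ← hid σ (θ₁ ≫ pullback.fst f₁ (pullback.fst φ g)) hm (θ₁ ⁻¹ᵁ O) e₁ e₂]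
      congr 1
      rw [map_sum, ← Finset.sum_attach T]
      refine Finset.sum_congr rfl fun t _ => ?_
      rw [map_mul, ← hc t.1 t.2]
      congr 1
      · have key : ∀ (t₁ t₂ : pullback ψ' a ⟶ S') (e : θ₁ ⁻¹ᵁ O ≤ t₁ ⁻¹ᵁ (g ⁻¹ᵁ V k))
            (e' : θ₁ ⁻¹ᵁ O ≤ t₂ ⁻¹ᵁ (g ⁻¹ᵁ V k)), t₁ = t₂ →
            t₁.appLE (g ⁻¹ᵁ V k) (θ₁ ⁻¹ᵁ O) e (c t.1 t.2) = t₂.appLE (g ⁻¹ᵁ V k) (θ₁ ⁻¹ᵁ O) e' (c t.1 t.2) := by
          rintro t₁ t₂ e e' rfl; rfl
        rw [Scheme.Hom.app_eq_appLE, ← ConcreteCategory.comp_apply, ← ConcreteCategory.comp_apply,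
          Scheme.Hom.appLE_comp_appLE, Scheme.Hom.appLE_comp_appLE]
        exact key _ _ _ _ pullback.condition
      · rw [Scheme.Hom.app_eq_appLE, ← ConcreteCategory.comp_apply, Scheme.Hom.appLE_comp_appLE]
    -- cancel `r`
    have hWψ : π ⁻¹ᵁ O ≤ (π ≫ h₁ ≫ φ) ⁻¹ᵁ V k := π.preimage_mono (h₁.preimage_mono (hle k))
    have hσθ : σ ≫ S.fromSpecStalk (genericPoint S) = θ.toImage ≫ π ≫ h₁ ≫ φ := by
      rw [← Category.assoc θ.toImage π, hθπ, hσS]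
    refine eq_of_mul_eq θ.toImage (π ≫ h₁ ≫ φ) σ hσθ (V k) (π ⁻¹ᵁ O) hWψ r hr _ _ ?_
    have hr' : (π ≫ h₁ ≫ φ).appLE (V k) (π ⁻¹ᵁ O) hWψ r =
        π.app O (h₁.app (W k) (φ.appLE (V k) (W k) (hle k) r)) := by
      rw [Scheme.Hom.app_eq_appLE, Scheme.Hom.app_eq_appLE, ← ConcreteCategory.comp_apply,
        ← ConcreteCategory.comp_apply, Scheme.Hom.appLE_comp_appLE, Scheme.Hom.appLE_comp_appLE]
      have key : ∀ (t t' : θ.image ⟶ S) (e : π ⁻¹ᵁ O ≤ t ⁻¹ᵁ V k) (e' : π ⁻¹ᵁ O ≤ t' ⁻¹ᵁ V k), t = t' →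
          t.appLE (V k) (π ⁻¹ᵁ O) e r = t'.appLE (V k) (π ⁻¹ᵁ O) e' r := by
        rintro t t' e e' rfl; rfl
      exact key _ _ _ _ (Category.assoc _ _ _).symm
    rw [hr']
    show π.app O _ * π.app O z = _
    rw [← map_mul, hz, ← hA, ← hA, ← map_mul, hry]
  have hρQ : ∀ x : Γ(X₂, f₂ ⁻¹ᵁ W k), ρ x ∈ Q := by
    intro x
    letI := (f₂.app (W k)).hom.toAlgebra
    have hx : x ∈ Submodule.span Γ(X, W k) (G k) := hG k ▸ Submodule.mem_top
    induction hx using Submodule.span_induction with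
    | mem y hy => exact hgen y hy
    | zero => rw [map_zero]; exact Q.zero_mem
    | add p q _ _ hp hq => rw [map_add]; exact Q.add_mem hp hq
    | smul c p _ hp =>
      rw [Algebra.smul_def, map_mul]
      exact Q.mul_mem ⟨_, (hA c).symm⟩ hp
  have hpo := H26Sym.isPushout_appLE (IsPullback.of_hasPullback h₁ f₂) (hW k) ((hW k).preimage f₂) hO
    (le_refl (f₂ ⁻¹ᵁ W k)) (le_refl (h₁ ⁻¹ᵁ W k)) hUY
  let im : Γ(pullback h₁ f₂, pullback.fst h₁ f₂ ⁻¹ᵁ O) ⟶ Γ(θ.image, π ⁻¹ᵁ O) :=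
    θ.imageι.app (pullback.fst h₁ f₂ ⁻¹ᵁ O)
  have him : Function.Surjective im := by
    refine θ.imageι.app_surjective _ ?_
    exact hO.preimage (pullback.fst h₁ f₂)
  let a₁ : Γ(P₁, O) ⟶ CommRingCat.of Q := CommRingCat.ofHom ((π.app O).hom.rangeRestrict)
  let a₂ : Γ(X₂, f₂ ⁻¹ᵁ W k) ⟶ CommRingCat.of Q := CommRingCat.ofHom (ρ.hom.codRestrict Q hρQ)
  have hcomm : h₁.appLE (W k) O le_rfl ≫ a₁ = f₂.appLE (W k) (f₂ ⁻¹ᵁ W k) le_rfl ≫ a₂ := by
    refine CommRingCat.hom_ext (RingHom.ext fun x => Subtype.ext ?_)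
    rw [← Scheme.Hom.app_eq_appLE, ← Scheme.Hom.app_eq_appLE]
    exact (hA x).symm
  have hdesc : hpo.desc a₁ a₂ hcomm ≫ CommRingCat.ofHom Q.subtype = im := by
    refine hpo.hom_ext ?_ ?_
    · rw [IsPushout.inl_desc_assoc]
      refine CommRingCat.hom_ext (RingHom.ext fun x => ?_)
      show π.app O x = im ((pullback.fst h₁ f₂).appLE O _ _ x)
      rw [Scheme.Hom.app_eq_appLE, show im = θ.imageι.appLE _ (π ⁻¹ᵁ O) le_rfl from Scheme.Hom.app_eq_appLE _,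
        ← ConcreteCategory.comp_apply, Scheme.Hom.appLE_comp_appLE]
    · rw [IsPushout.inr_desc_assoc]
      refine CommRingCat.hom_ext (RingHom.ext fun x => ?_)
      show ρ x = im ((pullback.snd h₁ f₂).appLE _ _ _ x)
      rw [show im = θ.imageι.appLE _ (π ⁻¹ᵁ O) le_rfl from Scheme.Hom.app_eq_appLE _,
        ← ConcreteCategory.comp_apply, Scheme.Hom.appLE_comp_appLE]
  intro y
  obtain ⟨x, rfl⟩ := him y
  obtain ⟨q, hq⟩ : ∃ q : Q, (q : Γ(θ.image, π ⁻¹ᵁ O)) = im x :=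
    ⟨hpo.desc a₁ a₂ hcomm x, ConcreteCategory.congr_hom hdesc x⟩
  rw [← hq]
  exact q.2

/-- Uniqueness. -/
theorem hom_unique (φ : X ⟶ S) [Flat φ] {X₁ X₂ : Scheme.{u}} (f₁ : X₁ ⟶ X) (f₂ : X₂ ⟶ X) [IsFinite f₂]
    [Flat (f₁ ≫ φ)]
    (hη₂ : IsIso (pullback.snd f₂ (pullback.fst φ (S.fromSpecStalk (genericPoint S)))))
    {S' : Scheme.{u}} (g : S' ⟶ S) (a : Spec (S.presheaf.stalk (genericPoint S)) ⟶ S')
    [IsSchemeTheoreticallyDominant a] [QuasiCompact a] (ha : a ≫ g = S.fromSpecStalk (genericPoint S))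
    (e e' : pullback f₁ (pullback.fst φ g) ⟶ pullback f₂ (pullback.fst φ g))
    (he : e ≫ pullback.snd f₂ (pullback.fst φ g) = pullback.snd f₁ (pullback.fst φ g))
    (he' : e' ≫ pullback.snd f₂ (pullback.fst φ g) = pullback.snd f₁ (pullback.fst φ g)) : e = e' := by
  let ψ' : pullback f₁ (pullback.fst φ g) ⟶ S' := pullback.snd f₁ (pullback.fst φ g) ≫ pullback.snd φ g
  haveI : Flat ψ' := MorphismProperty.of_isPullback
    ((IsPullback.of_hasPullback f₁ (pullback.fst φ g)).paste_vert (IsPullback.of_hasPullback φ g))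
    (inferInstance : Flat (f₁ ≫ φ))
  haveI := std_of_flat ψ' a
  let θ₁ := pullback.fst ψ' a
  refine H7Flat.Flatten.hom_ext_of_schDominant θ₁ (pullback.snd f₂ (pullback.fst φ g)) e e'
    (he.trans he'.symm) (pullback.hom_ext ?_ (by simp only [Category.assoc, he, he']))
  let μ : pullback ψ' a ⟶ pullback φ (S.fromSpecStalk (genericPoint S)) :=
    pullback.lift (θ₁ ≫ pullback.snd f₁ (pullback.fst φ g) ≫ pullback.fst φ g) (pullback.snd ψ' a) (by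
      rw [← ha, ← pullback.condition_assoc]
      simp only [θ₁, ψ', Category.assoc, pullback.condition])
  refine hom_ext_generic_modification φ f₂ hη₂ μ _ _ ?_ ?_ <;>
    simp only [Category.assoc, pullback.condition, μ, pullback.lift_fst, reassoc_of% he, reassoc_of% he']

/-- The main statement. -/
theorem exists_common_iso (φ : X ⟶ S) [Flat φ] [LocallyOfFiniteType φ] [QuasiCompact φ] {X₁ X₂ : Scheme.{u}}
    (f₁ : X₁ ⟶ X) (f₂ : X₂ ⟶ X) [IsFinite f₁] [IsFinite f₂]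
    (hη₁ : IsIso (pullback.snd f₁ (pullback.fst φ (S.fromSpecStalk (genericPoint S)))))
    (hη₂ : IsIso (pullback.snd f₂ (pullback.fst φ (S.fromSpecStalk (genericPoint S)))))
    [Flat (f₁ ≫ φ)] [Flat (f₂ ≫ φ)] (hred₁ : GeometricallyReduced (f₁ ≫ φ))
    (hred₂ : GeometricallyReduced (f₂ ≫ φ)) :
    ∃ (S' : Scheme.{u}) (g : S' ⟶ S) (V : S.Opens), IsFinite g ∧ (V : Set S).Nonempty ∧
      IsIso (g ∣_ V) ∧ IsSchemeTheoreticallyDominant (g ⁻¹ᵁ V).ι ∧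
      ∃ e : pullback f₁ (pullback.fst φ g) ⟶ pullback f₂ (pullback.fst φ g), IsIso e ∧
        e ≫ pullback.snd f₂ (pullback.fst φ g) = pullback.snd f₁ (pullback.fst φ g) ∧
        ∀ e' : pullback f₁ (pullback.fst φ g) ⟶ pullback f₂ (pullback.fst φ g), IsIso e' →
          e' ≫ pullback.snd f₂ (pullback.fst φ g) = pullback.snd f₁ (pullback.fst φ g) → e' = e := by
  classical
  choose W V hW hV hx hle using fun x : X => show ∃ (W : X.Opens) (V : S.Opens),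
      IsAffineOpen W ∧ IsAffineOpen V ∧ x ∈ W ∧ W ≤ φ ⁻¹ᵁ V by
    obtain ⟨_, ⟨V, hV : IsAffineOpen V, rfl⟩, hxV, -⟩ :=
      S.isBasis_affineOpens.exists_subset_of_mem_open (Set.mem_univ (φ x)) isOpen_univ
    obtain ⟨_, ⟨W, hW : IsAffineOpen W, rfl⟩, hxW, hle⟩ :=
      X.isBasis_affineOpens.exists_subset_of_mem_open (show x ∈ φ ⁻¹ᵁ V from hxV) (φ ⁻¹ᵁ V).isOpen
    exact ⟨W, V, hW, hV, hxW, hle⟩
  haveI : ∀ x, Nonempty (V x) := fun x => ⟨⟨φ x, hle x (hx x)⟩⟩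
  haveI : CompactSpace X := QuasiCompact.compactSpace_of_compactSpace φ
  obtain ⟨K, hK⟩ := isCompact_univ.elim_finite_subcover (fun x : X => ((W x : X.Opens) : Set X))
    (fun x => (W x).2) (fun x _ => Set.mem_iUnion.2 ⟨x, hx x⟩)
  let κ : Type u := {x : X // x ∈ K}
  have hcov : ∀ z : X, ∃ k : κ, z ∈ W k.1 := fun z => by
    obtain ⟨x, hxK, hzx⟩ := Set.mem_iUnion₂.1 (hK (Set.mem_univ z))
    exact ⟨⟨x, hxK⟩, hzx⟩
  have hfg : ∀ {Y : Scheme.{u}} (f : Y ⟶ X) [IsFinite f] (k : κ), ∃ G : Finset Γ(Y, f ⁻¹ᵁ W k.1),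
      letI := (f.app (W k.1)).hom.toAlgebra
      Submodule.span Γ(X, W k.1) (G : Set Γ(Y, f ⁻¹ᵁ W k.1)) = ⊤ := fun f _ k => by
    letI := (f.app (W k.1)).hom.toAlgebra
    haveI : Module.Finite Γ(X, W k.1) _ := f.finite_app (W k.1) (hW k.1)
    exact Module.Finite.fg_top
  choose G₁ hG₁ using hfg f₁
  choose G₂ hG₂ using hfg f₂
  choose T₁ hT₁ R₁ using fun (k : κ) (y : {y // y ∈ G₂ k}) =>
    exists_chart φ f₁ f₂ hred₁ hη₂ (hW k.1) (hV k.1) (hle k.1) y.1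
  choose T₂ hT₂ R₂ using fun (k : κ) (y : {y // y ∈ G₁ k}) =>
    exists_chart φ f₂ f₁ hred₂ hη₁ (hW k.1) (hV k.1) (hle k.1) y.1
  let I₁ := (k : κ) × (y : {y // y ∈ G₂ k}) × {t // t ∈ T₁ k y}
  let I₂ := (k : κ) × (y : {y // y ∈ G₁ k}) × {t // t ∈ T₂ k y}
  obtain ⟨S', g, a, hg, ha, hqc, hag, hsec, V₀, hV₀, hiso, hstd⟩ := exists_birational (ι := I₁ ⊕ I₂)
    (fun i => ⟨V (i.elim (fun j => j.1.1) fun j => j.1.1), hV _⟩)
    (fun i => match i with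
      | .inl j => toGeneric (V j.1.1) j.2.2.1.1
      | .inr j => toGeneric (V j.1.1) j.2.2.1.1)
    (fun i => match i with
      | .inl j => hT₁ j.1 j.2.1 j.2.2.1 j.2.2.2
      | .inr j => hT₂ j.1 j.2.1 j.2.2.1 j.2.2.2)
  haveI := hg; haveI := ha; haveI := hqc
  obtain ⟨e₁, he₁⟩ := exists_hom φ f₁ f₂ hη₂ g a hag (fun k : κ => W k.1) hcov (fun k => hW k.1)
    (fun k => V k.1) (fun k => hle k.1) (fun k => (G₂ k : Set _)) hG₂
    fun k y hy => ⟨T₁ k ⟨y, hy⟩, fun t ht => hsec (Sum.inl ⟨k, ⟨y, hy⟩, ⟨t, ht⟩⟩), R₁ k ⟨y, hy⟩⟩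
  obtain ⟨e₂, he₂⟩ := exists_hom φ f₂ f₁ hη₁ g a hag (fun k : κ => W k.1) hcov (fun k => hW k.1)
    (fun k => V k.1) (fun k => hle k.1) (fun k => (G₁ k : Set _)) hG₁
    fun k y hy => ⟨T₂ k ⟨y, hy⟩, fun t ht => hsec (Sum.inr ⟨k, ⟨y, hy⟩, ⟨t, ht⟩⟩), R₂ k ⟨y, hy⟩⟩
  refine ⟨S', g, V₀, hg, hV₀, hiso, hstd, e₁, ⟨⟨e₂, ?_, ?_⟩⟩, he₁, fun e' _ he' => ?_⟩
  · exact hom_unique φ f₁ f₁ hη₁ g a hag _ _ (by rw [Category.assoc, he₂, he₁]) (Category.id_comp _)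
  · exact hom_unique φ f₂ f₂ hη₂ g a hag _ _ (by rw [Category.assoc, he₁, he₂]) (Category.id_comp _)
  · exact hom_unique φ f₁ f₂ hη₂ g a hag _ _ he' he₁

end Groth.Agent.H8Norm.EtaClosed
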