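import Mathlib
import Groth.Prelude.Def_FlatFun
import Groth.Prelude.Def_FlatCA
import Groth.Agent.H7Flat.PureProjective
import Groth.Agent.H7Flat.PureUnivPure

/-! Weil restriction of a closed subscheme along a pure flat finitely presented ring map. -/

set_option autoImplicit false
universe u
open CategoryTheory CategoryTheory.Limits AlgebraicGeometry TensorProduct Opposite

namespace Groth.Agent.H8Norm

/-- The ideal generated by the values of all functionals on `J`. -/
noncomputable def coeffIdeal (A : Type u) [CommRing A] {B : Type u} [CommRing B] [Algebra A B]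
    (J : Ideal B) : Ideal A :=
  Ideal.span {a | ∃ b ∈ J, ∃ φ : B →ₗ[A] A, φ b = a}

variable {A B : Type u} [CommRing A] [CommRing B] [Algebra A B]

theorem exists_dual_basis [Module.Projective A B] :
    ∃ s : B →ₗ[A] (B →₀ A), ∀ b, Finsupp.linearCombination A (id : B → B) (s b) = b := by
  obtain ⟨s, hs⟩ := Module.projective_def'.1 ‹Module.Projective A B›
  exact ⟨s, fun b => LinearMap.congr_fun hs b⟩

theorem coeffIdeal_le_ker_iff [Module.Projective A B] (J : Ideal B) {R : Type u} [CommRing R]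
    [Algebra A R] :
    coeffIdeal A J ≤ RingHom.ker (algebraMap A R) ↔ ∀ b ∈ J, b ⊗ₜ[A] (1 : R) = 0 := by
  obtain ⟨s, hs⟩ := exists_dual_basis (A := A) (B := B)
  constructor
  · intro h b hb
    rw [← hs b, Finsupp.linearCombination_apply, Finsupp.sum, TensorProduct.sum_tmul]
    refine Finset.sum_eq_zero fun x _ => ?_
    have : algebraMap A R (s b x) = 0 :=
      h (Ideal.subset_span ⟨b, hb, (Finsupp.lapply x).comp s, rfl⟩)
    rw [TensorProduct.smul_tmul, ← Algebra.algebraMap_eq_smul_one, this, TensorProduct.tmul_zero]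
  · intro h
    refine Ideal.span_le.2 fun a ha => ?_
    obtain ⟨b, hb, φ, rfl⟩ := ha
    have := congrArg ((TensorProduct.lid A R).toLinearMap.comp (φ.rTensor R)) (h b hb)
    simpa [Algebra.algebraMap_eq_smul_one] using this

theorem fg_coeffIdeal [Module.Projective A B] {J : Ideal B} (hJ : J.FG) : (coeffIdeal A J).FG := by
  classical
  obtain ⟨s, hs⟩ := exists_dual_basis (A := A) (B := B)
  obtain ⟨G, rfl⟩ := hJ
  let T : Finset A := G.biUnion fun g => (s g).support.image fun x => s g x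
  refine ⟨T, le_antisymm (Ideal.span_le.2 fun a ha => ?_) (Ideal.span_le.2 fun a ha => ?_)⟩
  · obtain ⟨g, hg, hx⟩ := Finset.mem_biUnion.1 ha
    obtain ⟨x, -, rfl⟩ := Finset.mem_image.1 hx
    exact Ideal.subset_span ⟨g, Ideal.subset_span hg, (Finsupp.lapply x).comp s, rfl⟩
  · obtain ⟨b, hb, φ, rfl⟩ := ha
    induction hb using Submodule.span_induction generalizing φ with
    | mem g hg =>
      rw [← hs g, Finsupp.linearCombination_apply, Finsupp.sum, map_sum]
      refine Submodule.sum_mem _ fun x hx => ?_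
      rw [map_smul, smul_eq_mul]
      exact Ideal.mul_mem_right _ _ (Ideal.subset_span
        (Finset.mem_biUnion.2 ⟨g, hg, Finset.mem_image.2 ⟨x, hx, rfl⟩⟩))
    | zero => rw [map_zero]; exact zero_mem _
    | add x y _ _ h1 h2 => rw [map_add]; exact add_mem (h1 φ) (h2 φ)
    | smul c x _ h => exact h (φ.comp (LinearMap.mul A B c))

theorem exists_Spec_factor_iff {C : Type u} [CommRing C] (I : Ideal C) {R : CommRingCat.{u}}
    (φ : CommRingCat.of C ⟶ R) :
    (∃ s : Spec R ⟶ Spec (CommRingCat.of (C ⧸ I)),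
      s ≫ Spec.map (CommRingCat.ofHom (Ideal.Quotient.mk I)) = Spec.map φ) ↔ I ≤ RingHom.ker φ.hom := by
  constructor
  · rintro ⟨s, hs⟩ c hc
    obtain ⟨ψ, rfl⟩ := Spec.map_surjective s
    rw [← Spec.map_comp] at hs
    have := congrArg (fun f => f.hom c) (Spec.map_injective hs)
    simp only [CommRingCat.hom_comp, CommRingCat.hom_ofHom, RingHom.comp_apply] at this
    rw [Ideal.Quotient.eq_zero_iff_mem.2 hc, map_zero] at this
    exact this.symm
  · intro h
    refine ⟨Spec.map (CommRingCat.ofHom (Ideal.Quotient.lift I φ.hom h)), ?_⟩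
    rw [← Spec.map_comp]
    rfl

theorem exists_factor_of_cover {Z S T : Scheme.{u}} (c : Z ⟶ S) [Mono c] (t : T ⟶ S)
    (𝒰 : T.OpenCover) (h : ∀ i, ∃ s, s ≫ c = 𝒰.f i ≫ t) : ∃ s : T ⟶ Z, s ≫ c = t := by
  choose s hs using h
  refine ⟨𝒰.glueMorphisms s fun i j => ?_, 𝒰.hom_ext _ _ fun i => ?_⟩
  · rw [← cancel_mono c]
    simp only [Category.assoc, hs]
    exact pullback.condition_assoc t
  · rw [← Category.assoc, Scheme.Cover.ι_glueMorphisms]
    exact hs i

theorem isIso_snd_iff {Z S T : Scheme.{u}} (c : Z ⟶ S) [Mono c] (t : T ⟶ S) :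
    IsIso (pullback.snd c t) ↔ ∃ s : T ⟶ Z, s ≫ c = t := by
  constructor
  · intro h
    refine ⟨inv (pullback.snd c t) ≫ pullback.fst c t, ?_⟩
    rw [Category.assoc, pullback.condition, IsIso.inv_hom_id_assoc]
  · rintro ⟨s, hs⟩
    refine ⟨⟨pullback.lift s (𝟙 T) (by rw [hs, Category.id_comp]), ?_, pullback.lift_snd _ _ _⟩⟩
    rw [← cancel_mono (pullback.snd c t), Category.assoc, pullback.lift_snd, Category.comp_id,
      Category.id_comp]

set_option maxHeartbeats 800000 in
theorem spec_factor_iff [Module.Projective A B] (J : Ideal B) {R : CommRingCat.{u}}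
    (φ : CommRingCat.of A ⟶ R) :
    (∃ s : pullback (Spec.map (CommRingCat.ofHom (algebraMap A B))) (Spec.map φ) ⟶
        Spec (CommRingCat.of (B ⧸ J)),
      s ≫ Spec.map (CommRingCat.ofHom (Ideal.Quotient.mk J)) = pullback.fst _ _) ↔
      coeffIdeal A J ≤ RingHom.ker φ.hom := by
  algebraize [φ.hom]
  let e := pullbackSpecIso A B R
  have hfst : e.inv ≫ pullback.fst _ _ =
      Spec.map (CommRingCat.ofHom (Algebra.TensorProduct.includeLeftRingHom (R := A) (A := B) (B := R))) :=
    pullbackSpecIso_inv_fst A B R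
  refine Iff.trans ?_ (coeffIdeal_le_ker_iff J (R := R)).symm
  refine Iff.trans ?_ (exists_Spec_factor_iff J
    (CommRingCat.ofHom (Algebra.TensorProduct.includeLeftRingHom (R := A) (A := B) (B := R))))
  constructor
  · rintro ⟨s, hs⟩
    exact ⟨e.inv ≫ s, (Category.assoc _ _ _).trans ((congrArg (e.inv ≫ ·) hs).trans hfst)⟩
  · rintro ⟨s, hs⟩
    exact ⟨e.hom ≫ s, (Category.assoc _ _ _).trans ((congrArg (e.hom ≫ ·) hs).trans
      ((congrArg (e.hom ≫ ·) hfst).symm.trans (e.hom_inv_id_assoc _)))⟩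

/-- Weil restriction of `Spec (B/J)` along `A → B` is `Spec (A/I)`. -/
theorem exists_factor_iff [Module.Projective A B] (J : Ideal B) {T : Scheme.{u}}
    (t : T ⟶ Spec (CommRingCat.of A)) :
    (∃ s : pullback (Spec.map (CommRingCat.ofHom (algebraMap A B))) t ⟶ Spec (CommRingCat.of (B ⧸ J)),
      s ≫ Spec.map (CommRingCat.ofHom (Ideal.Quotient.mk J)) = pullback.fst _ _) ↔
    ∃ k : T ⟶ Spec (CommRingCat.of (A ⧸ coeffIdeal A J)),
      k ≫ Spec.map (CommRingCat.ofHom (Ideal.Quotient.mk (coeffIdeal A J))) = t := by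
  set b := Spec.map (CommRingCat.ofHom (algebraMap A B)) with hb
  constructor
  · rintro ⟨s, hs⟩
    haveI : IsClosedImmersion (Spec.map (CommRingCat.ofHom (Ideal.Quotient.mk (coeffIdeal A J)))) :=
      IsClosedImmersion.spec_of_surjective _ Ideal.Quotient.mk_surjective
    refine exists_factor_of_cover _ t T.affineCover fun i => ?_
    obtain ⟨φ, hφ⟩ := Spec.map_surjective (T.affineCover.f i ≫ t)
    obtain ⟨s', hs'⟩ := (exists_Spec_factor_iff (coeffIdeal A J) φ).2 ((spec_factor_iff J φ).1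
      ⟨pullback.map b (Spec.map φ) b t (𝟙 _) (T.affineCover.f i) (𝟙 _) (by simp)
        ((Category.comp_id _).trans hφ) ≫ s,
        (Category.assoc _ _ _).trans ((congrArg (_ ≫ ·) hs).trans
          ((pullback.lift_fst _ _ _).trans (Category.comp_id _)))⟩)
    exact ⟨s', hs'.trans hφ⟩
  · rintro ⟨k, hk⟩
    obtain ⟨s, hs⟩ := (spec_factor_iff J (CommRingCat.ofHom (Ideal.Quotient.mk (coeffIdeal A J)))).2
      (by rw [CommRingCat.hom_ofHom, Ideal.mk_ker])
    refine ⟨pullback.map b t b (Spec.map (CommRingCat.ofHom (Ideal.Quotient.mk (coeffIdeal A J))))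
      (𝟙 _) k (𝟙 _) (by simp) (by simp [hk]) ≫ s, ?_⟩
    rw [Category.assoc, hs, pullback.lift_fst, Category.comp_id]

end Groth.Agent.H8Norm
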