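import Groth.Agent.H8Norm.AssDims
import Groth.Agent.H17.AssPts
import Groth.Agent.H17.AssFlatSch
import Groth.Agent.LeadProper.Supp

/-!
# Torsion and torsion-free fibre modules (EGA IV 9.4.6)
-/

set_option autoImplicit false
set_option linter.style.haveILetI false
set_option backward.isDefEq.respectTransparency false
universe u

open CategoryTheory CategoryTheory.Limits AlgebraicGeometry Topology Set TopologicalSpace

namespace Groth.Agent.H8Norm.FibreTorsion

open H8Props.FieldDim H06EGA9 FibreComponentDims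

section Stalk

variable {Y : Scheme.{u}} {y : Y}

/-- An integral local ring has a generization specializing to all others. -/
theorem exists_least_generization [IsDomain (Y.presheaf.stalk y)] :
    ∃ g : Y, g ⤳ y ∧ ∀ z : Y, z ⤳ y → g ⤳ z := by
  let p₀ : Spec (Y.presheaf.stalk y) := ⟨⊥, Ideal.isPrime_bot⟩
  refine ⟨Y.fromSpecStalk y p₀, ?_, fun z hz => ?_⟩
  · have : Y.fromSpecStalk y p₀ ∈ range (Y.fromSpecStalk y) := mem_range_self _
    rwa [Scheme.range_fromSpecStalk] at this
  · obtain ⟨p, rfl⟩ : z ∈ range (Y.fromSpecStalk y) := by rw [Scheme.range_fromSpecStalk]; exact hz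
    exact ((PrimeSpectrum.le_iff_specializes p₀ p).1 (show (⊥ : Ideal _) ≤ _ from bot_le)).map
      (Y.fromSpecStalk y).continuous

/-- The integral local ring of a maximal point is a field. -/
theorem maximalIdeal_eq_bot [IsDomain (Y.presheaf.stalk y)] (hy : ∀ z : Y, z ⤳ y → z = y) :
    IsLocalRing.maximalIdeal (Y.presheaf.stalk y) = ⊥ := by
  let p₀ : Spec (Y.presheaf.stalk y) := ⟨⊥, Ideal.isPrime_bot⟩
  have h1 : Y.fromSpecStalk y p₀ = Y.fromSpecStalk y (IsLocalRing.closedPoint _) := by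
    rw [Scheme.fromSpecStalk_closedPoint]
    refine hy _ ?_
    have : Y.fromSpecStalk y p₀ ∈ range (Y.fromSpecStalk y) := mem_range_self _
    rwa [Scheme.range_fromSpecStalk] at this
  exact (congrArg PrimeSpectrum.asIdeal ((Y.fromSpecStalk y).isEmbedding.injective h1)).symm

theorem eq_of_maximalIdeal_eq_bot [IsDomain (Y.presheaf.stalk y)]
    (h : IsLocalRing.maximalIdeal (Y.presheaf.stalk y) = ⊥) {z : Y} (hz : z ⤳ y) : z = y := by
  obtain ⟨p, rfl⟩ : z ∈ range (Y.fromSpecStalk y) := by rw [Scheme.range_fromSpecStalk]; exact hz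
  have : p = IsLocalRing.closedPoint _ := PrimeSpectrum.ext
    (le_antisymm (IsLocalRing.le_maximalIdeal p.2.ne_top) (h.trans_le bot_le))
  rw [this, Scheme.fromSpecStalk_closedPoint]

variable (M : Y.Modules)

theorem germ_ne_zero_of_mem_basicOpen {V : Y.Opens} (hV : IsAffineOpen V) (hy : y ∈ V) {g : Y} (hg : g ⤳ y)
    {t : Γ(Y, V)} (ht : g ∈ Y.basicOpen t) : Y.presheaf.germ V y hy t ≠ 0 := by
  intro h
  obtain ⟨W, hyW, i, j, hW⟩ := Y.presheaf.germ_eq y hy hy _ _
    (h.trans (map_zero (Y.presheaf.germ V y hy).hom).symm)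
  have hgW : g ∈ W := hg.mem_open W.2 hyW
  have h1 : Y.presheaf.germ V g (hg.mem_open V.2 hy) t = 0 := by
    rw [← TopCat.Presheaf.germ_res_apply _ i g hgW, hW, map_zero, map_zero]
  have h2 := ((H17.AssPts.isUnit_germ_iff (hg.mem_open V.2 hy) t).2 ht)
  rw [h1] at h2
  exact not_isUnit_zero h2

/-- No embedded or non-maximal associated point near `y`: the stalk is torsion-free. -/
theorem torsion_eq_bot (hM : Coh.IsQCoh M) [IsDomain (Y.presheaf.stalk y)]
    (hdom : ∀ z : Y, IsDomain (Y.presheaf.stalk z))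
    (h : ∀ z ∈ AssSch.Ass M, z ⤳ y → ∀ w : Y, w ⤳ z → w = z) :
    Submodule.torsion (Y.presheaf.stalk y) (M.presheaf.stalk y) = ⊥ := by
  rw [eq_bot_iff]
  rintro m hm
  rw [Submodule.mem_torsion_iff] at hm
  obtain ⟨⟨a, ha⟩, ham⟩ := hm
  replace ham : a • m = 0 := ham
  by_contra hm0
  obtain ⟨V, hV, hyV, -⟩ := exists_isAffineOpen_mem_and_subset (U := (⊤ : Y.Opens)) (x := y) trivial
  obtain ⟨t, s, ht, hts⟩ := H17.AssPts.exists_smul_germ_eq M hM hV hyV m
  have hs : M.presheaf.germ V y hyV s ≠ 0 := fun h0 => hm0 (by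
    rw [h0] at hts
    exact ((H17.AssPts.isUnit_germ_iff hyV t).2 ht).smul_eq_zero.1 hts)
  obtain ⟨z, hzV, hz, hzy, hsz⟩ := H17.AssPts.exists_ass_specializes_of_germ M hM hV hyV hs
  letI := TopCat.Presheaf.algebra_section_stalk Y.presheaf ⟨y, hyV⟩
  haveI := hV.isLocalization_stalk ⟨y, hyV⟩
  obtain ⟨⟨r, v⟩, hrv⟩ := IsLocalization.surj (hV.primeIdealOf ⟨y, hyV⟩).asIdeal.primeCompl a
  replace hrv : a * Y.presheaf.germ V y hyV v.1 = Y.presheaf.germ V y hyV r := hrv
  have hv0 : Y.presheaf.germ V y hyV v.1 ≠ 0 := ((IsLocalization.map_units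
    (Y.presheaf.stalk y) v : IsUnit (Y.presheaf.germ V y hyV v.1))).ne_zero
  have hr0 : Y.presheaf.germ V y hyV r ≠ 0 := hrv ▸ mul_ne_zero (nonZeroDivisors.ne_zero ha) hv0
  have hrs : M.presheaf.germ V y hyV (r • s) = 0 := by
    rw [H17.AssPts.germ_smul', ← hrv, ← hts, smul_smul, mul_comm a, mul_assoc, mul_comm a, ← mul_assoc,
      mul_smul, ham, smul_zero]
  obtain ⟨t', ht', ht's⟩ := H17.AssPts.exists_smul_eq_zero_of_germ M hM hV hyV hrs
  have h1 : M.presheaf.germ V z hzV (r • s) = 0 :=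
    H17.AssPts.germ_eq_zero_of_smul M hzV (hzy.mem_open (Y.basicOpen t').2 ht') ht's
  rw [H17.AssPts.germ_smul'] at h1
  -- the germ of `r` at `z` is a unit
  have hrz : Y.presheaf.germ V z hzV r ≠ 0 := by
    intro h0
    apply hr0
    rw [← TopCat.Presheaf.germ_stalkSpecializes_apply _ hyV hzy r] at h0
    by_contra hne
    obtain ⟨W, hzW, i, j, hW⟩ := Y.presheaf.germ_eq z hzV hzV r 0 (by
      rw [map_zero, ← TopCat.Presheaf.germ_stalkSpecializes_apply _ hyV hzy r]; exact h0)
    obtain ⟨g, hgW, hzg⟩ := hV.exists_basicOpen_le (V := W) ⟨z, hzW⟩ hzV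
    have hg0 : Y.presheaf.map (homOfLE (Y.basicOpen_le g)).op r = 0 := by
      have := congrArg (Y.presheaf.map (homOfLE hgW).op) hW
      rw [← ConcreteCategory.comp_apply, ← Functor.map_comp, map_zero, map_zero] at this
      exact this
    haveI := hV.isLocalization_basicOpen g
    have hex : ∃ n : ℕ, g ^ n * r = 0 := by
      obtain ⟨⟨_, n, rfl⟩, hn⟩ := (IsLocalization.map_eq_zero_iff (Submonoid.powers g) Γ(Y, Y.basicOpen g) r).1 hg0
      exact ⟨n, hn⟩
    obtain ⟨n, hn⟩ := hex
    have h2 := congrArg (Y.presheaf.germ V y hyV) hn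
    rw [map_mul, map_zero, mul_eq_zero, or_iff_left hne, map_pow] at h2
    exact germ_ne_zero_of_mem_basicOpen hV hyV hzy hzg (pow_eq_zero_iff'.1 h2).1
  haveI := hdom z
  have hu : IsUnit (Y.presheaf.germ V z hzV r) := by
    by_contra hnu
    have hmem : Y.presheaf.germ V z hzV r ∈ IsLocalRing.maximalIdeal (Y.presheaf.stalk z) := hnu
    rw [maximalIdeal_eq_bot (h z hz hzy)] at hmem
    exact hrz hmem
  exact hsz (hu.smul_eq_zero.1 h1)

/-- A non-maximal associated point produces torsion. -/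
theorem torsion_ne_bot [IsDomain (Y.presheaf.stalk y)] (hy : y ∈ AssSch.Ass M) {w : Y} (hw : w ⤳ y)
    (hne : w ≠ y) : Submodule.torsion (Y.presheaf.stalk y) (M.presheaf.stalk y) ≠ ⊥ := by
  obtain ⟨-, e, he⟩ := hy
  obtain ⟨a, ha, ha0⟩ := Submodule.exists_mem_ne_zero_of_ne_bot
    (show IsLocalRing.maximalIdeal (Y.presheaf.stalk y) ≠ ⊥ from fun h => hne (eq_of_maximalIdeal_eq_bot h hw))
  rw [he] at ha
  obtain ⟨n, hn⟩ := ha
  rw [Submodule.mem_colon_singleton, Submodule.mem_bot] at hn
  intro hbot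
  have he0 : e = 0 := by
    rw [← Submodule.mem_bot (R := Y.presheaf.stalk y), ← hbot, Submodule.mem_torsion_iff]
    exact ⟨⟨a ^ n, mem_nonZeroDivisors_of_ne_zero (pow_ne_zero n ha0)⟩, hn⟩
  subst he0
  exact (IsLocalRing.maximalIdeal.isMaximal (Y.presheaf.stalk y)).ne_top
    (he.trans (Ideal.radical_eq_top.2 (by ext; simp [Submodule.mem_colon_singleton])))

/-- The stalk is torsion if the module vanishes at a generization specializing to all others. -/
theorem torsion_eq_top (hM : Coh.IsQCoh M) [IsDomain (Y.presheaf.stalk y)] {g : Y} (hg : g ⤳ y)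
    (h : g ∉ CohB1.support M) :
    Submodule.torsion (Y.presheaf.stalk y) (M.presheaf.stalk y) = ⊤ := by
  haveI : Subsingleton (M.presheaf.stalk g) := not_not.1 h
  rw [eq_top_iff]
  rintro m -
  obtain ⟨V, hV, hyV, -⟩ := exists_isAffineOpen_mem_and_subset (U := (⊤ : Y.Opens)) (x := y) trivial
  obtain ⟨t, s, ht, hts⟩ := H17.AssPts.exists_smul_germ_eq M hM hV hyV m
  obtain ⟨t', ht', ht's⟩ := H17.AssPts.exists_smul_eq_zero_of_germ M hM hV (hg.mem_open V.2 hyV) (s := s)
    (Subsingleton.elim _ _)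
  rw [Submodule.mem_torsion_iff]
  refine ⟨⟨Y.presheaf.germ V y hyV t' * Y.presheaf.germ V y hyV t, mem_nonZeroDivisors_of_ne_zero
    (mul_ne_zero (germ_ne_zero_of_mem_basicOpen hV hyV hg ht') ((H17.AssPts.isUnit_germ_iff hyV t).2 ht).ne_zero)⟩, ?_⟩
  show (Y.presheaf.germ V y hyV t' * Y.presheaf.germ V y hyV t) • m = 0
  rw [mul_smul, hts, ← H17.AssPts.germ_smul', ht's, map_zero]

/-- A nonzero stalk at a maximal point is not torsion. -/
theorem torsion_ne_top [IsDomain (Y.presheaf.stalk y)] (hy : ∀ z : Y, z ⤳ y → z = y)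
    (h : y ∈ CohB1.support M) : Submodule.torsion (Y.presheaf.stalk y) (M.presheaf.stalk y) ≠ ⊤ := by
  intro htop
  refine h ⟨fun a b => ?_⟩
  suffices hz : ∀ m : M.presheaf.stalk y, m = 0 by rw [hz a, hz b]
  intro m
  obtain ⟨⟨r, hr⟩, hrm⟩ := (Submodule.mem_torsion_iff m).1 (htop ▸ Submodule.mem_top)
  have hu : IsUnit r := by
    by_contra hnu
    have hmem : r ∈ IsLocalRing.maximalIdeal (Y.presheaf.stalk y) := hnu
    rw [maximalIdeal_eq_bot hy] at hmem
    exact nonZeroDivisors.ne_zero hr hmem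
  exact hu.smul_eq_zero.1 hrm

end Stalk

variable {X S : Scheme.{u}} (f : X ⟶ S) [LocallyOfFiniteType f]

theorem localDim_eq_cdim {s : S} {u g : f.fiber s} (hg : g ⤳ u) (hleast : ∀ z, z ⤳ u → g ⤳ z) :
    FlatMor.fibreDimAt f (f.fiberι s u) = cdim g := by
  haveI := locallyOfFiniteType_fiberToSpec f s
  rw [fibreDimAt_eq_localDim, localDim_eq (f.fiberToSpecResidueField s)]
  exact le_antisymm (iSup_le fun η => dim_mono (closure_minimal
    (singleton_subset_iff.mpr (hleast η.1 η.2).mem_closure) isClosed_closure))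
    (le_iSup (fun η : {η // η ⤳ u} => cdim η.1) ⟨g, hg⟩)

theorem isLocallyConstructible_forall_notMem [LocallyOfFinitePresentation f] [QuasiCompact f]
    (B : ℕ → Set X) (hB : ∀ d, IsLocallyConstructible (B d)) :
    IsLocallyConstructible {s : S | ∀ x : X, f x = s → ∀ d : ℕ, FlatMor.fibreDimAt f x = (d : ℕ) → x ∉ B d} := by
  refine isLocallyConstructible_of_charts fun x => ?_
  obtain ⟨U, hU, hxU, -⟩ := exists_isAffineOpen_mem_and_subset (U := (⊤ : S.Opens)) (x := x) trivial
  refine ⟨_, hU.fromSpec, inferInstance, hU.range_fromSpec.ge hxU, ?_⟩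
  obtain ⟨N, hN⟩ := exists_bound f hU.isCompact U.2
  let E : Fin (N + 1) → Set X := fun d =>
    B d ∩ ({x | FlatMor.fibreDimAt f x ≤ ((d : ℕ) : WithBot ℕ∞)} ∩
      {x | FlatMor.fibreDimAt f x ≤ below d}ᶜ)
  have hE : ∀ d, IsLocallyConstructible (E d) := fun d =>
    (hB d).inter ((H06EGA15.isLocallyConstructible_fibreDimAt_le f _).inter
      (FibreComponentDims.isLocallyConstructible_compl (H06EGA15.isLocallyConstructible_fibreDimAt_le f _)))
  have hnat : ∀ y : X, f y ∈ U → ∃ d ≤ N, FlatMor.fibreDimAt f y = (d : ℕ) := by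
    intro y hy
    haveI := locallyOfFiniteType_fiberToSpec f (f y)
    obtain ⟨n, hn⟩ := H7Flat.exists_nat_fibreDimAt f y
    have hle : FlatMor.fibreDimAt f y ≤ (N : ℕ) := by
      rw [← f.fiberι_asFiber y, fibreDimAt_eq_localDim, localDim_eq (f.fiberToSpecResidueField (f y))]
      refine iSup_le fun η => ?_
      obtain ⟨k, hk, hk'⟩ := hN (f y) hy η.1
      exact hk' ▸ Nat.cast_le.2 hk
    have hge : ((0 : ℕ) : WithBot ℕ∞) ≤ FlatMor.fibreDimAt f y := by
      obtain ⟨c, hc⟩ := exists_nat_cdim (f.fiberToSpecResidueField (f y)) (f.asFiber y)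
      exact le_trans (Nat.cast_le.2 (Nat.zero_le c)) (hc ▸ H8Props.FunDescent.cdim_le_fibreDimAt f y)
    clear hn
    generalize FlatMor.fibreDimAt f y = v at hle hge ⊢
    obtain ⟨w, rfl⟩ := WithBot.ne_bot_iff_exists.1 (ne_bot_of_le_ne_bot (by simp) hge)
    obtain ⟨m, rfl⟩ := ENat.ne_top_iff_exists.1 (show w ≠ ⊤ from fun h => by
      subst h
      exact absurd (WithBot.coe_le_coe.1 hle) (by simp))
    exact ⟨m, by exact_mod_cast hle, rfl⟩
  have heq : hU.fromSpec ⁻¹' {s : S | ∀ x : X, f x = s → ∀ d : ℕ, FlatMor.fibreDimAt f x = (d : ℕ) → x ∉ B d} =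
      ⋂ d : Fin (N + 1), hU.fromSpec ⁻¹' (f '' E d)ᶜ := by
    ext w
    simp only [mem_iInter, mem_preimage, mem_compl_iff, mem_ofPred_eq]
    constructor
    · rintro h d ⟨y, ⟨hyB, hy1, hy2⟩, hyw⟩
      obtain ⟨m, -, hm⟩ := hnat y (show f y ∈ U by rw [show f y = hU.fromSpec w from hyw]; exact hU.range_fromSpec.subset (mem_range_self w))
      simp only [mem_ofPred_eq, mem_compl_iff, hm, Nat.cast_le, not_le, below_lt_iff] at hy1 hy2
      exact h y hyw m hm (le_antisymm hy1 hy2 ▸ hyB)
    · intro h y hyw d hd hyB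
      obtain ⟨m, hm, hm'⟩ := hnat y (show f y ∈ U by rw [show f y = hU.fromSpec w from hyw]; exact hU.range_fromSpec.subset (mem_range_self w))
      have hdm : d = m := by exact_mod_cast hd.symm.trans hm'
      refine h ⟨d, by omega⟩ ⟨y, ⟨hyB, ?_, ?_⟩, hyw⟩
      · exact hd.le
      · simp only [mem_ofPred_eq, mem_compl_iff, hd, not_le, below_lt_iff, le_refl]
  rw [heq]
  exact (IsLocallyConstructible.iInter fun d => H7Lim.isLocallyConstructible_preimage
    (FibreComponentDims.isLocallyConstructible_compl (f.isLocallyConstructible_image (hE d))) _).isConstructible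

variable (F : X.Modules) [LocallyOfFinitePresentation f] [QuasiCompact f]

theorem isLocallyConstructible_torsion (hF : CohB1.IsFP F)
    (hint : ∀ (s : S) (x : ↥(f.fiber s)), IsDomain ((f.fiber s).presheaf.stalk x))
    (hsupp : IsLocallyConstructible (CohB1.support F)) :
    IsLocallyConstructible {s : S | ∀ x : ↥(f.fiber s),
      Submodule.torsion ((f.fiber s).presheaf.stalk x) (((Scheme.Modules.pullback (f.fiberι s)).obj F).presheaf.stalk x) = ⊤} := by
  have hq : Coh.IsQCoh F := H29Fitt.isQCoh_of_isFP F hF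
  have hft : CohB1.IsFT F := H29Fitt.isFT_of_isFP F hF
  have heq : {s : S | ∀ x : ↥(f.fiber s),
      Submodule.torsion ((f.fiber s).presheaf.stalk x) (((Scheme.Modules.pullback (f.fiberι s)).obj F).presheaf.stalk x) = ⊤} =
      {s : S | ∀ x : X, f x = s → ∀ d : ℕ, FlatMor.fibreDimAt f x = (d : ℕ) →
        x ∉ genDim f (CohB1.support F) (below d)} := by
    ext s
    haveI := locallyOfFiniteType_fiberToSpec f s
    constructor
    · rintro h x rfl d hd ⟨z, hz, hzx, hsp, hlt⟩
      obtain ⟨v, rfl⟩ : z ∈ range (f.fiberι (f x)) := (f.range_fiberι _).ge hzx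
      haveI := hint (f x) (f.asFiber x)
      haveI := hint (f x) v
      obtain ⟨g, hg, hleast⟩ := exists_least_generization (y := f.asFiber x)
      have hvx : v ⤳ f.asFiber x := (f.fiberι (f x)).isEmbedding.isInducing.specializes_iff.mp
        (by rwa [f.fiberι_asFiber])
      have hdg := localDim_eq_cdim f hg hleast
      rw [f.fiberι_asFiber, hd] at hdg
      have hgv : g = v := by
        by_contra hne
        have h1 := cdim_lt (f.fiberToSpecResidueField (f x)) (hleast v hvx) hne
        obtain ⟨c, hc⟩ := exists_nat_cdim (f.fiberToSpecResidueField (f x)) v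
        rw [fdim_fiberι, hc, below_lt_iff] at hlt
        rw [← hdg, hc, Nat.cast_lt] at h1
        omega
      refine torsion_ne_top _ (fun w hw => ?_) ?_ (h v)
      · exact (hw.antisymm (hgv ▸ hleast w (hw.trans hvx))).eq
      · rw [LeadProper.support_pullback F hq hft]
        exact hz
    · intro h u
      haveI := hint s u
      obtain ⟨g, hg, hleast⟩ := exists_least_generization (y := u)
      refine torsion_eq_top _ (H29Fitt.isQCoh_pullback _ F hq) hg fun hgs => ?_
      rw [LeadProper.support_pullback F hq hft] at hgs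
      obtain ⟨c, hc⟩ := exists_nat_cdim (f.fiberToSpecResidueField s) g
      have hgd := localDim_eq_cdim f (u := g) (g := g) specializes_rfl
        (fun z hz => hleast z (hz.trans hg))
      exact h (f.fiberι s g) ((f.range_fiberι s).subset (mem_range_self g)) c (hgd.trans hc)
        ⟨_, hgs, rfl, specializes_rfl, by rw [fdim_fiberι, hc]; exact (below_lt_iff c c).2 le_rfl⟩
  rw [heq]
  exact isLocallyConstructible_forall_notMem f _ fun d => isLocallyConstructible_genDim f hsupp _

theorem isLocallyConstructible_torsionFree (hF : CohB1.IsFP F)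
    (hint : ∀ (s : S) (x : ↥(f.fiber s)), IsDomain ((f.fiber s).presheaf.stalk x)) :
    IsLocallyConstructible {s : S | ∀ x : ↥(f.fiber s),
      Submodule.torsion ((f.fiber s).presheaf.stalk x) (((Scheme.Modules.pullback (f.fiberι s)).obj F).presheaf.stalk x) = ⊥} := by
  classical
  have hq : Coh.IsQCoh F := H29Fitt.isQCoh_of_isFP F hF
  have heq : {s : S | ∀ x : ↥(f.fiber s),
      Submodule.torsion ((f.fiber s).presheaf.stalk x) (((Scheme.Modules.pullback (f.fiberι s)).obj F).presheaf.stalk x) = ⊥} =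
      {s : S | ∀ x : X, f x = s → ∀ d : ℕ, FlatMor.fibreDimAt f x = (d : ℕ) →
        x ∉ {x : X | H06EGA12.OnFibreDim f F (AssDims.AssDimIn {d}) (f.asFiber x)}ᶜ} := by
    ext s
    haveI := locallyOfFiniteType_fiberToSpec f s
    constructor
    · rintro h x rfl d hd hx
      apply hx
      show H06EGA12.OnFibreDim f F (AssDims.AssDimIn {d}) (f.asFiber x)
      rw [AssDims.onFibreDim_assDimIn_iff hF]
      intro v hv hvx
      haveI := hint (f x) (f.asFiber x)
      haveI := hint (f x) v
      obtain ⟨g, hg, hleast⟩ := exists_least_generization (y := f.asFiber x)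
      have hgv : g = v := by
        by_contra hne
        exact torsion_ne_bot _ hv (hleast v hvx) hne (h v)
      subst hgv
      have hdg := localDim_eq_cdim f hg hleast
      rw [f.fiberι_asFiber, hd] at hdg
      exact ⟨d, Finset.mem_singleton_self d, hdg.symm⟩
    · intro h u
      haveI := hint s u
      refine torsion_eq_bot _ (H29Fitt.isQCoh_pullback _ F hq) (hint s) fun z hz hzu w hwz => ?_
      haveI := hint s z
      obtain ⟨g, hg, hleast⟩ := exists_least_generization (y := z)
      obtain ⟨c, hc⟩ := exists_nat_cdim (f.fiberToSpecResidueField s) g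
      have hfd := (localDim_eq_cdim f hg hleast).trans hc
      have h1 := not_not.1 (h (f.fiberι s z) ((f.range_fiberι s).subset (mem_range_self z)) c hfd)
      have h2 := (H06EGA12.property_iff_asFiber (fun _ v => H06EGA12.OnFibreDim f F (AssDims.AssDimIn {c}) v) z _ rfl).2 h1
      obtain ⟨n, hn, hdim⟩ := (AssDims.onFibreDim_assDimIn_iff hF _ z).1 h2 z hz specializes_rfl
      rw [Finset.mem_singleton] at hn
      subst hn
      have hgz : g = z := by
        by_contra hne
        have h3 := cdim_lt (f.fiberToSpecResidueField s) hg hne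
        rw [hc, show cdim z = _ from hdim] at h3
        exact lt_irrefl _ h3
      exact (hwz.antisymm (hgz ▸ hleast w hwz)).eq
  rw [heq]
  exact isLocallyConstructible_forall_notMem f _ fun d => FibreComponentDims.isLocallyConstructible_compl
    (H06EGA12.isLocallyConstructible_onFibreDim f F hF (AssDims.semilinearInvariant_assDimIn _)
      (AssDims.affineOpenDim_assDimIn _))

end Groth.Agent.H8Norm.FibreTorsion
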