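import Groth.Agent.H8Norm.TorDescent
import Groth.Agent.H4DR.TorAmp.Fibrewise
import Groth.Agent.H16Derived.TorTest.FlatDescent
import Groth.Agent.H16Derived.QCohD.Lpull
import Groth.Agent.H16Derived.KFlat.PerfCohSingle
import Mathlib.RingTheory.Finiteness.FinitePresentationLocal

/-!
# Flatness in degree zero descends along surjective morphisms of finite presentation
-/

set_option autoImplicit false
set_option linter.style.haveILetI false
set_option backward.isDefEq.respectTransparency false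
set_option maxHeartbeats 1000000
set_option synthInstance.maxHeartbeats 400000

universe u

open CategoryTheory CategoryTheory.Limits MonoidalCategory AlgebraicGeometry
open scoped TensorProduct
open Groth.Agent.H4DR.TorAmp
open Groth.Agent.H16Derived Groth.Agent.H16Derived.KFlat Groth.Agent.H16Derived.KFlat.Stalk

attribute [local instance] HasDerivedCategory.standard

namespace Groth.Agent.H8Norm.TorDescent

section Ring

variable {A : Type u} [CommRing A]

/-- A module over the target, restricted. -/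
noncomputable def restrictOfIso {B : Type u} [CommRing B] [Algebra A B] (V : Type u) [AddCommGroup V]
    [Module A V] [Module B V] [IsScalarTower A B V] :
    (ModuleCat.restrictScalars.{u} (algebraMap A B)).obj (ModuleCat.of B V) ≅ ModuleCat.of A V :=
  @LinearEquiv.toModuleIso A _ ((ModuleCat.restrictScalars.{u} (algebraMap A B)).obj (ModuleCat.of B V))
    (ModuleCat.of A V) inferInstance inferInstance
    ((ModuleCat.restrictScalars.{u} (algebraMap A B)).obj (ModuleCat.of B V)).isModule (ModuleCat.of A V).isModule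
    { toFun := fun x => x
      invFun := fun x => x
      map_add' := fun _ _ => rfl
      map_smul' := fun r x => algebraMap_smul B r (show V from x)
      left_inv := fun _ => rfl
      right_inv := fun _ => rfl }

/-- Tor amplitude of a base change gives exactness on the modules of the target. -/
theorem ex_of_ta {B : Type u} [CommRing B] [Algebra A B] {P : DRing.Cx A}
    (hK : KFlat.IsKFlat (Groth.Agent.H4DR.KFlatMod.bi A) P)
    (h : DRing.HasTorAmplitudeIn B 0 0 (DRing.toD
      (((ModuleCat.extendScalars.{u, u, u} (algebraMap A B)).mapHomologicalComplex (ComplexShape.up ℤ)).obj P)))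
    (V : Type u) [AddCommGroup V] [Module A V] [Module B V] [IsScalarTower A B V] : Ex P V := fun i hi =>
  ((exactAt_tens_restrict_iff (algebraMap A B) P (ModuleCat.of B V) i).1
    (exactAt_tens_of_ta (H25DTen.isKFlat_extCx (algebraMap A B) hK) h (ModuleCat.of B V) (Or.inl hi))).of_iso
    ((NatIso.mapHomologicalComplex ((curriedTensor (ModuleCat.{u} A)).flip.mapIso (restrictOfIso V))
      (ComplexShape.up ℤ)).app P)

theorem flat_evalRingHom {ι : Type u} (R : ι → Type u) [∀ k, CommRing (R k)] (k : ι) :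
    (Pi.evalRingHom R k).Flat := by
  classical
  letI := (Pi.evalRingHom R k).toAlgebra
  haveI : IsLocalization.Away (Pi.single k 1 : ∀ j, R j) (R k) :=
    IsLocalization.away_of_isIdempotentElem (by simp [IsIdempotentElem, ← Pi.single_mul_left])
      (RingHom.ker_evalRingHom _ _) (Pi.evalRingHom R k).surjective
  exact RingHom.flat_algebraMap_iff.2
    (IsLocalization.flat (R k) (Submonoid.powers (Pi.single k 1 : ∀ j, R j)))

theorem single_smul_eq_zero {ι : Type u} [DecidableEq ι] (R : ι → Type u) [∀ k, CommRing (R k)] (k : ι)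
    {N : Type u} [AddCommGroup N] [Module (∀ j, R j) N]
    (hN : letI := (Pi.evalRingHom R k).toAlgebra; Subsingleton (R k ⊗[∀ j, R j] N)) (x : N) :
    (Pi.single k 1 : ∀ j, R j) • x = 0 := by
  letI := (Pi.evalRingHom R k).toAlgebra
  let l : R k →ₗ[∀ j, R j] N →ₗ[∀ j, R j] N :=
    LinearMap.mk₂ (∀ j, R j) (fun r y => (Pi.single k r : ∀ j, R j) • y)
      (fun r r' y => by rw [Pi.single_add, add_smul])
      (fun f r y => by
        rw [← mul_smul]
        congr 1
        funext j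
        by_cases hj : j = k
        · subst hj; simp [Algebra.smul_def, RingHom.algebraMap_toAlgebra]
        · simp [hj])
      (fun r y y' => smul_add _ _ _) (fun f r y => smul_comm _ _ _)
  have h0 : TensorProduct.lift l ((1 : R k) ⊗ₜ x) = 0 := by
    rw [Subsingleton.elim ((1 : R k) ⊗ₜ[∀ j, R j] x) 0, map_zero]
  rwa [TensorProduct.lift.tmul] at h0

theorem isZero_of_forall_eval {ι : Type u} [Finite ι] (R : ι → Type u) [∀ k, CommRing (R k)]
    (N : ModuleCat.{u} (∀ j, R j))
    (hN : ∀ k, IsZero ((ModuleCat.extendScalars.{u, u, u} (Pi.evalRingHom R k)).obj N)) : IsZero N := by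
  classical
  haveI := Fintype.ofFinite ι
  rw [ModuleCat.isZero_iff_subsingleton]
  refine subsingleton_of_forall_eq 0 fun x => ?_
  rw [← one_smul (∀ j, R j) x, ← Finset.univ_sum_single (1 : ∀ j, R j), Finset.sum_smul]
  exact Finset.sum_eq_zero fun k _ => single_smul_eq_zero R k (ModuleCat.subsingleton_of_isZero (hN k)) x

/-- Flatness in degree zero descends along finitely many finitely presented algebras whose spectra
cover. -/
theorem ta_of_cover {ι : Type u} [Finite ι] (R : ι → Type u) [∀ k, CommRing (R k)] [∀ k, Algebra A (R k)]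
    [∀ k, Algebra.FinitePresentation A (R k)]
    (hsurj : ∀ p : PrimeSpectrum A, ∃ (k : ι) (q : PrimeSpectrum (R k)), q.comap (algebraMap A (R k)) = p)
    [∀ k, DRing.HasLBaseChange (algebraMap A (R k))] {K : Dual.D A}
    (hK : ∀ i : ℤ, 0 < i → Subsingleton (Dual.HD A K i))
    (h : ∀ k, DRing.HasTorAmplitudeIn (R k) 0 0 ((DRing.LBaseChange (algebraMap A (R k))).obj K)) :
    DRing.HasTorAmplitudeIn A 0 0 K := by
  obtain ⟨P, hP, ⟨e⟩⟩ := exists_projRep hK
  have hKF := isKFlat_of_flat hP.above hP.flat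
  let φ := algebraMap A (∀ k, R k)
  have hB : DRing.HasTorAmplitudeIn (∀ k, R k) 0 0
      (DRing.toD (((ModuleCat.extendScalars.{u, u, u} φ).mapHomologicalComplex (ComplexShape.up ℤ)).obj P)) := by
    exact ta_descent R (fun k => Pi.evalRingHom R k) (flat_evalRingHom R)
      (isZero_of_forall_eval R) _ 0 0 fun k =>
        ta_of_iso (DerivedCategory.Q.mapIso (extCompIso φ (Pi.evalRingHom R k) P))
          (ta_of_iso (((DRing.LBaseChange (algebraMap A (R k))).mapIso e).symm ≪≫
            lbaseObj (algebraMap A (R k)) P hKF) (h k))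
  refine ta_of_tv (tv_of_rep hP.above hP.flat e fun N i hi => ?_)
  rcases hi with hi | hi
  · exact ex_of_finitePresentation (B := ∀ k, R k) (fun p => by
      obtain ⟨k, q, rfl⟩ := hsurj p
      exact ⟨q.comap (Pi.evalRingHom R k), rfl⟩) hP.flat (fun V _ _ _ _ => ex_of_ta hKF hB V) N i hi
  · exact (HomologicalComplex.exactAt_iff _ _).2 (ShortComplex.exact_of_isZero_X₂ (((tens N).obj P).sc i)
      ((tensorRight N).map_isZero (hP.above i hi)))

end Ring

section Scheme

variable {X S : Scheme.{u}}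

/-- A flat module in degree zero has flat amplitude `[0, 0]`. -/
theorem hasFlatAmplitudeIn_inD {F : X.Modules} (hF : FlatMod.IsFlat F) :
    DCoh.HasFlatAmplitudeIn 0 0 (DCoh.inD X F) := by
  refine ⟨(CochainComplex.singleFunctor X.Modules 0).obj F,
    fun i hi => HomologicalComplex.isZero_single_obj_X _ _ _ _ (by omega), fun i => ?_, ⟨(inDIsoQ F).symm⟩⟩
  by_cases hi : i = 0
  · subst hi
    exact isFlat_of_retract (HomologicalComplex.singleObjXSelf (ComplexShape.up ℤ) 0 F).hom
      (HomologicalComplex.singleObjXSelf (ComplexShape.up ℤ) 0 F).inv (Iso.hom_inv_id _) hF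
  · exact isFlat_of_isZero (HomologicalComplex.isZero_single_obj_X _ _ _ _ hi)

/-- An object of flat amplitude `[0, 0]` is a flat module in degree zero. -/
theorem exists_flat_of_amplitude_zero {M : DCoh.D X} (h : DCoh.HasFlatAmplitudeIn 0 0 M) :
    ∃ G : X.Modules, FlatMod.IsFlat G ∧ Nonempty (M ≅ DCoh.inD X G) := by
  obtain ⟨E, hE, hf, ⟨e⟩⟩ := h
  haveI : E.IsStrictlyGE 0 := (CochainComplex.isStrictlyGE_iff E 0).2 fun i hi => hE i (Or.inl hi)
  haveI : E.IsStrictlyLE 0 := (CochainComplex.isStrictlyLE_iff E 0).2 fun i hi => hE i (Or.inr hi)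
  obtain ⟨G, ⟨g⟩⟩ := CochainComplex.exists_iso_single E 0
  let eG : E.X 0 ≅ G := (HomologicalComplex.eval X.Modules (ComplexShape.up ℤ) 0).mapIso g ≪≫
    HomologicalComplex.singleObjXSelf (ComplexShape.up ℤ) 0 G
  exact ⟨G, isFlat_of_retract eG.inv eG.hom eG.inv_hom_id (hf 0),
    ⟨(inDIsoQ G ≪≫ DerivedCategory.Q.mapIso g.symm ≪≫ e).symm⟩⟩

/-- On charts, the base change of the model of `M` has tor amplitude `[0, 0]`. -/
theorem ta_chart (f : X ⟶ S) [DCoh.HasLpull f] {M : DCoh.D S} {F : X.Modules} (hF : FlatMod.IsFlat F)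
    (e : (DCoh.Lpull f).obj M ≅ DCoh.inD X F) {V : S.Opens} (hV : IsAffineOpen V) {U : X.Opens}
    (hU : IsAffineOpen U) (hle : U ≤ f ⁻¹ᵁ V) {K : Dual.D Γ(S, V)}
    (eK : (DCoh.tildeD (CommRingCat.of Γ(S, V))).obj K ≅ (rd hV.fromSpec).obj M)
    [DRing.HasLBaseChange (f.appLE V U hle).hom] :
    DRing.HasTorAmplitudeIn Γ(X, U) 0 0 ((DRing.LBaseChange (f.appLE V U hle).hom).obj K) := by
  haveI := hasLpull (Spec.map (f.appLE V U hle))
  haveI := hasLpull (Spec.map (CommRingCat.ofHom (f.appLE V U hle).hom))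
  obtain ⟨i⟩ := QCohD.lpull_factor f hU.fromSpec (Spec.map (f.appLE V U hle)) hV.fromSpec
    (IsAffineOpen.SpecMap_appLE_fromSpec f hV hU hle) M
  obtain ⟨E, hv, hf, ⟨eE⟩⟩ := hasFlatAmplitudeIn_inD (isFlat_restrictFunctor hU.fromSpec hF)
  refine (TorTest.hasFlatAmplitudeIn_tildeD_iff ((DRing.LBaseChange (f.appLE V U hle).hom).obj K) 0 0).1
    ⟨E, hv, hf, ⟨eE ≪≫ (rdInD hU.fromSpec F).symm ≪≫ (rd hU.fromSpec).mapIso e.symm ≪≫ i ≪≫
      (DCoh.Lpull (Spec.map (f.appLE V U hle))).mapIso eK.symm ≪≫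
      ((QCohD.lpullTildeIso (f.appLE V U hle).hom).app K).symm⟩⟩

/-- Finitely many affine charts over an affine open. -/
theorem exists_charts (f : X ⟶ S) [QuasiCompact f] {V : S.Opens} (hV : IsAffineOpen V) :
    ∃ (ι : Type u) (_ : Finite ι) (U : ι → X.Opens), (∀ k, IsAffineOpen (U k)) ∧ (∀ k, U k ≤ f ⁻¹ᵁ V) ∧
      ∀ x, f x ∈ V → ∃ k, x ∈ U k := by
  have hc : IsCompact ((f ⁻¹ᵁ V : X.Opens) : Set X) := f.isCompact_preimage hV.isCompact
  obtain ⟨s, hs, hfin, he⟩ := X.isBasis_affineOpens.exists_finite_of_isCompact hc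
  haveI := hfin.to_subtype
  refine ⟨s, inferInstance, fun k => k.1, fun k => hs k.2, fun k => he ▸ le_sSup k.2, fun x hx => ?_⟩
  have hx' : x ∈ f ⁻¹ᵁ V := hx
  rw [he, TopologicalSpace.Opens.mem_sSup] at hx'
  obtain ⟨W, hW, hxW⟩ := hx'
  exact ⟨⟨W, hW⟩, hxW⟩

/-- The model of `M` over an affine open has tor amplitude `[0, 0]`. -/
theorem ta_model (f : X ⟶ S) [Surjective f] [LocallyOfFinitePresentation f] [QuasiCompact f]
    [DCoh.HasLpull f] {M : DCoh.D S} (hpos : ∀ i : ℤ, 0 < i → IsZero (DCoh.HD M i))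
    {F : X.Modules} (hF : FlatMod.IsFlat F) (e : (DCoh.Lpull f).obj M ≅ DCoh.inD X F) {V : S.Opens}
    (hV : IsAffineOpen V) {K : Dual.D Γ(S, V)}
    (eK : (DCoh.tildeD (CommRingCat.of Γ(S, V))).obj K ≅ (rd hV.fromSpec).obj M) :
    DRing.HasTorAmplitudeIn Γ(S, V) 0 0 K := by
  obtain ⟨ι, _, U, hU, hle, hcov⟩ := exists_charts f hV
  letI : ∀ k, Algebra Γ(S, V) Γ(X, U k) := fun k => (f.appLE V (U k) (hle k)).hom.toAlgebra
  haveI : ∀ k, Algebra.FinitePresentation Γ(S, V) Γ(X, U k) := fun k =>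
    f.finitePresentation_appLE hV (hU k) (hle k)
  haveI : ∀ k, DRing.HasLBaseChange (algebraMap Γ(S, V) Γ(X, U k)) := fun k => hasLBaseChange _
  refine ta_of_cover (fun k => (Γ(X, U k) : Type u)) (fun p => ?_) (fun i hi => ?_) fun k => ?_
  · obtain ⟨x, hx⟩ := Surjective.surj (f := f) (hV.fromSpec p)
    have hxV : f x ∈ V := by
      rw [hx, ← SetLike.mem_coe, ← hV.range_fromSpec]
      exact Set.mem_range_self p
    obtain ⟨k, hk⟩ := hcov x hxV
    obtain ⟨q, hq⟩ : x ∈ Set.range (hU k).fromSpec := by rw [(hU k).range_fromSpec]; exact hk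
    refine ⟨k, q, hV.fromSpec.isOpenEmbedding.injective ?_⟩
    rw [← hx, ← hq]
    exact congr($(IsAffineOpen.SpecMap_appLE_fromSpec f hV (hU k) (hle k)) q)
  · refine ModuleCat.subsingleton_of_isZero (isZero_of_isZero_tilde (IsZero.of_iso ?_ (hdTilde K i).symm))
    exact (((Scheme.Modules.restrictFunctor hV.fromSpec).map_isZero (hpos i hi)).of_iso
      (homologyRdIso hV.fromSpec M i)).of_iso ((DerivedCategory.homologyFunctor _ i).mapIso eK)
  · haveI : DRing.HasLBaseChange (f.appLE V (U k) (hle k)).hom := hasLBaseChange _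
    exact ta_chart f hF e hV (hU k) (hle k) eK

/-- Flat amplitude `[0, 0]` descends. -/
theorem hasFlatAmplitudeIn_descend_lfp (f : X ⟶ S) [Surjective f] [LocallyOfFinitePresentation f]
    [QuasiCompact f] [DCoh.HasLpull f] {M : DCoh.D S} (hM : DCoh.IsQCohD M)
    (hpos : ∀ i : ℤ, 0 < i → IsZero (DCoh.HD M i)) {F : X.Modules} (hF : FlatMod.IsFlat F)
    (e : (DCoh.Lpull f).obj M ≅ DCoh.inD X F) : DCoh.HasFlatAmplitudeIn 0 0 M := by
  obtain ⟨P, -, ⟨eP⟩⟩ := exists_kflat_rep M
  have hY : DerSch.HasTorAmplitude (𝟙 S) 0 0 P := fun y => by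
    obtain ⟨_, ⟨V, hV : IsAffineOpen V, rfl⟩, hyV, -⟩ :=
      S.isBasis_affineOpens.exists_subset_of_mem_open (Set.mem_univ y) isOpen_univ
    obtain ⟨p, rfl⟩ : y ∈ Set.range hV.fromSpec := by rw [hV.range_fromSpec]; exact hyV
    obtain ⟨K, ⟨eK⟩⟩ := QCohD.exists_tildeD_iso (R := CommRingCat.of Γ(S, V))
      (QCohD.isQCohD_rd hV.fromSpec hM)
    obtain ⟨E, hv, hf, ⟨eE⟩⟩ :=
      (TorTest.hasFlatAmplitudeIn_tildeD_iff K 0 0).2 (ta_model f hpos hF e hV eK)
    have h1 := TorTest.hasTorAmplitude_of_iso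
      (eE ≪≫ eK ≪≫ (rd hV.fromSpec).mapIso eP.symm ≪≫ (rdQ hV.fromSpec).app P)
      (TorTest.hasTorAmplitude_of_flat (𝟙 (Spec Γ(S, V))) hv fun i => isFlatOver_id (hf i))
    exact (TorTest.at_restrict hV.fromSpec (𝟙 S) 0 0 P p).1
      ((TorTest.at_congr (p' := hV.fromSpec ≫ 𝟙 S) (by rw [Category.id_comp, Category.comp_id]) 0 0 _ _).1
        (TorTest.at_comp (𝟙 _) hV.fromSpec (h1 p)))
  haveI := (TorTest.bounds_of_ta _ hY).2
  obtain ⟨C, h1, h2, ⟨e'⟩⟩ := (S6200.result P 0 0 0).2 hY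
  exact ⟨C, h1, h2, ⟨e' ≪≫ eP⟩⟩

end Scheme

end Groth.Agent.H8Norm.TorDescent
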