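import Mathlib
import Groth.Agent.H06FlatSub.Basic
import Groth.Agent.H8Props.FlatDimOneBase

/-! Flat closed subschemes over a dense open extend over a regular base of dimension `≤ 1`. -/

set_option autoImplicit false
set_option backward.isDefEq.respectTransparency false
set_option linter.style.haveILetI false
universe u
open CategoryTheory CategoryTheory.Limits AlgebraicGeometry TopologicalSpace

namespace Groth.Agent.H8Norm

variable {P Y X : Scheme.{u}} [IsIntegral Y] [IsLocallyNoetherian Y] (f : P ⟶ Y) (U : Y.Opens)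
  (i : X ⟶ ↑(f ⁻¹ᵁ U)) [IsClosedImmersion i]

theorem std_of_flat_isPullback_open (hη : genericPoint Y ∈ U) {Z : Scheme.{u}} {z : Z ⟶ P} {w : X ⟶ Z}
    (hf : Flat (z ≫ f)) (h : IsPullback w i z (f ⁻¹ᵁ U).ι) : IsSchemeTheoreticallyDominant w := by
  have h2 : IsPullback w (i ≫ (f ∣_ U)) (z ≫ f) U.ι :=
    h.paste_vert (isPullback_morphismRestrict f U).flip
  haveI : IsDominant U.ι := by
    rw [isDominant_iff, DenseRange, Scheme.Opens.range_ι]
    exact U.isOpen.dense ⟨_, hη⟩
  haveI : IsSchemeTheoreticallyDominant U.ι := .of_isDominant _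
  haveI : QuasiCompact U.ι := inferInstance
  exact .of_isPullback h2.flip

theorem exists_flat_extension [IsLocallyNoetherian P] (hY : ∀ y : Y, IsRegularLocalRing (Y.presheaf.stalk y) ∧
      ringKrullDim (Y.presheaf.stalk y) ≤ 1) (hη : genericPoint Y ∈ U)
    [Flat (i ≫ (f ⁻¹ᵁ U).ι ≫ f)] :
    ∃ (X' : Scheme.{u}) (i' : X' ⟶ P) (j : X ⟶ X'),
      IsClosedImmersion i' ∧ Flat (i' ≫ f) ∧ IsPullback j i i' (f ⁻¹ᵁ U).ι ∧
      ∀ (X'' : Scheme.{u}) (i'' : X'' ⟶ P) (j'' : X ⟶ X''),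
        IsClosedImmersion i'' → Flat (i'' ≫ f) → IsPullback j'' i i'' (f ⁻¹ᵁ U).ι →
        ∃ e : X' ≅ X'', e.hom ≫ i'' = i' := by
  haveI : QuasiCompact (f ⁻¹ᵁ U).ι := inferInstance
  let j := i ≫ (f ⁻¹ᵁ U).ι
  haveI : QuasiCompact j := inferInstanceAs (QuasiCompact (i ≫ (f ⁻¹ᵁ U).ι))
  let z := j.imageι
  let w := j.toImage
  haveI : IsSchemeTheoreticallyDominant w := H06FlatSub.std_toImage j
  have hwz : w ≫ z = i ≫ (f ⁻¹ᵁ U).ι := j.toImage_imageι
  haveI : IsClosedImmersion z := inferInstanceAs (IsClosedImmersion j.imageι)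
  haveI : QuasiCompact (w ≫ z) := by rw [hwz]; infer_instance
  haveI : QuasiCompact w := .of_comp w z
  -- the generic fibre of `X`
  let g := i ≫ (f ⁻¹ᵁ U).ι ≫ f
  let w₀ := pullback.fst g (Y.fromSpecResidueField (genericPoint Y))
  haveI : IsAffineHom (Y.fromSpecResidueField (genericPoint Y)) :=
    H06FlatSub.isAffineHom_fromSpecResidueField_genericPoint Y
  haveI := H06FlatSub.std_fromSpecResidueField_genericPoint Y
  haveI : Flat g := inferInstanceAs (Flat (i ≫ (f ⁻¹ᵁ U).ι ≫ f))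
  haveI : IsSchemeTheoreticallyDominant w₀ :=
    .of_isPullback (IsPullback.of_hasPullback g (Y.fromSpecResidueField (genericPoint Y))).flip
  haveI : IsAffineHom w₀ := MorphismProperty.pullback_fst (P := @IsAffineHom) _ _ inferInstance
  haveI : QuasiCompact w₀ := inferInstance
  haveI : QuasiCompact (w₀ ≫ w) := inferInstance
  have hflat : Flat (z ≫ f) := by
    refine H06FlatSub.flat_of_std_genericFibre hY _ (w₀ ≫ w) fun x => ?_
    show f ((w ≫ z) (w₀ x)) = _
    rw [hwz]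
    exact (g.range_fiberι (genericPoint Y)).le ⟨x, rfl⟩
  have hpb : IsPullback w i z (f ⁻¹ᵁ U).ι := by
    let v := pullback.lift w i hwz
    have hv1 : v ≫ pullback.fst _ _ = w := pullback.lift_fst ..
    haveI : IsClosedImmersion (v ≫ pullback.snd _ _) := by rwa [pullback.lift_snd]
    haveI : IsClosedImmersion v := IsClosedImmersion.of_comp v (pullback.snd _ _)
    have hsq : IsPullback (𝟙 X) v w (pullback.fst z (f ⁻¹ᵁ U).ι) := by
      refine IsPullback.of_isLimit' ⟨by simp [hv1]⟩ (PullbackCone.IsLimit.mk _ (fun c => c.fst)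
        (fun c => Category.comp_id _) (fun c => ?_) (fun c m h₁ _ => by simpa using h₁))
      rw [← cancel_mono (pullback.fst z (f ⁻¹ᵁ U).ι), Category.assoc, hv1]
      exact c.condition
    haveI : IsSchemeTheoreticallyDominant v := .of_isPullback hsq
    haveI : IsIso v := IsClosedImmersion.isIso_iff_ker_eq_bot.2 v.ker_eq_bot
    exact IsPullback.of_iso_pullback ⟨hwz⟩ (asIso v) hv1 (pullback.lift_snd ..)
  refine ⟨j.image, z, w, inferInstance, hflat, hpb, fun Z₂ z₂ w₂ h₂ hf₂ p₂ => ?_⟩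
  haveI := h₂
  have key : ∀ {Z : Scheme.{u}} (z : Z ⟶ P) (w : X ⟶ Z), Flat (z ≫ f) →
      IsPullback w i z (f ⁻¹ᵁ U).ι → z.ker = (i ≫ (f ⁻¹ᵁ U).ι).ker := fun z w hf h => by
    haveI := std_of_flat_isPullback_open f U i hη hf h
    haveI : QuasiCompact w := MorphismProperty.of_isPullback h.flip inferInstance
    rw [← h.w, Scheme.Hom.ker_comp, w.ker_eq_bot, Scheme.IdealSheafData.map_bot]
  have hk : z.ker = z₂.ker := (key z w hflat hpb).trans (key z₂ w₂ hf₂ p₂).symm
  refine ⟨⟨IsClosedImmersion.lift z₂ z hk.ge, IsClosedImmersion.lift z z₂ hk.le, ?_, ?_⟩,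
    IsClosedImmersion.lift_fac _ _ _⟩
  · rw [← cancel_mono z]; simp
  · rw [← cancel_mono z₂]; simp

end Groth.Agent.H8Norm
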