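import Groth.Agent.H8Norm.FlatPointModel
import Groth.Agent.H8Props.RelFP.PullSections
import Groth.Agent.H8Props.FlatLocus.Sheaf

/-!
# Flatness at all points over a pair of points, in affine charts
-/

set_option autoImplicit false
set_option linter.style.haveILetI false
set_option backward.isDefEq.respectTransparency false
set_option maxHeartbeats 1000000
set_option synthInstance.maxHeartbeats 400000

universe u

open CategoryTheory Limits AlgebraicGeometry TensorProduct

namespace Groth.Agent.H8Norm.FlatPointScheme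

variable {A : Type u} [CommRing A]

/-- The ring map to sections over an open of a scheme over `Spec A`. -/
noncomputable def secHom {X : Scheme.{u}} (f : X ⟶ Spec (CommRingCat.of A)) (U : X.Opens) :
    CommRingCat.of A ⟶ Γ(X, U) :=
  (Scheme.ΓSpecIso (CommRingCat.of A)).inv ≫ f.appLE ⊤ U le_top

/-- The ring map to the local ring at a point of a scheme over `Spec A`. -/
noncomputable def germHom {T : Scheme.{u}} (g : T ⟶ Spec (CommRingCat.of A)) (t : T) :
    CommRingCat.of A ⟶ T.presheaf.stalk t :=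
  (Scheme.ΓSpecIso (CommRingCat.of A)).inv ≫ g.appTop ≫ T.presheaf.germ ⊤ t trivial

theorem secHom_germ {T : Scheme.{u}} (g : T ⟶ Spec (CommRingCat.of A)) (t : T) {V : T.Opens} (ht : t ∈ V) :
    secHom g V ≫ T.presheaf.germ V t ht = germHom g t := by
  simp only [secHom, germHom, Category.assoc]
  congr 1
  simp [Scheme.Hom.appLE]

/-- `AllFlat` in an affine chart is flatness of the pullback at all points over the pair. -/
theorem allFlat_iff {X T : Scheme.{u}} (f : X ⟶ Spec (CommRingCat.of A)) (F : X.Modules)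
    (hF : Coh.IsQCoh F) {U : X.Opens} (hU : IsAffineOpen U) (x : U)
    (g : T ⟶ Spec (CommRingCat.of A)) (t : T) :
    letI := (secHom f U).hom.toAlgebra
    letI := (germHom g t).hom.toAlgebra
    H7Flat.Chain.AllFlat A (T.presheaf.stalk t) (hU.primeIdealOf x).asIdeal Γ(F, U) ↔
      ∀ x' : ↑(pullback f g), (pullback.snd f g) x' = t → (pullback.fst f g) x' = x.1 →
        FlatMod.IsFlatOverAt (pullback.snd f g) ((Scheme.Modules.pullback (pullback.fst f g)).obj F) x' := by
  obtain ⟨_, ⟨V, hV, rfl⟩, htV, -⟩ :=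
    T.isBasis_affineOpens.exists_subset_of_mem_open (Set.mem_univ t) isOpen_univ
  let p₁ := pullback.fst f g
  let p₂ := pullback.snd f g
  let U' : (pullback f g).Opens := p₁ ⁻¹ᵁ U ⊓ p₂ ⁻¹ᵁ V
  have hc : IsPullback p₁ p₂ f g := IsPullback.of_hasPullback f g
  have hVV' : V ≤ g ⁻¹ᵁ ⊤ := le_top
  have hUV : U ≤ f ⁻¹ᵁ ⊤ := le_top
  have hS : IsAffineOpen (⊤ : (Spec (CommRingCat.of A)).Opens) := isAffineOpen_top _
  have hU' : IsAffineOpen U' := by
    haveI : IsAffine _ := hS
    haveI : IsAffine _ := hV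
    haveI : IsAffine _ := hU
    exact .of_isIso (Scheme.Hom.isPullback_resLE hc hVV' hUV (UY := U') rfl).isoPullback.hom
  have hp0 : CategoryTheory.IsPushout (f.appLE ⊤ U hUV) (g.appLE ⊤ V hVV')
      (p₁.appLE U U' inf_le_left) (p₂.appLE V U' inf_le_right) :=
    (isIso_pushoutSection_iff hc hVV' hUV (UY := U') rfl).mp
      (isIso_pushoutSection_of_isAffineOpen hc hVV' hUV rfl hS hV hU)
  have hp : CategoryTheory.IsPushout (secHom f U) (secHom g V)
      (p₁.appLE U U' inf_le_left) (p₂.appLE V U' inf_le_right) :=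
    hp0.of_iso' (Scheme.ΓSpecIso (CommRingCat.of A)).symm (Iso.refl _) (Iso.refl _) (Iso.refl _)
      (by simp [secHom]) (by simp [secHom]) (by simp) (by simp)
  letI := (secHom f U).hom.toAlgebra
  letI := (secHom g V).hom.toAlgebra
  letI := (p₁.appLE U U' inf_le_left).hom.toAlgebra
  letI := (p₂.appLE V U' inf_le_right).hom.toAlgebra
  letI : Algebra A Γ(pullback f g, U') :=
    ((p₁.appLE U U' inf_le_left).hom.comp (secHom f U).hom).toAlgebra
  haveI : IsScalarTower A Γ(X, U) Γ(pullback f g, U') := .of_algebraMap_eq fun _ => rfl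
  haveI : IsScalarTower A Γ(T, V) Γ(pullback f g, U') :=
    IsScalarTower.of_algebraMap_eq' (congrArg CommRingCat.Hom.hom hp.w)
  haveI : Algebra.IsPushout A Γ(T, V) Γ(X, U) Γ(pullback f g, U') :=
    (CommRingCat.isPushout_iff_isPushout.mp hp.flip)
  letI := (germHom g t).hom.toAlgebra
  letI := (T.presheaf.germ V t htV).hom.toAlgebra
  haveI : IsScalarTower A Γ(T, V) (T.presheaf.stalk t) :=
    IsScalarTower.of_algebraMap_eq' (congrArg CommRingCat.Hom.hom (secHom_germ g t htV)).symm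
  haveI : IsLocalization.AtPrime (T.presheaf.stalk t) (hV.primeIdealOf ⟨t, htV⟩).asIdeal :=
    hV.isLocalization_stalk ⟨t, htV⟩
  let G := (Scheme.Modules.pullback p₁).obj F
  letI := Module.compHom Γ(G, U') (p₁.appLE U U' inf_le_left).hom
  haveI : IsScalarTower Γ(X, U) Γ(pullback f g, U') Γ(G, U') := .of_algebraMap_smul fun _ _ => rfl
  letI := Module.compHom Γ(G, U') (p₂.appLE V U' inf_le_right).hom
  haveI : IsScalarTower Γ(T, V) Γ(pullback f g, U') Γ(G, U') := .of_algebraMap_smul fun _ _ => rfl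
  have hpt := fun x' : U' => H8Props.FlatLocus.isFlatOverAt_iff_localizedModule p₂ G
    (H29Fitt.isQCoh_pullback p₁ F hF) hV hU' inf_le_right x'
  rw [FlatPointModel.allFlat_iff_model (hV.primeIdealOf ⟨t, htV⟩).asIdeal (hU.primeIdealOf x).asIdeal
    Γ(F, U) (H8Props.PullSections.pullLin p₁ F inf_le_left)
    (H8Props.PullSections.isBaseChange_pullLin p₁ F inf_le_left hF hU hU')]
  have c1 : ∀ x' : U', (hU'.primeIdealOf x').asIdeal.comap (algebraMap Γ(X, U) Γ(pullback f g, U')) =
      (hU.primeIdealOf ⟨p₁ x'.1, x'.2.1⟩).asIdeal := fun x' =>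
    congrArg PrimeSpectrum.asIdeal (IsAffineOpen.comap_primeIdealOf_appLE U hU U' hU' inf_le_left x'.2)
  have c2 : ∀ x' : U', (hU'.primeIdealOf x').asIdeal.comap (algebraMap Γ(T, V) Γ(pullback f g, U')) =
      (hV.primeIdealOf ⟨p₂ x'.1, x'.2.2⟩).asIdeal := fun x' =>
    congrArg PrimeSpectrum.asIdeal (IsAffineOpen.comap_primeIdealOf_appLE V hV U' hU' inf_le_right x'.2)
  constructor
  · intro h x' h2 h1
    have hm : x' ∈ U' := ⟨show p₁ x' ∈ U from h1 ▸ x.2, show p₂ x' ∈ V from h2 ▸ htV⟩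
    refine (hpt ⟨x', hm⟩).2 (h (hU'.primeIdealOf ⟨x', hm⟩).asIdeal ?_ ?_)
    · rw [c1 ⟨x', hm⟩]
      congr 2
      exact Subtype.ext h1
    · rw [c2 ⟨x', hm⟩]
      congr 2
      exact Subtype.ext h2
  · intro h Q hQ h1 h2
    let x' : ↑(pullback f g) := hU'.fromSpec ⟨Q, hQ⟩
    have hm : x' ∈ U' := hU'.range_fromSpec.subset ⟨_, rfl⟩
    haveI := hU'.isOpenImmersion_fromSpec
    have e : hU'.primeIdealOf ⟨x', hm⟩ = ⟨Q, hQ⟩ :=
      hU'.fromSpec.isOpenEmbedding.injective (hU'.fromSpec_primeIdealOf _)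
    have e' : (hU'.primeIdealOf ⟨x', hm⟩).asIdeal = Q := congrArg PrimeSpectrum.asIdeal e
    have hx1 : p₁ x' = x.1 := by
      have hh := c1 ⟨x', hm⟩
      rw [e', h1] at hh
      have := congrArg hU.fromSpec (PrimeSpectrum.ext hh)
      rwa [hU.fromSpec_primeIdealOf, hU.fromSpec_primeIdealOf, eq_comm] at this
    have hx2 : p₂ x' = t := by
      have hh := c2 ⟨x', hm⟩
      rw [e', h2] at hh
      have := congrArg hV.fromSpec (PrimeSpectrum.ext hh)
      rwa [hV.fromSpec_primeIdealOf, hV.fromSpec_primeIdealOf, eq_comm] at this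
    exact FlatPointModel.flatAt_congr_ideal e' ((hpt ⟨x', hm⟩).1 (h x' hx2 hx1))

end Groth.Agent.H8Norm.FlatPointScheme
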