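import Groth.Agent.H7Flat.Chain.AllFlat
import Groth.Agent.H7Flat.FlatAtFinite

/-!
# Flatness at all points over a point, computed before localizing the test ring
-/

set_option autoImplicit false
set_option linter.style.haveILetI false
set_option backward.isDefEq.respectTransparency false
set_option maxHeartbeats 1000000
set_option synthInstance.maxHeartbeats 400000

universe u

open TensorProduct FlatMor

attribute [local instance] Algebra.TensorProduct.rightAlgebra

namespace Groth.Agent.H8Norm.FlatPointModel

/-- Flatness at a prime only depends on the prime. -/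
theorem flatAt_congr_ideal {R S M : Type u} [CommRing R] [CommRing S] [Algebra R S] [AddCommGroup M]
    [Module S M] [Module R M] [IsScalarTower R S M] {q q' : Ideal S} [q.IsPrime] [q'.IsPrime] (e : q = q')
    (h : FlatCA.FlatAt R q M) : FlatCA.FlatAt R q' M := by
  subst e; exact h

/-- `AllFlat` at a local ring of the base, read off any model of the base change to the base ring. -/
theorem allFlat_iff_model {A S R L B' : Type u} [CommRing A] [CommRing S] [CommRing R] [CommRing L]
    [IsLocalRing L] [CommRing B'] [Algebra A S] [Algebra A R] [Algebra A L] [Algebra R L]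
    [IsScalarTower A R L] (p : Ideal R) [p.IsPrime] [IsLocalization.AtPrime L p]
    [Algebra A B'] [Algebra R B'] [Algebra S B'] [IsScalarTower A R B'] [IsScalarTower A S B']
    [Algebra.IsPushout A R S B'] (q : Ideal S) (N : Type u) [AddCommGroup N] [Module S N]
    {M' : Type u} [AddCommGroup M'] [Module B' M'] [Module S M'] [IsScalarTower S B' M']
    [Module R M'] [IsScalarTower R B' M'] (f : N →ₗ[S] M') (hf : IsBaseChange B' f) :
    H7Flat.Chain.AllFlat A L q N ↔
      ∀ (Q : Ideal B') [Q.IsPrime], Q.comap (algebraMap S B') = q → Q.comap (algebraMap R B') = p →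
        FlatCA.FlatAt R Q M' := by
  let T := L ⊗[A] S
  let θ := Algebra.IsPushout.equiv A R S B'
  let ψ : B' →ₐ[R] T :=
    (Algebra.TensorProduct.map (Algebra.ofId R L) (AlgHom.id A S)).comp θ.symm.toAlgHom
  letI : Algebra B' T := ψ.toRingHom.toAlgebra
  haveI : IsScalarTower R B' T := IsScalarTower.of_algebraMap_eq fun r => (ψ.commutes r).symm
  have hS : ∀ s : S, ψ (algebraMap S B' s) = algebraMap S T s := fun s => by
    have : θ.symm (algebraMap S B' s) = (1 : R) ⊗ₜ[A] s := by
      rw [AlgEquiv.symm_apply_eq, Algebra.IsPushout.equiv_tmul, map_one, one_mul]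
    show Algebra.TensorProduct.map (Algebra.ofId R L) (AlgHom.id A S) (θ.symm (algebraMap S B' s)) = _
    rw [this, Algebra.TensorProduct.map_tmul, map_one, AlgHom.id_apply]
    rfl
  haveI : IsScalarTower S B' T := IsScalarTower.of_algebraMap_eq fun s => (hS s).symm
  haveI : IsScalarTower A B' T := IsScalarTower.of_algebraMap_eq fun a => by
    rw [IsScalarTower.algebraMap_apply A S T, IsScalarTower.algebraMap_apply A S B',
      ← IsScalarTower.algebraMap_apply S B' T]
  haveI hp2 : Algebra.IsPushout R L B' T :=
    (Algebra.IsPushout.comp_iff A R S B' (T := L) (T' := T)).mp inferInstance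
  haveI : IsLocalization (Algebra.algebraMapSubmonoid B' p.primeCompl) T :=
    (Algebra.isLocalization_iff_isPushout p.primeCompl L).mpr (Algebra.IsPushout.symm hp2)
  haveI : Module.Flat B' T :=
    IsLocalization.flat T (Algebra.algebraMapSubmonoid B' p.primeCompl)
  let MT := T ⊗[B'] M'
  let e : MT ≃ₗ[T] T ⊗[S] N :=
    AlgebraTensorModule.congr (LinearEquiv.refl T T) hf.equiv.symm ≪≫ₗ
      AlgebraTensorModule.cancelBaseChange S B' T T N
  have key : ∀ (Q : Ideal T) [Q.IsPrime],
      FlatCA.FlatAt R (Q.comap (algebraMap B' T)) M' ↔ FlatCA.FlatAt L Q (T ⊗[S] N) := by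
    intro Q _
    haveI : IsScalarTower R T MT := IsScalarTower.of_algebraMap_smul fun r x => by
      rw [IsScalarTower.algebraMap_apply R B' T, algebraMap_smul, algebraMap_smul]
    have h1 : FlatCA.FlatAt R (Q.comap (algebraMap B' T)) M' ↔ FlatCA.FlatAt R Q MT :=
      H7Flat.FlatAtFinite.flat_localizedModule_flat_iff (R := R) (S := B') (S' := T)
        (TensorProduct.isBaseChange B' M' T) Q
    refine h1.trans (Iff.trans ?_ ⟨H7Flat.DevissageChain.flatAt_congr Q e,
      H7Flat.DevissageChain.flatAt_congr Q e.symm⟩)
    exact (Module.flat_iff_of_isLocalization L p.primeCompl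
      (LocalizedModule Q.primeCompl MT)).symm
  have hR : ∀ (Q : Ideal T), (Q.comap (algebraMap B' T)).comap (algebraMap R B') =
      (Q.comap (algebraMap L T)).comap (algebraMap R L) := fun Q => by
    rw [Ideal.comap_comap, Ideal.comap_comap, ← IsScalarTower.algebraMap_eq,
      ← IsScalarTower.algebraMap_eq]
  have hSQ : ∀ (Q : Ideal T), (Q.comap (algebraMap B' T)).comap (algebraMap S B') =
      Q.comap (algebraMap S T) := fun Q => by
    rw [Ideal.comap_comap, ← IsScalarTower.algebraMap_eq]
  have hmax : (IsLocalRing.maximalIdeal L).comap (algebraMap R L) = p :=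
    IsLocalization.AtPrime.under_maximalIdeal L p
  constructor
  · intro h Q hQ h1 h2
    have hdisj : Disjoint (Algebra.algebraMapSubmonoid B' p.primeCompl : Set B') Q := by
      rw [Set.disjoint_left]
      rintro _ ⟨r, hr, rfl⟩ hrQ
      exact hr (h2 ▸ hrQ)
    have hPp := IsLocalization.isPrime_of_isPrime_disjoint
      (Algebra.algebraMapSubmonoid B' p.primeCompl) T Q hQ hdisj
    haveI := hPp
    have hP : (Q.map (algebraMap B' T)).comap (algebraMap B' T) = Q :=
      IsLocalization.under_map_of_isPrime_disjoint (Algebra.algebraMapSubmonoid B' p.primeCompl) T hQ hdisj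
    refine flatAt_congr_ideal hP ((key _).2 (h _ ?_ ?_))
    · rw [← hSQ, hP, h1]
    · have h3 : ((Q.map (algebraMap B' T)).comap (algebraMap L T)).comap (algebraMap R L) =
          (IsLocalRing.maximalIdeal L).comap (algebraMap R L) := by
        rw [← hR, hP, h2, hmax]
      rw [← IsLocalization.map_under p.primeCompl L ((Q.map (algebraMap B' T)).comap (algebraMap L T)),
        ← IsLocalization.map_under p.primeCompl L (IsLocalRing.maximalIdeal L), Ideal.under_def,
        Ideal.under_def, h3]
  · intro h P hP h1 h2
    refine (key P).1 (h _ ?_ ?_)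
    · rw [hSQ, h1]
    · rw [hR, h2, hmax]

end Groth.Agent.H8Norm.FlatPointModel
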