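import Groth.Agent.H8Norm.Flattening
import Groth.Agent.H06EGA11.Open
import Groth.Agent.H06EGA11.Colimit
import Mathlib.RingTheory.Localization.BaseChange

/-!
# Flatness at primes of base changes of a localised finitely presented algebra
-/

set_option autoImplicit false
set_option linter.style.haveILetI false
set_option backward.isDefEq.respectTransparency false

universe u

open TensorProduct

namespace Groth.Agent.H8Norm.FlatStage

open H06EGA11

attribute [local instance] Algebra.TensorProduct.rightAlgebra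

/-- Flatness at a prime of a localisation. -/
theorem flat_iff_of_isLocalizedModule {G T B N M : Type u} [CommRing G] [CommRing T] [CommRing B] [Algebra G T]
    [Algebra G B] [Algebra T B] [IsScalarTower G T B] (W : Submonoid T) [IsLocalization W B]
    [AddCommGroup N] [Module G N] [Module T N] [IsScalarTower G T N] [AddCommGroup M] [Module G M] [Module T M]
    [Module B M] [IsScalarTower G B M] [IsScalarTower T B M] [IsScalarTower G T M] (h : N →ₗ[T] M)
    [IsLocalizedModule W h] (q : Ideal B) [q.IsPrime] :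
    Module.Flat G (LocalizedModule q.primeCompl M) ↔
      Module.Flat G (LocalizedModule (q.comap (algebraMap T B)).primeCompl N) := by
  set p := q.comap (algebraMap T B)
  let mk := (LocalizedModule.mkLinearMap q.primeCompl M).restrictScalars T
  let f : N →ₗ[T] LocalizedModule q.primeCompl M := mk.comp h
  have hW : ∀ w : W, (w : T) ∈ p.primeCompl := fun w hw =>
    Ideal.IsPrime.ne_top inferInstance (q.eq_top_of_isUnit_mem hw (IsLocalization.map_units B w))
  haveI : IsLocalizedModule p.primeCompl f := by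
    constructor
    · intro t
      have ht : algebraMap T B t ∈ q.primeCompl := t.2
      have := (Module.End.isUnit_iff _).1
        (IsLocalizedModule.map_units (LocalizedModule.mkLinearMap q.primeCompl M) ⟨_, ht⟩)
      rw [Module.End.isUnit_iff]
      convert this using 1
      ext n
      rw [Module.algebraMap_end_apply, Module.algebraMap_end_apply, algebraMap_smul]
    · intro y
      obtain ⟨⟨m, s⟩, hs⟩ := IsLocalizedModule.surj q.primeCompl (LocalizedModule.mkLinearMap q.primeCompl M) y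
      obtain ⟨⟨n, w⟩, hn⟩ := IsLocalizedModule.surj W h m
      obtain ⟨⟨t, v⟩, hv⟩ := IsLocalization.surj W (s : B)
      have ht : t ∈ p.primeCompl := fun htp => by
        have h1 : (s : B) * algebraMap T B v ∈ q := hv ▸ htp
        exact (‹q.IsPrime›.mem_or_mem h1).elim s.2 (hW v)
      refine ⟨⟨(v : T) • n, ⟨t, ht⟩ * ⟨w, hW w⟩⟩, ?_⟩
      show (t * w : T) • y = mk (h ((v : T) • n))
      rw [map_smul, ← hn, map_smul, Submonoid.smul_def, map_smul,
        show mk m = (s : B) • y from hs.symm, mul_comm t, mul_smul, smul_comm (v : T),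
        ← algebraMap_smul B t y, ← hv, mul_comm (s : B), mul_smul, algebraMap_smul]
    · intro a b hab
      obtain ⟨s, hs⟩ := IsLocalizedModule.exists_of_eq (S := q.primeCompl)
        (f := LocalizedModule.mkLinearMap q.primeCompl M) (show mk (h a) = mk (h b) from hab)
      obtain ⟨⟨t, v⟩, hv⟩ := IsLocalization.surj W (s : B)
      have ht : t ∈ p.primeCompl := fun htp => by
        have h1 : (s : B) * algebraMap T B v ∈ q := hv ▸ htp
        exact (‹q.IsPrime›.mem_or_mem h1).elim s.2 (hW v)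
      have e : h (t • a) = h (t • b) := by
        rw [map_smul, map_smul, ← algebraMap_smul B t (h a), ← algebraMap_smul B t (h b), ← hv,
          mul_comm (s : B), mul_smul, mul_smul]
        exact congrArg _ hs
      obtain ⟨w, hw⟩ := IsLocalizedModule.exists_of_eq (S := W) (f := h) e
      refine ⟨⟨w, hW w⟩ * ⟨t, ht⟩, ?_⟩
      show ((w : T) * t) • a = ((w : T) * t) • b
      rw [mul_smul, mul_smul]
      exact hw
  exact (Module.Flat.equiv_iff ((IsLocalizedModule.iso p.primeCompl f).restrictScalars G)).symm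

/-- The localised algebra and module, after base change. -/
theorem exists_local_iff {R S₀ S : Type u} [CommRing R] [CommRing S₀] [CommRing S] [Algebra R S₀] [Algebra R S]
    [Algebra S₀ S] [IsScalarTower R S₀ S] (W : Submonoid S₀) [IsLocalization W S]
    {N₀ M : Type u} [AddCommGroup N₀] [Module R N₀] [Module S₀ N₀] [IsScalarTower R S₀ N₀]
    [AddCommGroup M] [Module S M] (e : S ⊗[S₀] N₀ ≃ₗ[S] M) {G Si Mi : Type u} [CommRing G] [Algebra R G]
    [CommRing Si] [Algebra S Si] [Algebra G Si] [Algebra R Si] [IsScalarTower R S Si] [IsScalarTower R G Si]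
    [Algebra.IsPushout R S G Si] [AddCommGroup Mi] [Module Si Mi] [Module G Mi] [IsScalarTower G Si Mi]
    [Module S Mi] [IsScalarTower S Si Mi] (fi : M →ₗ[S] Mi) (hfi : IsBaseChange Si fi) :
    ∃ φ : S₀ ⊗[R] G →+* Si,
      (∀ (s : S₀) (c : G), φ (s ⊗ₜ c) = algebraMap S Si (algebraMap S₀ S s) * algebraMap G Si c) ∧
      (∀ (q : Ideal Si) [q.IsPrime], FlatCA.FlatAt G q Mi ↔
        Module.Flat G (LocalizedModule (q.comap φ).primeCompl (BC R S₀ N₀ G))) ∧
      ∀ (p : Ideal (S₀ ⊗[R] G)) [p.IsPrime], (∀ w ∈ W, w ⊗ₜ[R] (1 : G) ∉ p) →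
        ∃ (q : Ideal Si) (_ : q.IsPrime), q.comap φ = p := by
  letI algS₀ : Algebra S₀ Si := ((algebraMap S Si).comp (algebraMap S₀ S)).toAlgebra
  haveI : IsScalarTower S₀ S Si := IsScalarTower.of_algebraMap_eq fun _ => rfl
  haveI : IsScalarTower R S₀ Si := IsScalarTower.of_algebraMap_eq fun r => by
    show _ = algebraMap S Si (algebraMap S₀ S (algebraMap R S₀ r))
    rw [← IsScalarTower.algebraMap_apply R S₀ S, ← IsScalarTower.algebraMap_apply R S Si]
  let φ : S₀ ⊗[R] G →ₐ[R] Si :=
    Algebra.TensorProduct.lift (IsScalarTower.toAlgHom R S₀ Si) (IsScalarTower.toAlgHom R G Si)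
      fun _ _ => Commute.all _ _
  have hφ : ∀ (s : S₀) (c : G), φ (s ⊗ₜ c) = algebraMap S Si (algebraMap S₀ S s) * algebraMap G Si c :=
    fun s c => Algebra.TensorProduct.lift_tmul _ _ _ s c
  letI : Algebra (S₀ ⊗[R] G) Si := φ.toRingHom.toAlgebra
  haveI : IsScalarTower S₀ (S₀ ⊗[R] G) Si := IsScalarTower.of_algebraMap_eq fun s => by
    show algebraMap S₀ Si s = φ (s ⊗ₜ 1)
    rw [hφ, map_one, mul_one]
    rfl
  haveI : IsScalarTower G (S₀ ⊗[R] G) Si := IsScalarTower.of_algebraMap_eq fun c => by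
    show algebraMap G Si c = φ (1 ⊗ₜ c)
    rw [hφ, map_one, map_one, one_mul]
  haveI : IsScalarTower R (S₀ ⊗[R] G) Si := IsScalarTower.of_algebraMap_eq fun r => (φ.commutes r).symm
  haveI : Algebra.IsPushout S₀ S (S₀ ⊗[R] G) Si :=
    (Algebra.IsPushout.comp_iff (R := R) (S := S₀) (R' := G) (S' := S₀ ⊗[R] G) (T := S) (T' := Si)).1
      inferInstance
  let WT : Submonoid (S₀ ⊗[R] G) := Algebra.algebraMapSubmonoid (S₀ ⊗[R] G) W
  haveI hloc : IsLocalization WT Si :=
    (Algebra.isLocalization_iff_isPushout (R := S₀) W (A := S) (T := S₀ ⊗[R] G) (B := Si)).2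
      (Algebra.IsPushout.symm inferInstance)
  letI : Module S₀ Mi := Module.compHom Mi (algebraMap S₀ Si)
  haveI : IsScalarTower S₀ Si Mi := IsScalarTower.of_algebraMap_smul fun _ _ => rfl
  letI : Module (S₀ ⊗[R] G) Mi := Module.compHom Mi φ.toRingHom
  haveI : IsScalarTower (S₀ ⊗[R] G) Si Mi := IsScalarTower.of_algebraMap_smul fun _ _ => rfl
  haveI : IsScalarTower S₀ (S₀ ⊗[R] G) Mi := IsScalarTower.of_algebraMap_smul fun s x => by
    rw [← IsScalarTower.algebraMap_smul Si (algebraMap S₀ (S₀ ⊗[R] G) s) x,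
      ← IsScalarTower.algebraMap_apply, IsScalarTower.algebraMap_smul]
  haveI : IsScalarTower S₀ S Mi := IsScalarTower.of_algebraMap_smul fun s x => by
    rw [← IsScalarTower.algebraMap_smul Si (algebraMap S₀ S s) x, ← IsScalarTower.algebraMap_apply,
      IsScalarTower.algebraMap_smul]
  haveI : IsScalarTower G (S₀ ⊗[R] G) Mi := IsScalarTower.of_algebraMap_smul fun c x => by
    rw [← IsScalarTower.algebraMap_smul Si (algebraMap G (S₀ ⊗[R] G) c) x,
      ← IsScalarTower.algebraMap_apply, IsScalarTower.algebraMap_smul]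
  letI : Module S₀ M := Module.compHom M (algebraMap S₀ S)
  haveI : IsScalarTower S₀ S M := IsScalarTower.of_algebraMap_smul fun _ _ => rfl
  let m₀ : N₀ →ₗ[S₀] M := (e.toLinearMap.restrictScalars S₀).comp (TensorProduct.mk S₀ S N₀ 1)
  have hm₀ : IsBaseChange S m₀ := IsBaseChange.of_equiv e fun x => rfl
  let g₀ : N₀ →ₗ[S₀] Mi := (fi.restrictScalars S₀).comp m₀
  have hg₀ : IsBaseChange Si g₀ := hm₀.comp hfi
  let h : BC R S₀ N₀ G →ₗ[S₀ ⊗[R] G] Mi := g₀.liftBaseChange (S₀ ⊗[R] G)
  have hh : IsBaseChange Si h := by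
    refine IsBaseChange.of_comp (TensorProduct.isBaseChange S₀ N₀ (S₀ ⊗[R] G)) ?_
    convert hg₀ using 1
    ext x
    simp [h]
  haveI : IsLocalizedModule WT h := (isLocalizedModule_iff_isBaseChange WT Si h).2 hh
  refine ⟨φ.toRingHom, hφ, fun q _ => ?_, fun p _ hp => ?_⟩
  · exact flat_iff_of_isLocalizedModule (G := G) (T := S₀ ⊗[R] G) WT h q
  · have hdisj : Disjoint (WT : Set (S₀ ⊗[R] G)) (p : Set (S₀ ⊗[R] G)) := by
      rw [Set.disjoint_left]
      rintro _ ⟨w, hw, rfl⟩ hwp
      exact hp w hw hwp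
    exact ⟨p.map (algebraMap (S₀ ⊗[R] G) Si), IsLocalization.isPrime_of_isPrime_disjoint WT Si p inferInstance hdisj,
      IsLocalization.comap_map_of_isPrime_disjoint WT Si inferInstance hdisj⟩

/-- Flatness at a prime in either of two models related by a surjection. -/
theorem flat_iff_of_surjective {R R₁ B N S M G : Type u} [CommRing R] [CommRing R₁] [Algebra R₁ R] [CommRing B]
    [Algebra R₁ B] [AddCommGroup N] [Module R₁ N] [Module B N] [IsScalarTower R₁ B N] [CommRing S] [Algebra R S]
    [AddCommGroup M] [Module R M] [Module S M] [IsScalarTower R S M] [Module R₁ M] [IsScalarTower R₁ R M]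
    (e : N →ₗ[R₁] M) (he : IsBaseChange R e) (g : B →+* S) (heg : ∀ b x, e (b • x) = g b • e x)
    [CommRing G] [Algebra R G] [Algebra R₁ G] [IsScalarTower R₁ R G]
    (σ : B ⊗[R₁] G →+* S ⊗[R] G) (hσ : ∀ b c, σ (b ⊗ₜ c) = g b ⊗ₜ c) (hsurj : Function.Surjective σ)
    (p : Ideal (S ⊗[R] G)) [p.IsPrime] :
    Module.Flat G (LocalizedModule p.primeCompl (BC R S M G)) ↔
      Module.Flat G (LocalizedModule (p.comap σ).primeCompl (BC R₁ B N G)) := by
  let T := S ⊗[R] G
  letI : Algebra (B ⊗[R₁] G) T := σ.toAlgebra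
  letI : Module (B ⊗[R₁] G) (BC R S M G) := Module.compHom _ σ
  haveI : IsScalarTower (B ⊗[R₁] G) T (BC R S M G) := IsScalarTower.of_algebraMap_smul fun _ _ => rfl
  have hσc : ∀ c : G, σ (algebraMap G (B ⊗[R₁] G) c) = algebraMap G T c := fun c => by
    show σ ((1 : B) ⊗ₜ c) = (1 : S) ⊗ₜ c
    rw [hσ, map_one]
  haveI : IsScalarTower G (B ⊗[R₁] G) (BC R S M G) := IsScalarTower.of_algebraMap_smul fun c x => by
    show σ (algebraMap G (B ⊗[R₁] G) c) • x = c • x
    rw [hσc, IsScalarTower.algebraMap_smul]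
  haveI : IsScalarTower G (B ⊗[R₁] G) T := IsScalarTower.of_algebraMap_eq fun c => (hσc c).symm
  letI : Module R₁ (BC R S M G) := Module.compHom _ (algebraMap R₁ R)
  haveI : IsScalarTower R₁ R (BC R S M G) := IsScalarTower.of_algebraMap_smul fun _ _ => rfl
  haveI : IsScalarTower R₁ G (BC R S M G) := IsScalarTower.of_algebraMap_smul fun r x => by
    rw [IsScalarTower.algebraMap_apply R₁ R G, IsScalarTower.algebraMap_smul G (algebraMap R₁ R r) x]
    rfl
  let f₂ : N →ₗ[R₁] BC R S M G := ((toBC R S M G).restrictScalars R₁).comp e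
  have hf₂ : IsBaseChange G f₂ := he.comp (isBaseChange_toBC G)
  have h₂ : ∀ b x, f₂ (b • x) = σ (b ⊗ₜ 1) • f₂ x := fun b x => by
    show toBC R S M G (e (b • x)) = _
    rw [heg, Flattening.toBC_smul, hσ]
    rfl
  refine (flat_localizedModule_iff_comap (A := G) (B := B ⊗[R₁] G) (C := T) (M := BC R S M G) hsurj p).trans ?_
  let P := p.comap (algebraMap (B ⊗[R₁] G) T)
  constructor <;> intro hfl
  · haveI : Module.Flat G
        (LocalizedModule (Ideal.comap (RingHom.id (B ⊗[R₁] G)) P).primeCompl (BC R S M G)) := hfl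
    exact Flattening.flat_of_isBaseChange (M₂ := BC R₁ B N G) (M₁ := BC R S M G) (S₁ := B ⊗[R₁] G)
      (S₂ := B ⊗[R₁] G) f₂ hf₂ Algebra.TensorProduct.includeLeftRingHom (fun b x => h₂ b x)
      (toBC R₁ B N G) (isBaseChange_toBC G) Algebra.TensorProduct.includeLeftRingHom
      (Flattening.toBC_smul G) (RingHom.id _) (fun _ => rfl) (fun _ => rfl)
      Flattening.mem_span_range_includeLeft P
  · haveI : Module.Flat G
        (LocalizedModule (Ideal.comap (RingHom.id (B ⊗[R₁] G)) P).primeCompl (BC R₁ B N G)) := hfl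
    exact Flattening.flat_of_isBaseChange (M₁ := BC R₁ B N G) (M₂ := BC R S M G) (S₁ := B ⊗[R₁] G)
      (S₂ := B ⊗[R₁] G) (toBC R₁ B N G) (isBaseChange_toBC G) Algebra.TensorProduct.includeLeftRingHom
      (Flattening.toBC_smul G) f₂ hf₂ Algebra.TensorProduct.includeLeftRingHom (fun b x => h₂ b x)
      (RingHom.id _) (fun _ => rfl) (fun _ => rfl)
      Flattening.mem_span_range_includeLeft P

end Groth.Agent.H8Norm.FlatStage
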