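import Groth.Agent.H8Norm.FlatStage
import Groth.Agent.H06EGA11.Model
import Groth.Agent.H7Flat.Chain.FlatLocusLocal

/-!
# Descent of flatness along a closed set to a stage of a colimit
-/

set_option autoImplicit false
set_option linter.style.haveILetI false

universe u

open TensorProduct

namespace Groth.Agent.H8Norm.FlatStageMain

open H06EGA11

attribute [local instance] Algebra.TensorProduct.rightAlgebra

section colim

variable {A₀ : Type u} [CommRing A₀] {ι : Type u} [Preorder ι] [IsDirected ι (· ≤ ·)] [Nonempty ι]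
  {G : ι → Type u} [∀ i, CommRing (G i)] [∀ i, Algebra A₀ (G i)] (f : ∀ i j, i ≤ j → G i →ₐ[A₀] G j)
  {A : Type u} [CommRing A] [Algebra A₀ A] (g : ∀ i, G i →ₐ[A₀] A)
  (hf : ∀ i j k (hij : i ≤ j) (hjk : j ≤ k), (f j k hjk).comp (f i j hij) = f i k (hij.trans hjk))
  (hg : ∀ i j (h : i ≤ j), (g j).comp (f i j h) = g i)
  (hsurj : ∀ a : A, ∃ i, ∃ x : G i, g i x = a)
  (hker : ∀ i (x : G i), g i x = 0 → ∃ j, ∃ h : i ≤ j, f i j h x = 0)

include hg hker hf in
theorem exists_forall_vanish {κ : Type*} (s : Finset κ) (i : ι) (x : κ → G i) (hx : ∀ c ∈ s, g i (x c) = 0) :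
    ∃ j, ∃ h : i ≤ j, ∀ c ∈ s, f i j h (x c) = 0 := by
  classical
  induction s using Finset.induction with
  | empty => exact ⟨i, le_rfl, by simp⟩
  | insert a s ha ih =>
    obtain ⟨j, hij, hj⟩ := ih fun c hc => hx c (Finset.mem_insert_of_mem hc)
    obtain ⟨k, hjk, hk⟩ := hker j (f i j hij (x a)) (by
      rw [← AlgHom.comp_apply, hg]; exact hx a (Finset.mem_insert_self _ _))
    refine ⟨k, hij.trans hjk, fun c hc => ?_⟩
    rw [← hf i j k hij hjk, AlgHom.comp_apply]
    rcases Finset.mem_insert.1 hc with rfl | hc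
    · exact hk
    · rw [hj c hc, map_zero]

include hg hker hf hsurj in
/-- An element of a tensor product which dies in the colimit dies at a later stage of the system. -/
theorem exists_tensor_vanish {N : Type u} [AddCommGroup N] [Module A₀ N] (i : ι) (x : N ⊗[A₀] G i)
    (hx : (g i).toLinearMap.lTensor N x = 0) :
    ∃ j, ∃ h : i ≤ j, (f i j h).toLinearMap.lTensor N x = 0 := by
  classical
  have happ := (H02CA.ColimTensor.approx_of_directed f hg hsurj hker).lTensor
    (R := A₀) (fun i => (g i).toLinearMap) (fun φ => φ.1.toLinearMap) N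
  obtain ⟨j, φ, hφ⟩ := happ.eq i x 0 (by rw [hx, map_zero])
  rw [map_zero] at hφ
  obtain ⟨k, hik, hjk⟩ := directed_of (· ≤ ·) i j
  obtain ⟨m, a, c, rfl⟩ := TensorProduct.exists_sum_tmul_eq x
  obtain ⟨l, hkl, hl⟩ := exists_forall_vanish f g hf hg hker (Finset.univ : Finset (Fin m)) k
    (fun t => f i k hik (c t) - f j k hjk (φ.1 (c t))) (fun t _ => by
      have h1 : g k (f i k hik (c t)) = g i (c t) := AlgHom.congr_fun (hg i k hik) (c t)
      have h2 : g k (f j k hjk (φ.1 (c t))) = g i (c t) :=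
        (AlgHom.congr_fun (hg j k hjk) (φ.1 (c t))).trans (AlgHom.congr_fun φ.2 (c t))
      rw [map_sub, h1, h2, sub_self])
  refine ⟨l, hik.trans hkl, ?_⟩
  have h0 := congrArg ((f j l (hjk.trans hkl)).toLinearMap.lTensor N) hφ
  rw [map_zero] at h0
  rw [← h0]
  simp only [map_sum, LinearMap.lTensor_tmul, AlgHom.toLinearMap_apply]
  refine Finset.sum_congr rfl fun t _ => ?_
  congr 1
  have := hl t (Finset.mem_univ t)
  rw [map_sub, sub_eq_zero, ← AlgHom.comp_apply, ← AlgHom.comp_apply, hf, hf] at this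
  exact this

end colim

theorem exists_sigma {R₁ R B S₀ C : Type u} [CommRing R₁] [CommRing R] [Algebra R₁ R] [CommRing B] [Algebra R₁ B]
    [CommRing S₀] [Algebra R S₀] [Algebra R₁ S₀] [IsScalarTower R₁ R S₀] [CommRing C] [Algebra R C] [Algebra R₁ C]
    [IsScalarTower R₁ R C] (g₀ : B →+* S₀) (hg₀ : ∀ r : R₁, g₀ (algebraMap R₁ B r) = algebraMap R₁ S₀ r)
    (hgen : ∀ s : S₀, s ∈ Submodule.span R (Set.range g₀)) :
    ∃ σ : B ⊗[R₁] C →+* S₀ ⊗[R] C, (∀ b c, σ (b ⊗ₜ c) = g₀ b ⊗ₜ c) ∧ Function.Surjective σ := by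
  let gl : B →ₐ[R₁] S₀ ⊗[R] C :=
    { toRingHom := (Algebra.TensorProduct.includeLeftRingHom (R := R) (A := S₀) (B := C)).comp g₀
      commutes' := fun r => by
        show g₀ (algebraMap R₁ B r) ⊗ₜ[R] (1 : C) = _
        rw [hg₀]
        rfl }
  let gr : C →ₐ[R₁] S₀ ⊗[R] C :=
    (Algebra.TensorProduct.includeRight : C →ₐ[R] S₀ ⊗[R] C).restrictScalars R₁
  let σ : B ⊗[R₁] C →ₐ[R₁] S₀ ⊗[R] C := Algebra.TensorProduct.lift gl gr fun _ _ => Commute.all _ _
  have hσ : ∀ b c, σ (b ⊗ₜ c) = g₀ b ⊗ₜ c := fun b c => by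
    rw [Algebra.TensorProduct.lift_tmul]
    show (g₀ b ⊗ₜ[R] (1 : C)) * ((1 : S₀) ⊗ₜ[R] c) = _
    rw [Algebra.TensorProduct.tmul_mul_tmul, mul_one, one_mul]
  refine ⟨σ.toRingHom, hσ, fun z => ?_⟩
  induction z with
  | zero => exact ⟨0, map_zero _⟩
  | add a b ha hb =>
    obtain ⟨a', rfl⟩ := ha
    obtain ⟨b', rfl⟩ := hb
    exact ⟨a' + b', map_add _ _ _⟩
  | tmul s c =>
    induction hgen s using Submodule.span_induction generalizing c with
    | zero => exact ⟨0, by rw [map_zero, zero_tmul]⟩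
    | add a b _ _ ha hb =>
      obtain ⟨a', ha⟩ := ha c
      obtain ⟨b', hb⟩ := hb c
      exact ⟨a' + b', by rw [map_add, ha, hb, add_tmul]⟩
    | smul r a _ ha =>
      obtain ⟨a', ha⟩ := ha (r • c)
      exact ⟨a', by rw [ha, ← smul_tmul]⟩
    | mem a ha =>
      obtain ⟨b, rfl⟩ := ha
      exact ⟨b ⊗ₜ c, hσ b c⟩

theorem model_of_iso {R₁ R B S₀ N₀ N P : Type u} [CommRing R₁] [IsNoetherianRing R₁] [CommRing R] [Algebra R₁ R]
    [CommRing B] [Algebra R₁ B] [Algebra.FiniteType R₁ B] [CommRing S₀] [Algebra R S₀] [CommRing P] [Algebra R P]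
    [AddCommGroup N₀] [Module R N₀] [Module S₀ N₀] [IsScalarTower R S₀ N₀] [Module P N₀]
    [AddCommGroup N] [Module R₁ N] [Module B N] [IsScalarTower R₁ B N] [Module.Finite B N]
    (π : P →ₐ[R] S₀) (hπ : Function.Surjective π) (hP : ∀ (p : P) (x : N₀), p • x = π p • x)
    (σP : B ⊗[R₁] R ≃+* P) (eN : BC R₁ B N R ≃ₗ[R] N₀)
    (hσA : ∀ a : R, σP (algebraMap R (B ⊗[R₁] R) a) = algebraMap R P a)
    (heN : ∀ s x, eN (s • x) = σP s • eN x) :
    ∃ (R₁ : Type u) (_ : CommRing R₁) (_ : IsNoetherianRing R₁) (_ : Algebra R₁ R) (_ : Algebra R₁ S₀)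
      (_ : IsScalarTower R₁ R S₀) (_ : Module R₁ N₀) (_ : IsScalarTower R₁ R N₀)
      (B : Type u) (_ : CommRing B) (_ : Algebra R₁ B) (_ : Algebra.FiniteType R₁ B)
      (N : Type u) (_ : AddCommGroup N) (_ : Module R₁ N) (_ : Module B N) (_ : IsScalarTower R₁ B N)
      (_ : Module.Finite B N) (e₁ : N →ₗ[R₁] N₀) (g₀ : B →+* S₀),
      IsBaseChange R e₁ ∧ (∀ b x, e₁ (b • x) = g₀ b • e₁ x) ∧
        (∀ r : R₁, g₀ (algebraMap R₁ B r) = algebraMap R₁ S₀ r) ∧
        ∀ s : S₀, s ∈ Submodule.span R (Set.range g₀) := by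
  letI : Algebra R₁ S₀ := ((algebraMap R S₀).comp (algebraMap R₁ R)).toAlgebra
  haveI : IsScalarTower R₁ R S₀ := IsScalarTower.of_algebraMap_eq fun _ => rfl
  letI : Module R₁ N₀ := Module.compHom N₀ (algebraMap R₁ R)
  haveI : IsScalarTower R₁ R N₀ := IsScalarTower.of_algebraMap_smul fun _ _ => rfl
  let g₀ : B →+* S₀ := (π.toRingHom.comp σP.toRingHom).comp (Algebra.TensorProduct.includeLeftRingHom (R := R₁) (A := B) (B := R))
  have hg₀ : ∀ r : R₁, g₀ (algebraMap R₁ B r) = algebraMap R₁ S₀ r := fun r => by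
    show π (σP ((algebraMap R₁ B r) ⊗ₜ (1 : R))) = _
    rw [Algebra.algebraMap_eq_smul_one, smul_tmul, ← Algebra.algebraMap_eq_smul_one]
    show π (σP (algebraMap R (B ⊗[R₁] R) (algebraMap R₁ R r))) = _
    rw [hσA, π.commutes]
    rfl
  have hr : ∀ (r : R₁) (x : N), toBC R₁ B N R (r • x) =
      algebraMap R₁ R r • toBC R₁ B N R x := fun r x => by
    rw [← IsScalarTower.algebraMap_smul B r x, Flattening.toBC_smul,
      ← IsScalarTower.algebraMap_smul (B ⊗[R₁] R) (algebraMap R₁ R r)]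
    congr 1
    show (algebraMap R₁ B r) ⊗ₜ[R₁] (1 : R) =
      (1 : B) ⊗ₜ[R₁] algebraMap R₁ R r
    rw [Algebra.algebraMap_eq_smul_one, smul_tmul, ← Algebra.algebraMap_eq_smul_one]
  let e₁ : N →ₗ[R₁] N₀ :=
    { toFun := fun x => eN (toBC R₁ B N R x)
      map_add' := fun a b => by rw [map_add, map_add]
      map_smul' := fun r x => by
        rw [hr, map_smul]
        rfl }
  haveI : Algebra.IsPushout R₁ R B (B ⊗[R₁] R) :=
    Algebra.IsPushout.symm inferInstance
  have he₁ : IsBaseChange R e₁ := IsBaseChange.of_equiv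
    ((Algebra.IsPushout.cancelBaseChange R₁ R B
      (B ⊗[R₁] R) N).symm.trans eN) fun x => by
      rw [LinearEquiv.trans_apply, Algebra.IsPushout.cancelBaseChange_symm_tmul, map_one]
      rfl
  have he₁g : ∀ b x, e₁ (b • x) = g₀ b • e₁ x := fun b x => by
    show eN (toBC R₁ B N R (b • x)) = _
    rw [Flattening.toBC_smul, heN, hP]
    rfl
  refine ⟨R₁, inferInstance, inferInstance, inferInstance, inferInstance, inferInstance, inferInstance, inferInstance,
    B, inferInstance, inferInstance, inferInstance, N, inferInstance, inferInstance, inferInstance, inferInstance,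
    inferInstance, e₁, g₀, he₁, he₁g, hg₀, fun s => ?_⟩
  obtain ⟨p, rfl⟩ := hπ s
  obtain ⟨p', rfl⟩ := σP.surjective p
  induction p' with
  | zero => rw [map_zero, map_zero]; exact zero_mem _
  | add a b ha hb => rw [map_add, map_add]; exact add_mem ha hb
  | tmul b r =>
    rw [show b ⊗ₜ[R₁] r = (b ⊗ₜ[R₁] (1 : R)) * algebraMap R (B ⊗[R₁] R) r by
      show _ = (b ⊗ₜ[R₁] (1 : R)) * ((1 : B) ⊗ₜ[R₁] r)
      rw [Algebra.TensorProduct.tmul_mul_tmul, mul_one, one_mul], map_mul, map_mul, hσA, π.commutes,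
      mul_comm, ← Algebra.smul_def]
    exact Submodule.smul_mem _ _ (Submodule.subset_span ⟨b, rfl⟩)

theorem exists_model_data {R S₀ N₀ : Type u} [CommRing R] [CommRing S₀] [Algebra R S₀] [Algebra.FinitePresentation R S₀]
    [AddCommGroup N₀] [Module R N₀] [Module S₀ N₀] [IsScalarTower R S₀ N₀] [Module.FinitePresentation S₀ N₀] :
    ∃ (R₁ : Type u) (_ : CommRing R₁) (_ : IsNoetherianRing R₁) (_ : Algebra R₁ R) (_ : Algebra R₁ S₀)
      (_ : IsScalarTower R₁ R S₀) (_ : Module R₁ N₀) (_ : IsScalarTower R₁ R N₀)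
      (B : Type u) (_ : CommRing B) (_ : Algebra R₁ B) (_ : Algebra.FiniteType R₁ B)
      (N : Type u) (_ : AddCommGroup N) (_ : Module R₁ N) (_ : Module B N) (_ : IsScalarTower R₁ B N)
      (_ : Module.Finite B N) (e₁ : N →ₗ[R₁] N₀) (g₀ : B →+* S₀),
      IsBaseChange R e₁ ∧ (∀ b x, e₁ (b • x) = g₀ b • e₁ x) ∧
        (∀ r : R₁, g₀ (algebraMap R₁ B r) = algebraMap R₁ S₀ r) ∧
        ∀ s : S₀, s ∈ Submodule.span R (Set.range g₀) := by
  obtain ⟨n, π, hπ, hker'⟩ := Algebra.FinitePresentation.out (R := R) (A := S₀)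
  let P := MvPolynomial (Fin n) R
  letI : Algebra P S₀ := π.toRingHom.toAlgebra
  haveI : IsScalarTower R P S₀ := IsScalarTower.of_algebraMap_eq fun x => (π.commutes x).symm
  haveI : Module.FinitePresentation P S₀ :=
    Module.finitePresentation_of_surjective (Algebra.linearMap P S₀) hπ hker'
  letI : Module P N₀ := Module.compHom N₀ π.toRingHom
  haveI : IsScalarTower P S₀ N₀ := IsScalarTower.of_algebraMap_smul fun _ _ => rfl
  haveI : IsScalarTower R P N₀ := IsScalarTower.of_algebraMap_smul fun a x => by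
    show π (algebraMap R _ a) • x = a • x
    rw [π.commutes, algebraMap_smul]
  haveI : Module.FinitePresentation P N₀ := Module.FinitePresentation.trans P N₀ S₀
  obtain ⟨R₁, hR₁, N, _, _, _, _, _, σP, eN, hσA, heN⟩ := exists_model (A := R) (n := n) N₀
  haveI : Algebra.FiniteType ℤ R₁ := R₁.fg_iff_finiteType.1 hR₁
  haveI : IsNoetherianRing R₁ := Algebra.FiniteType.isNoetherianRing ℤ R₁
  exact model_of_iso (B := MvPolynomial (Fin n) R₁) (N := N) π hπ (fun _ _ => rfl) σP eN hσA heN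

theorem exists_stage {R S : Type u} [CommRing R] [CommRing S] [Algebra R S] (hS : FlatCA.EssFinitePresentation R S)
    {M : Type u} [AddCommGroup M] [Module S M] [Module R M] [IsScalarTower R S M] [Module.FinitePresentation S M]
    {ι : Type u} [Preorder ι] (G : ι → Type u) [∀ i, CommRing (G i)] [∀ i, Algebra R (G i)]
    (g : ∀ i j, i ≤ j → G i →+* G j) (hgR : ∀ i j (h : i ≤ j), (g i j h).comp (algebraMap R (G i)) = algebraMap R (G j))
    (R' : Type u) [CommRing R'] [Algebra R R'] [∀ i, Algebra (G i) R'] [∀ i, IsScalarTower R (G i) R']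
    (hcolim : FlatCA.IsDirectedColimitRing G g R')
    (Il : ∀ i, Ideal (G i)) (hIl : ∀ i j (h : i ≤ j), (Il i).map (g i j h) ≤ Il j)
    {S' : Type u} [CommRing S'] [Algebra S S'] [Algebra R' S'] [Algebra R S'] [IsScalarTower R S S']
    [IsScalarTower R R' S'] [Algebra.IsPushout R S R' S']
    {M' : Type u} [AddCommGroup M'] [Module S' M'] [Module R' M'] [IsScalarTower R' S' M'] [Module S M']
    [IsScalarTower S S' M'] (f : M →ₗ[S] M') (hf : IsBaseChange S' f)
    (J : Ideal S)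
    (h : ∀ (q' : Ideal S') [q'.IsPrime],
      (⨆ i, (Il i).map (algebraMap (G i) R')).map (algebraMap R' S') ⊔ J.map (algebraMap S S') ≤ q' →
        FlatCA.FlatAt R' q' M') :
    ∃ i : ι, ∀ (Si Mi : Type u) [CommRing Si] [Algebra S Si] [Algebra (G i) Si] [Algebra R Si] [IsScalarTower R S Si]
      [IsScalarTower R (G i) Si] [Algebra.IsPushout R S (G i) Si] [AddCommGroup Mi] [Module Si Mi] [Module (G i) Mi]
      [IsScalarTower (G i) Si Mi] [Module S Mi] [IsScalarTower S Si Mi] (fi : M →ₗ[S] Mi), IsBaseChange Si fi →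
      ∀ (q : Ideal Si) [q.IsPrime], (Il i).map (algebraMap (G i) Si) ⊔ J.map (algebraMap S Si) ≤ q → FlatCA.FlatAt (G i) q Mi := by
  classical
  obtain ⟨hdir, hne, hid, hcomp, hcompat, hsurj, hker⟩ := hcolim
  haveI := hdir
  haveI := hne
  obtain ⟨S₀, _, _, _, _, W, hS₀, hW⟩ := hS
  haveI := hS₀
  haveI := hW
  obtain ⟨N₀, _, _, hN₀, ⟨e⟩⟩ := H7Flat.Chain.exists_fp_model (B := S) W M
  letI : Module R N₀ := Module.compHom N₀ (algebraMap R S₀)
  haveI : IsScalarTower R S₀ N₀ := IsScalarTower.of_algebraMap_smul fun _ _ => rfl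
  obtain ⟨R₁, _, _, _, _, _, _, _, B, _, _, _, N, _, _, _, _, _, e₁, g₀, he₁, he₁g, hg₀, hgen⟩ :=
    exists_model_data (R := R) (S₀ := S₀) (N₀ := N₀)
  letI algG : ∀ i, Algebra R₁ (G i) := fun i => ((algebraMap R (G i)).comp (algebraMap R₁ R)).toAlgebra
  haveI : ∀ i, IsScalarTower R₁ R (G i) := fun i => IsScalarTower.of_algebraMap_eq fun _ => rfl
  letI algR' : Algebra R₁ R' := ((algebraMap R R').comp (algebraMap R₁ R)).toAlgebra
  haveI : IsScalarTower R₁ R R' := IsScalarTower.of_algebraMap_eq fun _ => rfl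
  -- stage maps
  let gA : ∀ i, G i →ₐ[R] R' := fun i => IsScalarTower.toAlgHom R (G i) R'
  let gH : ∀ i j, i ≤ j → G i →ₐ[R] G j := fun i j hij =>
    { toRingHom := g i j hij, commutes' := fun r => RingHom.congr_fun (hgR i j hij) r }
  have hgH : ∀ i j (hij : i ≤ j), (gA j).comp (gH i j hij) = gA i := fun i j hij =>
    AlgHom.ext fun x => RingHom.congr_fun (hcompat i j hij) x
  have hgHc : ∀ i j k (hij : i ≤ j) (hjk : j ≤ k), (gH j k hjk).comp (gH i j hij) = gH i k (hij.trans hjk) :=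
    fun i j k hij hjk => AlgHom.ext fun x => RingHom.congr_fun (hcomp i j k hij hjk) x
  choose σ hσ hσsurj using fun i => exists_sigma (R := R) (C := G i) g₀ hg₀ hgen
  obtain ⟨σ', hσ', hσ'surj⟩ := exists_sigma (R := R) (C := R') g₀ hg₀ hgen
  -- transition maps of the model
  let τ : ∀ i j, i ≤ j → B ⊗[R₁] G i →ₐ[B] B ⊗[R₁] G j := fun i j hij =>
    mapBC B ((gH i j hij).restrictScalars R₁)
  let τ' : ∀ i, B ⊗[R₁] G i →ₐ[B] B ⊗[R₁] R' := fun i => mapBC B ((gA i).restrictScalars R₁)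
  have hττ : ∀ i j (hij : i ≤ j) x, τ' j (τ i j hij x) = τ' i x := fun i j hij x => by
    rw [mapBC_mapBC]
    congr 2
    exact AlgHom.ext fun y => AlgHom.congr_fun (hgH i j hij) y
  have hστ : ∀ i j (hij : i ≤ j) x, σ j (τ i j hij x) =
      (gH i j hij).toLinearMap.lTensor S₀ (σ i x) := fun i j hij x => by
    induction x with
    | zero => simp
    | add a b ha hb => simp only [map_add, ha, hb]
    | tmul b c =>
      rw [hσ i, LinearMap.lTensor_tmul, show τ i j hij (b ⊗ₜ c) = b ⊗ₜ gH i j hij c from rfl, hσ j]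
      rfl
  have hστ' : ∀ i x, σ' (τ' i x) = (gA i).toLinearMap.lTensor S₀ (σ i x) := fun i x => by
    induction x with
    | zero => simp
    | add a b ha hb => simp only [map_add, ha, hb]
    | tmul b c =>
      rw [hσ i, LinearMap.lTensor_tmul, show τ' i (b ⊗ₜ c) = b ⊗ₜ gA i c from rfl, hσ']
      rfl
  have hτ'surj : ∀ x, ∃ i y, τ' i y = x := fun x => by
    induction x with
    | zero => exact ⟨Classical.arbitrary ι, 0, map_zero _⟩
    | tmul b c =>
      obtain ⟨i, y, rfl⟩ := hsurj c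
      exact ⟨i, b ⊗ₜ y, rfl⟩
    | add a b ha hb =>
      obtain ⟨i, y, rfl⟩ := ha
      obtain ⟨j, z, rfl⟩ := hb
      obtain ⟨k, hik, hjk⟩ := directed_of (· ≤ ·) i j
      exact ⟨k, τ i k hik y + τ j k hjk z, by rw [map_add, hττ, hττ]⟩
  -- the ideals
  let J₀ : Ideal S₀ := J.comap (algebraMap S₀ S)
  let L : ∀ i, Ideal (B ⊗[R₁] G i) := fun i =>
    ((Il i).map (algebraMap (G i) (S₀ ⊗[R] G i)) ⊔
      J₀.map (Algebra.TensorProduct.includeLeftRingHom (R := R) (A := S₀) (B := G i))).comap (σ i)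
  have hLmono : ∀ i j (hij : i ≤ j), ∀ x ∈ L i, τ i j hij x ∈ L j := by
    intro i j hij x hx
    have key : ((Il i).map (algebraMap (G i) (S₀ ⊗[R] G i)) ⊔
        J₀.map (Algebra.TensorProduct.includeLeftRingHom (R := R) (A := S₀) (B := G i))) ≤
        ((Il j).map (algebraMap (G j) (S₀ ⊗[R] G j)) ⊔
          J₀.map (Algebra.TensorProduct.includeLeftRingHom (R := R) (A := S₀) (B := G j))).comap
          (Algebra.TensorProduct.map (AlgHom.id R S₀) (gH i j hij)).toRingHom := by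
      refine sup_le (Ideal.map_le_iff_le_comap.2 fun a ha => ?_) (Ideal.map_le_iff_le_comap.2 fun a ha => ?_)
      · rw [Ideal.mem_comap, Ideal.mem_comap]
        exact Ideal.mem_sup_left (Ideal.mem_map_of_mem _ (hIl i j hij (Ideal.mem_map_of_mem _ ha)))
      · rw [Ideal.mem_comap, Ideal.mem_comap]
        refine Ideal.mem_sup_right ?_
        show a ⊗ₜ[R] (gH i j hij 1) ∈ _
        rw [map_one]
        exact Ideal.mem_map_of_mem _ ha
    rw [Ideal.mem_comap, hστ]
    have e2 : (gH i j hij).toLinearMap.lTensor S₀ (σ i x) =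
        Algebra.TensorProduct.map (AlgHom.id R S₀) (gH i j hij) (σ i x) := by
      generalize σ i x = z
      induction z with
      | zero => simp
      | tmul a c => rfl
      | add a b ha hb => simp only [map_add, ha, hb]
    rw [e2]
    exact key hx
  let bad : ∀ i, Set (PrimeSpectrum (B ⊗[R₁] G i)) := fun i =>
    (flatLocus (G i) (B ⊗[R₁] G i) (BC R₁ B N (G i)))ᶜ
  let V : ∀ i, Ideal (B ⊗[R₁] G i) := fun i => PrimeSpectrum.vanishingIdeal (bad i)
  have hVmono : ∀ i j (hij : i ≤ j), ∀ x ∈ V i, τ i j hij x ∈ V j := by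
    intro i j hij x hx
    rw [PrimeSpectrum.mem_vanishingIdeal] at hx ⊢
    intro p hp
    refine hx (PrimeSpectrum.comap (τ i j hij).toRingHom p) fun hfl => hp ?_
    haveI : Module.Flat (G i) (LocalizedModule (p.asIdeal.comap
      (mapBC B ((gH i j hij).restrictScalars R₁)).toRingHom).primeCompl (BC R₁ B N (G i))) := hfl
    exact flat_localizedModule_baseChange ((gH i j hij).restrictScalars R₁) p.asIdeal
  have hmono : ∀ i j (hij : i ≤ j), ∀ x ∈ V i ⊔ L i, τ i j hij x ∈ V j ⊔ L j := by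
    intro i j hij x hx
    obtain ⟨a, ha, b, hb, rfl⟩ := Submodule.mem_sup.1 hx
    rw [map_add]
    exact Submodule.add_mem_sup (hVmono i j hij a ha) (hLmono i j hij b hb)
  let K : Ideal (B ⊗[R₁] R') :=
    { carrier := {x | ∃ i, ∃ y ∈ V i ⊔ L i, τ' i y = x}
      zero_mem' := ⟨Classical.arbitrary ι, 0, zero_mem _, map_zero _⟩
      add_mem' := by
        rintro _ _ ⟨i, y, hy, rfl⟩ ⟨j, z, hz, rfl⟩
        obtain ⟨k, hik, hjk⟩ := directed_of (· ≤ ·) i j
        exact ⟨k, _, add_mem (hmono i k hik y hy) (hmono j k hjk z hz), by rw [map_add, hττ, hττ]⟩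
      smul_mem' := by
        rintro c _ ⟨i, y, hy, rfl⟩
        obtain ⟨j, c', rfl⟩ := hτ'surj c
        obtain ⟨k, hik, hjk⟩ := directed_of (· ≤ ·) i j
        exact ⟨k, τ j k hjk c' * τ i k hik y, Ideal.mul_mem_left _ _ (hmono i k hik y hy),
          by rw [map_mul, hττ, hττ, smul_eq_mul]⟩ }
  -- equalities in the colimit hold at a stage
  have hstage : ∀ i (y : B ⊗[R₁] G i) (s : S₀), σ' (τ' i y) = s ⊗ₜ[R] (1 : R') →
      ∃ j, ∃ hij : i ≤ j, σ j (τ i j hij y) = s ⊗ₜ[R] (1 : G j) := by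
    intro i y s hy
    obtain ⟨j, hij, hj⟩ := exists_tensor_vanish gH gA hgHc hgH hsurj hker (N := S₀) i
      (σ i y - s ⊗ₜ[R] (1 : G i)) (by
        rw [map_sub, ← hστ', hy, LinearMap.lTensor_tmul, AlgHom.toLinearMap_apply, map_one, sub_self])
    refine ⟨j, hij, ?_⟩
    rw [map_sub, ← hστ, sub_eq_zero, LinearMap.lTensor_tmul, AlgHom.toLinearMap_apply, map_one] at hj
    exact hj
  let WT : Submonoid (B ⊗[R₁] R') :=
    (W.map (Algebra.TensorProduct.includeLeftRingHom (R := R) (A := S₀) (B := R') : S₀ →* S₀ ⊗[R] R')).comap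
      σ'
  by_cases hKW : Disjoint (K : Set (B ⊗[R₁] R')) (WT : Set (B ⊗[R₁] R'))
  · exfalso
    obtain ⟨𝔓, h𝔓, hKle, h𝔓W⟩ := Ideal.exists_le_prime_disjoint _ _ hKW
    have hkerσ : RingHom.ker σ' ≤ 𝔓 := by
      intro x hx
      obtain ⟨i, y, rfl⟩ := hτ'surj x
      obtain ⟨j, hij, hj⟩ := hstage i y 0 (by rw [RingHom.mem_ker.1 hx, zero_tmul])
      refine hKle ⟨j, τ i j hij y, Ideal.mem_sup_right ?_, hττ i j hij y⟩
      rw [Ideal.mem_comap, hj, zero_tmul]
      exact zero_mem _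
    let p' : Ideal (S₀ ⊗[R] R') := 𝔓.map σ'
    haveI : p'.IsPrime := Ideal.map_isPrime_of_surjective hσ'surj hkerσ
    have hp' : p'.comap σ' = 𝔓 := by
      rw [Ideal.comap_map_of_surjective' _ hσ'surj, sup_eq_left.2 hkerσ]
    obtain ⟨φ, hφ, hiff, hlift⟩ := FlatStage.exists_local_iff (R := R) W e f hf (G := R')
    obtain ⟨q', _, hq'⟩ := hlift p' fun w hw hwp => by
      obtain ⟨x, hx⟩ := hσ'surj (w ⊗ₜ[R] (1 : R'))
      have hx𝔓 : x ∈ 𝔓 := hp'.le (show σ' x ∈ p' by rw [hx]; exact hwp)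
      exact Set.disjoint_left.1 h𝔓W hx𝔓 (Submonoid.mem_comap.2 ⟨w, hw, hx.symm⟩)
    have hIJ : (⨆ i, (Il i).map (algebraMap (G i) R')).map (algebraMap R' S') ⊔ J.map (algebraMap S S') ≤ q' := by
      refine sup_le (Ideal.map_le_iff_le_comap.2 (iSup_le fun i => Ideal.map_le_iff_le_comap.2 fun a ha => ?_)) ?_
      · rw [Ideal.mem_comap, Ideal.mem_comap]
        have h1 : τ' i ((1 : B) ⊗ₜ a) ∈ 𝔓 := hKle ⟨i, _, Ideal.mem_sup_right (by
          rw [Ideal.mem_comap, hσ i, map_one]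
          exact Ideal.mem_sup_left (Ideal.mem_map_of_mem _ ha)), rfl⟩
        rw [← hp', ← hq', Ideal.mem_comap, Ideal.mem_comap] at h1
        rw [show τ' i ((1 : B) ⊗ₜ a) = (1 : B) ⊗ₜ gA i a from rfl, hσ', map_one, hφ, map_one, map_one,
          one_mul] at h1
        exact h1
      · rw [← IsLocalization.map_comap W S J, Ideal.map_map, Ideal.map_le_iff_le_comap]
        intro s hs
        rw [Ideal.mem_comap, RingHom.comp_apply]
        let i := Classical.arbitrary ι
        obtain ⟨y, hy⟩ := hσsurj i (s ⊗ₜ[R] (1 : G i))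
        have h1 : τ' i y ∈ 𝔓 := hKle ⟨i, y, Ideal.mem_sup_right (by
          rw [Ideal.mem_comap, hy]
          exact Ideal.mem_sup_right (Ideal.mem_map_of_mem _ hs)), rfl⟩
        rw [← hp', ← hq', Ideal.mem_comap, Ideal.mem_comap, hστ', hy, LinearMap.lTensor_tmul,
          AlgHom.toLinearMap_apply, map_one, hφ, map_one, mul_one] at h1
        exact h1
    have hfl : Module.Flat R' (LocalizedModule p'.primeCompl (BC R S₀ N₀ R')) :=
      (show ∀ (Q : Ideal (S₀ ⊗[R] R')) [Q.IsPrime], q'.comap φ = Q →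
          Module.Flat R' (LocalizedModule Q.primeCompl (BC R S₀ N₀ R')) from by
        intro Q _ hQ; subst hQ; exact (hiff q').1 (h q' hIJ)) p' hq'
    haveI hmodel : Module.Flat R' (LocalizedModule 𝔓.primeCompl (BC R₁ B N R')) :=
      (show ∀ (Q : Ideal (B ⊗[R₁] R')) [Q.IsPrime], p'.comap σ' = Q →
          Module.Flat R' (LocalizedModule Q.primeCompl (BC R₁ B N R')) from by
        intro Q _ hQ; subst hQ
        exact (FlatStage.flat_iff_of_surjective e₁ he₁ g₀ he₁g σ' hσ' hσ'surj p').1 hfl) 𝔓 hp'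

    obtain ⟨C, hC, hCflat⟩ := exists_stage_flat_at (R₀ := R₁) (B₀ := B) (M₀ := N) 𝔓
    haveI := hCflat C le_rfl hC
    haveI : Algebra.FiniteType R₁ C := C.fg_iff_finiteType.1 hC
    haveI : Algebra.FinitePresentation R₁ C := Algebra.FinitePresentation.of_finiteType.1 inferInstance
    have happ := H02CA.ColimTensor.approx_of_directed (A₀ := R₁) (g := fun i => (gA i).restrictScalars R₁)
      (fun i j hij => (gH i j hij).restrictScalars R₁)
      (fun i j hij => AlgHom.ext fun x => AlgHom.congr_fun (hgH i j hij) x) hsurj hker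
    obtain ⟨j, -, t, ht⟩ := H02CA.ColimDescent.lift_hom (v := fun i => (gA i).restrictScalars R₁)
      (lp := fun φ => φ.1) happ C.val (Classical.arbitrary ι)
    let Pj := 𝔓.comap (τ' j).toRingHom
    haveI : Module.Flat C (LocalizedModule (Pj.comap (mapBC B t).toRingHom).primeCompl (BC R₁ B N C)) := by
      have e3 : Pj.comap (mapBC B t).toRingHom = 𝔓.comap (mapBC B C.val).toRingHom := by
        rw [Ideal.comap_comap]
        refine congrArg (fun ψ => Ideal.comap ψ 𝔓) (RingHom.ext fun x => ?_)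
        show τ' j (mapBC B t x) = mapBC B C.val x
        rw [mapBC_mapBC, ht]
      have := hCflat C le_rfl hC
      exact (show ∀ (Q : Ideal (B ⊗[R₁] C)) [Q.IsPrime], 𝔓.comap (mapBC B C.val).toRingHom = Q →
          Module.Flat C (LocalizedModule Q.primeCompl (BC R₁ B N C)) from by
        intro Q _ hQ; subst hQ; exact this) _ e3.symm
    have hgood : Module.Flat (G j) (LocalizedModule Pj.primeCompl (BC R₁ B N (G j))) :=
      flat_localizedModule_baseChange t Pj
    have hopen : IsClosed (bad j) := (isOpen_flatLocus_baseChange (R₀ := R₁) (B₀ := B) (M₀ := N)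
      (A := G j)).isClosed_compl
    have hmem : (⟨Pj, inferInstance⟩ : PrimeSpectrum (B ⊗[R₁] G j)) ∈ bad j := by
      rw [← hopen.closure_eq, ← PrimeSpectrum.zeroLocus_vanishingIdeal_eq_closure, PrimeSpectrum.mem_zeroLocus]
      exact fun x hx => hKle ⟨j, x, Ideal.mem_sup_left hx, rfl⟩
    exact hmem hgood
  · obtain ⟨x, hxK, hxW⟩ := Set.not_disjoint_iff.1 hKW
    obtain ⟨i, y, hy, rfl⟩ := hxK
    obtain ⟨w, hw, hwx⟩ := Submonoid.mem_comap.1 hxW
    obtain ⟨j, hij, hj⟩ := hstage i y w hwx.symm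
    have hy' := hmono i j hij y hy
    refine ⟨j, ?_⟩
    intro Si Mi _ _ _ _ _ _ _ _ _ _ _ _ _ fi hfi q _ hq
    obtain ⟨φ, hφ, hiff, -⟩ := FlatStage.exists_local_iff (R := R) W e fi hfi (G := G j)
    rw [hiff q, FlatStage.flat_iff_of_surjective e₁ he₁ g₀ he₁g (σ j) (hσ j) (hσsurj j) (q.comap φ)]
    by_contra hnf
    have hVle : V j ≤ (q.comap φ).comap (σ j) := fun z hz =>
      (PrimeSpectrum.mem_vanishingIdeal _ z).1 hz ⟨(q.comap φ).comap (σ j), inferInstance⟩ hnf
    have hLle : L j ≤ (q.comap φ).comap (σ j) := by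
      refine Ideal.comap_mono (sup_le (Ideal.map_le_iff_le_comap.2 fun a ha => ?_)
        (Ideal.map_le_iff_le_comap.2 fun a ha => ?_))
      · rw [Ideal.mem_comap, Ideal.mem_comap]
        show φ ((1 : S₀) ⊗ₜ a) ∈ q
        rw [hφ, map_one, map_one, one_mul]
        exact hq (Ideal.mem_sup_left (Ideal.mem_map_of_mem _ ha))
      · rw [Ideal.mem_comap, Ideal.mem_comap]
        show φ (a ⊗ₜ (1 : G j)) ∈ q
        rw [hφ, map_one, mul_one]
        exact hq (Ideal.mem_sup_right (Ideal.mem_map_of_mem _ ha))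
    have h2 : φ (σ j (τ i j hij y)) ∈ q := (sup_le hVle hLle) hy'
    rw [hj, hφ, map_one, mul_one] at h2
    exact Ideal.IsPrime.ne_top inferInstance
      (q.eq_top_of_isUnit_mem h2 ((IsLocalization.map_units S (⟨w, hw⟩ : W)).map _))

end Groth.Agent.H8Norm.FlatStageMain
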