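import Groth.Agent.H06EGA11c.Detect
import Groth.Prelude.Def_FlatCA

/-!
# The flattening ideal over a complete local ring: universal property
-/

set_option autoImplicit false
set_option linter.style.haveILetI false
set_option backward.isDefEq.respectTransparency false

universe u

open TensorProduct

namespace Groth.Agent.H8Norm.Flattening

open H06EGA11

attribute [local instance] Algebra.TensorProduct.rightAlgebra

/-- Flatness at a prime does not depend on the model of the base change. -/
theorem flat_of_isBaseChange {R S M R' S₁ M₁ S₂ M₂ : Type u} [CommRing R] [CommRing S] [Algebra R S]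
    [AddCommGroup M] [Module R M] [Module S M] [IsScalarTower R S M] [CommRing R'] [Algebra R R']
    [CommRing S₁] [Algebra R' S₁] [AddCommGroup M₁] [Module S₁ M₁] [Module R' M₁] [IsScalarTower R' S₁ M₁]
    [Module R M₁] [IsScalarTower R R' M₁]
    [CommRing S₂] [Algebra R' S₂] [AddCommGroup M₂] [Module S₂ M₂] [Module R' M₂] [IsScalarTower R' S₂ M₂]
    [Module R M₂] [IsScalarTower R R' M₂]
    (f₁ : M →ₗ[R] M₁) (hf₁ : IsBaseChange R' f₁) (g₁ : S →+* S₁) (h₁ : ∀ s m, f₁ (s • m) = g₁ s • f₁ m)
    (f₂ : M →ₗ[R] M₂) (hf₂ : IsBaseChange R' f₂) (g₂ : S →+* S₂) (h₂ : ∀ s m, f₂ (s • m) = g₂ s • f₂ m)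
    (σ : S₁ →+* S₂) (hσg : ∀ s, σ (g₁ s) = g₂ s) (hσR : ∀ c, σ (algebraMap R' S₁ c) = algebraMap R' S₂ c)
    (hgen : ∀ x : S₁, x ∈ Submodule.span R' (Set.range g₁))
    (q : Ideal S₂) [q.IsPrime] [Module.Flat R' (LocalizedModule (q.comap σ).primeCompl M₁)] :
    Module.Flat R' (LocalizedModule q.primeCompl M₂) := by
  let e : M₁ ≃ₗ[R'] M₂ := hf₁.equiv.symm.trans hf₂.equiv
  have he : ∀ m, e (f₁ m) = f₂ m := fun m => by
    show hf₂.equiv (hf₁.equiv.symm (f₁ m)) = f₂ m
    rw [hf₁.equiv_symm_apply, hf₂.equiv_tmul, one_smul]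
  refine flat_localizedModule_of_equiv (M := M₂) (S' := S₁) (M' := M₁) σ e (fun s x => ?_)
    q.primeCompl (q.comap σ).primeCompl (fun s hs => hs)
  induction hgen s using Submodule.span_induction with
  | zero => simp
  | add a b _ _ ha hb => rw [add_smul, map_add, ha, hb, map_add, add_smul]
  | smul c a _ ha =>
    rw [smul_assoc, map_smul, ha, Algebra.smul_def, map_mul, hσR, ← Algebra.smul_def, smul_assoc]
  | mem a ha =>
    obtain ⟨s, rfl⟩ := ha
    induction x using hf₁.inductionOn with
    | zero => simp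
    | tmul m => rw [← h₁, he, h₂, he, hσg]
    | smul c y hy =>
      rw [← IsScalarTower.algebraMap_smul S₁ c y, ← mul_smul, mul_comm, mul_smul,
        IsScalarTower.algebraMap_smul, map_smul, hy, IsScalarTower.algebraMap_smul, map_smul,
        ← IsScalarTower.algebraMap_smul S₂ c (e y), ← IsScalarTower.algebraMap_smul S₂ c (σ _ • e y),
        ← mul_smul, ← mul_smul, mul_comm]
    | add a b ha hb => rw [smul_add, map_add, ha, hb, map_add, smul_add]

theorem mem_span_range_includeLeft {R S C : Type u} [CommRing R] [CommRing S] [Algebra R S] [CommRing C]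
    [Algebra R C] (x : S ⊗[R] C) :
    x ∈ Submodule.span C (Set.range (Algebra.TensorProduct.includeLeftRingHom : S →+* S ⊗[R] C)) := by
  induction x with
  | zero => exact zero_mem _
  | add a b ha hb => exact add_mem ha hb
  | tmul s c =>
    rw [show s ⊗ₜ[R] c = c • (Algebra.TensorProduct.includeLeftRingHom s : S ⊗[R] C) by
      rw [Algebra.smul_def]
      show s ⊗ₜ[R] c = ((1 : S) ⊗ₜ[R] c) * (s ⊗ₜ[R] (1 : C))
      rw [Algebra.TensorProduct.tmul_mul_tmul, one_mul, mul_one]]
    exact Submodule.smul_mem _ _ (Submodule.subset_span ⟨s, rfl⟩)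

theorem toBC_smul {R S M : Type u} [CommRing R] [CommRing S] [Algebra R S] [AddCommGroup M] [Module R M]
    [Module S M] [IsScalarTower R S M] (C : Type u) [CommRing C] [Algebra R C] (s : S) (m : M) :
    toBC R S M C (s • m) = (Algebra.TensorProduct.includeLeftRingHom s : S ⊗[R] C) • toBC R S M C m := by
  show (1 : S ⊗[R] C) ⊗ₜ[S] (s • m) = (s ⊗ₜ[R] (1 : C) : S ⊗[R] C) • ((1 : S ⊗[R] C) ⊗ₜ[S] m)
  rw [TensorProduct.smul_tmul', TensorProduct.tmul_smul, TensorProduct.smul_tmul']
  congr 1
  rw [Algebra.smul_def, smul_eq_mul]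
  rfl

variable {R S M : Type u} [CommRing R] [CommRing S] [Algebra R S] [AddCommGroup M] [Module R M]
  [Module S M] [IsScalarTower R S M]

/-- If `(M/IM)_q` is flat over `R/I` and `I` dies in `R'`, the base change is flat above `q`. -/
theorem flat_BC_of_map_eq_zero {R' : Type u} [CommRing R'] [Algebra R R'] (q : Ideal S) [q.IsPrime]
    (I : Ideal R) (hI : Module.Flat (R ⧸ I) ((R ⧸ I) ⊗[R] LocalizedModule q.primeCompl M))
    (h0 : I ≤ RingHom.ker (algebraMap R R')) (q' : Ideal (S ⊗[R] R')) [q'.IsPrime]
    (hq : q'.comap Algebra.TensorProduct.includeLeftRingHom ≤ q) :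
    Module.Flat R' (LocalizedModule q'.primeCompl (BC R S M R')) := by
  refine flat_localizedModule _ fun J x hx => ?_
  obtain ⟨z, rfl⟩ := (psi (B₀ := S) (M₀ := M) R' ↥J).surjective x
  have hz : (J.subtype.restrictScalars R).lTensor M z = 0 := by
    apply (psi (B₀ := S) (M₀ := M) R' R').injective
    rw [psi_lTensor, hx, map_zero]
  letI : Algebra (R ⧸ I) R' := (Ideal.Quotient.lift I (algebraMap R R') h0).toAlgebra
  haveI : IsScalarTower R (R ⧸ I) R' := IsScalarTower.of_algebraMap_eq fun r => rfl
  haveI : IsScalarTower (R ⧸ I) R' R' := IsScalarTower.right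
  let f : ↥J →ₗ[R ⧸ I] R' := J.subtype.restrictScalars (R ⧸ I)
  have hinj : Function.Injective ((f.restrictScalars R).lTensor (LocalizedModule q.primeCompl M)) := by
    rw [LinearMap.lTensor_inj_iff_rTensor_inj, ← H1CAlg.FlatDev.rTensor_baseChange_injective_iff]
    exact Module.Flat.rTensor_preserves_injective_linearMap f Subtype.val_injective
  obtain ⟨s, hs, hsz⟩ := exists_smul_eq_zero_of_injective q.primeCompl (f.restrictScalars R) hinj z hz
  refine ⟨s ⊗ₜ[R] (1 : R'), fun hmem => hs (hq hmem), ?_⟩
  rw [← psi_smul, hsz, map_zero]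

/-- Flatness of `(M/JM)_q` over the Artinian ring `R/J` from a local algebra detecting `R/J`. -/
theorem flat_quotient_of_artinian [IsNoetherianRing S] [Module.Finite S M] (J : Ideal R)
    [IsLocalRing (R ⧸ J)] [IsArtinianRing (R ⧸ J)] (C : Type u) [CommRing C] [IsLocalRing C] [Algebra R C]
    (hJ : RingHom.ker (algebraMap R C) = J) (q : Ideal S) [q.IsPrime]
    (hq : J.map (algebraMap R S) ≤ q)
    (h : ∀ (Q : Ideal (S ⊗[R] C)) [Q.IsPrime], Q.comap Algebra.TensorProduct.includeLeftRingHom = q →
      Q.comap (algebraMap C (S ⊗[R] C)) = IsLocalRing.maximalIdeal C →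
      Module.Flat C (LocalizedModule Q.primeCompl (BC R S M C))) :
    Module.Flat (R ⧸ J) ((R ⧸ J) ⊗[R] LocalizedModule q.primeCompl M) := by
  classical
  let A := R ⧸ J
  letI : Algebra A C := (Ideal.Quotient.lift J (algebraMap R C) hJ.ge).toAlgebra
  haveI : IsScalarTower R A C := IsScalarTower.of_algebraMap_eq fun r => rfl
  let T := S ⊗[R] A
  letI algAT : Algebra A T := Algebra.TensorProduct.rightAlgebra
  letI : CommRing (T ⊗[A] C) := inferInstance
  letI : Algebra T (T ⊗[A] C) := Algebra.TensorProduct.leftAlgebra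
  have hT : Function.Surjective (Algebra.TensorProduct.includeLeftRingHom : S →+* T) := by
    intro t
    induction t with
    | zero => exact ⟨0, map_zero _⟩
    | add a b ha hb =>
      obtain ⟨a', rfl⟩ := ha
      obtain ⟨b', rfl⟩ := hb
      exact ⟨a' + b', map_add _ _ _⟩
    | tmul s a =>
      obtain ⟨r, rfl⟩ := Ideal.Quotient.mk_surjective a
      refine ⟨r • s, ?_⟩
      show (r • s) ⊗ₜ[R] (1 : A) = _
      rw [smul_tmul]
      congr 1
      exact (Algebra.algebraMap_eq_smul_one r).symm
  haveI : IsNoetherianRing T := isNoetherianRing_of_surjective S T _ hT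
  haveI : Module.Finite T (BC R S M A) := inferInstance
  have hker : RingHom.ker (Algebra.TensorProduct.includeLeftRingHom : S →+* T) ≤ q := by
    intro x hx
    apply hq
    have := congrArg (Algebra.TensorProduct.lift (Algebra.ofId S (S ⧸ J.map (algebraMap R S)))
      (Ideal.Quotient.liftₐ J (Algebra.ofId R _) (fun a ha => (Ideal.Quotient.eq_zero_iff_mem).2
        (Ideal.mem_map_of_mem (algebraMap R S) ha))) (fun _ _ => Commute.all _ _)) (RingHom.mem_ker.1 hx)
    rw [show (Algebra.TensorProduct.includeLeftRingHom x : T) = x ⊗ₜ 1 from rfl, Algebra.TensorProduct.lift_tmul,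
      map_one, mul_one, map_zero] at this
    exact Ideal.Quotient.eq_zero_iff_mem.1 this
  let qt : Ideal T := q.map Algebra.TensorProduct.includeLeftRingHom
  haveI : qt.IsPrime := Ideal.map_isPrime_of_surjective hT hker
  have hqt : qt.comap Algebra.TensorProduct.includeLeftRingHom = q := by
    rw [Ideal.comap_map_of_surjective' _ hT, sup_eq_left.2 hker]
  haveI hflat : Module.Flat A (LocalizedModule qt.primeCompl (BC R S M A)) := by
    refine H06EGA11c.flat_localizedModule_of_family qt (fun _ : PUnit.{u+1} => C) (fun a ha => ?_) ?_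
    · obtain ⟨r, rfl⟩ := Ideal.Quotient.mk_surjective a
      exact Ideal.Quotient.eq_zero_iff_mem.2 (hJ.le (ha PUnit.unit))
    intro _ Q _ hQT hQC
    -- transport from the direct base change
    let g₁ : S →+* S ⊗[R] C := Algebra.TensorProduct.includeLeftRingHom
    let g₂ := RingHom.comp (Algebra.TensorProduct.includeLeftRingHom (R := A) (A := T) (B := C))
      (Algebra.TensorProduct.includeLeftRingHom (R := R) (A := S) (B := A))
    let σ : S ⊗[R] C →ₐ[R] T ⊗[A] C := Algebra.TensorProduct.lift
      { toRingHom := g₂, commutes' := fun r => by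
          show algebraMap T (T ⊗[A] C) (algebraMap R S r ⊗ₜ 1) = _
          rw [← Algebra.TensorProduct.algebraMap_apply]
          exact (IsScalarTower.algebraMap_apply R T (T ⊗[A] C) r).symm }
      { toRingHom := algebraMap C (T ⊗[A] C), commutes' := fun r => by
          show (1 : T) ⊗ₜ[A] algebraMap R C r = _
          rw [IsScalarTower.algebraMap_apply R A C, Algebra.algebraMap_eq_smul_one, ← smul_tmul,
            ← Algebra.algebraMap_eq_smul_one, ← Algebra.TensorProduct.algebraMap_apply]
          exact (IsScalarTower.algebraMap_apply R A (T ⊗[A] C) r).symm }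
      (fun _ _ => Commute.all _ _)
    haveI : IsScalarTower R A (BC A T (BC R S M A) C) := IsScalarTower.of_algebraMap_smul fun r y => by
      induction y using TensorProduct.induction_on with
      | zero => rw [smul_zero, smul_zero]
      | add a b ha hb => rw [smul_add, smul_add, ha, hb]
      | tmul t m => rw [TensorProduct.smul_tmul', TensorProduct.smul_tmul', IsScalarTower.algebraMap_smul]
    haveI : IsScalarTower R C (BC A T (BC R S M A) C) := IsScalarTower.of_algebraMap_smul fun r y => by
      rw [IsScalarTower.algebraMap_apply R A C, IsScalarTower.algebraMap_smul C (algebraMap R A r) y,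
        IsScalarTower.algebraMap_smul]
    let f₂ : M →ₗ[R] BC A T (BC R S M A) C :=
      ((toBC A T (BC R S M A) C).restrictScalars R).comp (toBC R S M A)
    have hf₂ : IsBaseChange C f₂ :=
      (isBaseChange_toBC (R₀ := R) (B₀ := S) (M₀ := M) A).comp
        (isBaseChange_toBC (R₀ := A) (B₀ := T) (M₀ := BC R S M A) C)
    have hσg : ∀ s, σ (g₁ s) = g₂ s := fun s => by
      show σ (s ⊗ₜ[R] (1 : C)) = g₂ s
      rw [Algebra.TensorProduct.lift_tmul, map_one, mul_one]
      rfl
    have hσC : ∀ c, σ (algebraMap C (S ⊗[R] C) c) = algebraMap C (T ⊗[A] C) c := fun c => by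
      show σ ((1 : S) ⊗ₜ[R] c) = _
      rw [Algebra.TensorProduct.lift_tmul, map_one, one_mul]
      rfl
    haveI := h (Q.comap σ.toRingHom)
      (by
        rw [Ideal.comap_comap, ← hqt, ← hQT, Ideal.comap_comap]
        exact congrArg (fun φ => Ideal.comap φ Q) (RingHom.ext hσg))
      (by
        rw [Ideal.comap_comap, ← hQC]
        exact congrArg (fun φ => Ideal.comap φ Q) (RingHom.ext hσC))
    exact flat_of_isBaseChange (toBC R S M C) (isBaseChange_toBC C) g₁ (toBC_smul C) f₂ hf₂ g₂
      (fun s m => by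
        show toBC A T (BC R S M A) C (toBC R S M A (s • m)) = _
        rw [toBC_smul, toBC_smul]
        rfl)
      σ.toRingHom hσg hσC mem_span_range_includeLeft Q
  refine flat_quotient_of_injective J fun P _ _ hP P' => ?_
  refine injective_lTensor_localizedModule _ _ fun x hx => ?_
  have htor : Module.IsTorsionBySet R P (J : Set R) := fun y a => hP a a.2 y
  letI := htor.module
  haveI : IsScalarTower R A P := htor.isScalarTower
  let P'' : Submodule A P :=
    { toAddSubmonoid := P'.toAddSubmonoid
      smul_mem' := fun a y hy => by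
        obtain ⟨r, rfl⟩ := Ideal.Quotient.mk_surjective a
        exact P'.smul_mem r hy }
  let x' : M ⊗[R] ↥P'' := x
  have hx' : P''.subtype.lTensor (BC R S M A) (psi (B₀ := S) A ↥P'' x') = 0 := by
    rw [← psi_lTensor]
    rw [show (P''.subtype.restrictScalars R).lTensor M x' = 0 from hx, map_zero]
  obtain ⟨t, ht, htx⟩ := exists_smul_eq_zero_of_flat qt.primeCompl P''.subtype Subtype.val_injective _ hx'
  obtain ⟨s, rfl⟩ := hT t
  refine ⟨s, fun hs => ht (Ideal.mem_map_of_mem _ hs), (psi (B₀ := S) (M₀ := M) A ↥P'').injective (a₁ := s • x') ?_⟩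
  rw [map_zero, ← htx]
  exact psi_smul _ _ s x'

/-- The universal property over Noetherian local algebras. -/
theorem iff_le_ker {R R' S' M' : Type u} [CommRing R] [IsLocalRing R] [IsNoetherianRing R] {S M : Type u}
    [CommRing S] [IsNoetherianRing S] [CommRing R'] [IsLocalRing R'] [IsNoetherianRing R'] [CommRing S']
    [Algebra R S] [Algebra R R'] [IsLocalHom (algebraMap R R')] [Algebra S S'] [Algebra R' S'] [Algebra R S']
    [IsScalarTower R S S'] [IsScalarTower R R' S'] [Algebra.IsPushout R S R' S']
    [AddCommGroup M] [Module S M] [Module R M] [IsScalarTower R S M] [Module.Finite S M]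
    [AddCommGroup M'] [Module S' M'] [Module R' M'] [IsScalarTower R' S' M'] [Module S M'] [IsScalarTower S S' M']
    (f : M →ₗ[S] M') (hf : IsBaseChange S' f) (I : Ideal R)
    (hI : (∀ (q : Ideal S) [q.IsPrime], q.comap (algebraMap R S) = IsLocalRing.maximalIdeal R →
        Module.Flat (R ⧸ I) ((R ⧸ I) ⊗[R] LocalizedModule q.primeCompl M)))
    (hmin : ∀ J : Ideal R, (∀ (q : Ideal S) [q.IsPrime], q.comap (algebraMap R S) = IsLocalRing.maximalIdeal R →
        Module.Flat (R ⧸ J) ((R ⧸ J) ⊗[R] LocalizedModule q.primeCompl M)) → I ≤ J) :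
    (∀ (q' : Ideal S') [q'.IsPrime], q'.comap (algebraMap R' S') = IsLocalRing.maximalIdeal R' →
        FlatCA.FlatAt R' q' M') ↔
      I ≤ RingHom.ker (algebraMap R R') := by
  classical
  have hm : (IsLocalRing.maximalIdeal R').comap (algebraMap R R') = IsLocalRing.maximalIdeal R :=
    IsLocalRing.maximalIdeal_comap (algebraMap R R')
  letI : Module R M' := Module.compHom M' (algebraMap R R')
  haveI : IsScalarTower R R' M' := IsScalarTower.of_algebraMap_smul fun _ _ => rfl
  haveI : IsScalarTower R S M' := IsScalarTower.of_algebraMap_smul fun r x => by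
    rw [← IsScalarTower.algebraMap_smul S' (algebraMap R S r) x, ← IsScalarTower.algebraMap_apply,
      IsScalarTower.algebraMap_apply R R' S', IsScalarTower.algebraMap_smul]
    rfl
  let f₂ : M →ₗ[R] M' := f.restrictScalars R
  haveI : Algebra.IsPushout R R' S S' := Algebra.IsPushout.symm inferInstance
  have hf₂ : IsBaseChange R' f₂ := by
    refine IsBaseChange.of_equiv
      ((Algebra.IsPushout.cancelBaseChange R R' S S' M).symm.trans (hf.equiv.restrictScalars R')) fun m => ?_
    show hf.equiv ((Algebra.IsPushout.cancelBaseChange R R' S S' M).symm _) = f m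
    rw [Algebra.IsPushout.cancelBaseChange_symm_tmul, map_one, hf.equiv_tmul, one_smul]
  have h₂ : ∀ s m, f₂ (s • m) = algebraMap S S' s • f₂ m := fun s m => by
    show f (s • m) = _
    rw [map_smul, IsScalarTower.algebraMap_smul]
    rfl
  constructor
  · intro hflat r hr
    rw [RingHom.mem_ker]
    have hinf := Ideal.iInf_pow_eq_bot_of_isLocalRing (IsLocalRing.maximalIdeal R')
      (IsLocalRing.maximalIdeal.isMaximal R').ne_top
    rw [← Ideal.mem_bot, ← hinf, Submodule.mem_iInf]
    intro n
    rcases n with - | n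
    · simp
    let K := IsLocalRing.maximalIdeal R' ^ (n + 1)
    let C := R' ⧸ K
    have hK : K ≤ IsLocalRing.maximalIdeal R' := Ideal.pow_le_self (Nat.succ_ne_zero n)
    haveI : Nontrivial C := Ideal.Quotient.nontrivial_iff.2
      (ne_top_of_le_ne_top (IsLocalRing.maximalIdeal.isMaximal R').ne_top hK)
    haveI : IsLocalRing C := .of_surjective' (Ideal.Quotient.mk K) Ideal.Quotient.mk_surjective
    haveI : IsLocalHom (Ideal.Quotient.mk K) :=
      IsLocalHom.of_surjective _ Ideal.Quotient.mk_surjective
    let J := RingHom.ker (algebraMap R C)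
    have hJm : J ≤ IsLocalRing.maximalIdeal R := fun a ha => by
      rw [← hm, Ideal.mem_comap]
      exact hK (Ideal.Quotient.eq_zero_iff_mem.1 ha)
    have hmJ : IsLocalRing.maximalIdeal R ^ (n + 1) ≤ J := fun a ha =>
      Ideal.Quotient.eq_zero_iff_mem.2 (((Ideal.map_pow _ _ _).le.trans
        (Ideal.pow_right_mono (Ideal.map_le_iff_le_comap.2 hm.ge) _)) (Ideal.mem_map_of_mem _ ha))
    haveI : Nontrivial (R ⧸ J) := Ideal.Quotient.nontrivial_iff.2
      (ne_top_of_le_ne_top (IsLocalRing.maximalIdeal.isMaximal R).ne_top hJm)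
    haveI : IsLocalRing (R ⧸ J) := .of_surjective' (Ideal.Quotient.mk J) Ideal.Quotient.mk_surjective
    haveI : IsArtinianRing (R ⧸ J) := (isArtinianRing_iff_isNilpotent_maximalIdeal _).2 ⟨n + 1, by
      rw [← IsLocalRing.map_maximalIdeal_of_surjective _ Ideal.Quotient.mk_surjective, ← Ideal.map_pow,
        Submodule.zero_eq_bot, ← le_bot_iff]
      exact (Ideal.map_mono hmJ).trans (Ideal.map_quotient_self J).le⟩
    have hJ : I ≤ J := hmin J fun q _ hq => by
      refine flat_quotient_of_artinian J C rfl q
        (Ideal.map_le_iff_le_comap.2 (hJm.trans hq.ge)) fun Q _ hQq hQC => ?_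
      let ι : R' →ₐ[R] C := Ideal.Quotient.mkₐ R K
      haveI : Module.Flat R' (LocalizedModule (Q.comap (mapBC S ι).toRingHom).primeCompl (BC R S M R')) := by
        let σ : S' →+* S ⊗[R] R' := (Algebra.IsPushout.equiv R S R' S').symm.toRingEquiv.toRingHom
        haveI : Module.Flat R' (LocalizedModule ((Q.comap (mapBC S ι).toRingHom).comap σ).primeCompl M') := by
          refine hflat _ ?_
          have e : ((mapBC S ι).toRingHom.comp σ).comp (algebraMap R' S') =
              (algebraMap C (S ⊗[R] C)).comp ι.toRingHom := RingHom.ext fun c => by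
            show mapBC S ι ((Algebra.IsPushout.equiv R S R' S').symm (algebraMap R' S' c)) = (1 : S) ⊗ₜ[R] ι c
            rw [Algebra.IsPushout.equiv_symm_algebraMap_right, mapBC_tmul]
          rw [Ideal.comap_comap, Ideal.comap_comap, ← RingHom.comp_assoc, e, ← Ideal.comap_comap, hQC]
          exact IsLocalRing.maximalIdeal_comap (Ideal.Quotient.mk K)
        refine flat_of_isBaseChange f₂ hf₂ (algebraMap S S') h₂ (toBC R S M R') (isBaseChange_toBC R')
          Algebra.TensorProduct.includeLeftRingHom (toBC_smul R') σ (fun s => ?_) (fun c => ?_) (fun x => ?_) _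
        · exact Algebra.IsPushout.equiv_symm_algebraMap_left R S R' S' s
        · exact Algebra.IsPushout.equiv_symm_algebraMap_right R S R' S' c
        · induction x using (Algebra.IsPushout.out (R := R) (S := R') (R' := S) (S' := S')).inductionOn with
          | zero => exact zero_mem _
          | tmul m => exact Submodule.subset_span ⟨m, rfl⟩
          | smul c y hy => exact Submodule.smul_mem _ _ hy
          | add a b ha hb => exact add_mem ha hb
      exact flat_localizedModule_baseChange ι Q
    exact Ideal.Quotient.eq_zero_iff_mem.1 (hJ hr)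
  · intro hker q' _ hq'
    have hq : (q'.comap (algebraMap S S')).comap (algebraMap R S) = IsLocalRing.maximalIdeal R := by
      rw [Ideal.comap_comap, ← IsScalarTower.algebraMap_eq, IsScalarTower.algebraMap_eq R R' S',
        ← Ideal.comap_comap, hq', hm]
    let σ : S ⊗[R] R' →+* S' := (Algebra.IsPushout.equiv R S R' S').toRingEquiv.toRingHom
    have hσl : ∀ s : S, σ (s ⊗ₜ[R] (1 : R')) = algebraMap S S' s := fun s => by
      show Algebra.IsPushout.equiv R S R' S' _ = _
      rw [Algebra.IsPushout.equiv_tmul, map_one, mul_one]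
    haveI : Module.Flat R' (LocalizedModule (q'.comap σ).primeCompl (BC R S M R')) := by
      refine flat_BC_of_map_eq_zero (q'.comap (algebraMap S S')) I (hI _ hq) hker _ fun s hs => ?_
      rw [Ideal.mem_comap, ← hσl s]
      have h1 : (Algebra.TensorProduct.includeLeftRingHom (R := R) (A := S) (B := R') s) ∈ q'.comap σ :=
        Ideal.mem_comap.1 hs
      exact Ideal.mem_comap.1 h1
    let g₁ : S →+* S ⊗[R] R' := Algebra.TensorProduct.includeLeftRingHom
    have hσg : ∀ s : S, σ (g₁ s) = algebraMap S S' s := hσl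
    have hσR : ∀ c : R', σ (algebraMap R' (S ⊗[R] R') c) = algebraMap R' S' c := fun c => by
      show Algebra.IsPushout.equiv R S R' S' ((1 : S) ⊗ₜ[R] c) = _
      rw [Algebra.IsPushout.equiv_tmul, map_one, one_mul]
    have hg₁ : ∀ (s : S) (m : M), toBC R S M R' (s • m) = g₁ s • toBC R S M R' m := toBC_smul R'
    have hgen : ∀ x : S ⊗[R] R', x ∈ Submodule.span R' (Set.range g₁) := mem_span_range_includeLeft
    exact flat_of_isBaseChange (toBC R S M R') (isBaseChange_toBC R') g₁ hg₁ f₂ hf₂ (algebraMap S S') h₂ σ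
      hσg hσR hgen q'

end Groth.Agent.H8Norm.Flattening
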