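import Groth.Agent.H8Norm.FlatteningIdeal
import Groth.Agent.H8Norm.FlatStageMain
import Mathlib.RingTheory.FinitePresentation
import Mathlib.RingTheory.Localization.AtPrime.Basic

/-!
# The flattening ideal for arbitrary local test rings
-/

set_option autoImplicit false
set_option linter.style.haveILetI false
set_option backward.isDefEq.respectTransparency false

universe u

open TensorProduct

namespace Groth.Agent.H8Norm.FlatteningFT

open H06EGA11

attribute [local instance] Algebra.TensorProduct.rightAlgebra

/-- A local algebra is the directed colimit of the localisations of its finitely generated subalgebras. -/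
theorem exists_local_system (R R' : Type u) [CommRing R] [IsNoetherianRing R] [IsLocalRing R] [CommRing R']
    [IsLocalRing R'] [Algebra R R'] [IsLocalHom (algebraMap R R')] :
    ∃ (ι : Type u) (_ : Preorder ι) (G : ι → Type u) (_ : ∀ i, CommRing (G i)) (_ : ∀ i, IsLocalRing (G i))
      (_ : ∀ i, IsNoetherianRing (G i)) (_ : ∀ i, Algebra R (G i)) (_ : ∀ i, IsLocalHom (algebraMap R (G i)))
      (_ : ∀ i, Algebra (G i) R') (_ : ∀ i, IsScalarTower R (G i) R') (g : ∀ i j, i ≤ j → G i →+* G j),
      (∀ i j (h : i ≤ j), (g i j h).comp (algebraMap R (G i)) = algebraMap R (G j)) ∧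
        (∀ i j (h : i ≤ j), (IsLocalRing.maximalIdeal (G i)).map (g i j h) ≤ IsLocalRing.maximalIdeal (G j)) ∧
        FlatCA.IsDirectedColimitRing G g R' ∧
        (⨆ i, (IsLocalRing.maximalIdeal (G i)).map (algebraMap (G i) R')) = IsLocalRing.maximalIdeal R' := by
  classical
  let ι := {A : Subalgebra R R' // A.FG}
  let P : ∀ A : ι, Ideal A.1 := fun A => (IsLocalRing.maximalIdeal R').comap A.1.val.toRingHom
  haveI : ∀ A : ι, (P A).IsPrime := fun A => Ideal.IsPrime.comap _
  let G : ι → Type u := fun A => Localization.AtPrime (P A)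
  let v : ∀ A, G A →+* R' := fun A =>
    IsLocalization.lift (M := (P A).primeCompl) (g := A.1.val.toRingHom) fun s => by
      have h : (s.1 : R') ∉ IsLocalRing.maximalIdeal R' := s.2
      exact not_not.1 h
  have hv : ∀ A (a : A.1), v A (algebraMap A.1 (G A) a) = a.1 := fun A a => IsLocalization.lift_eq _ a
  letI algv : ∀ A, Algebra (G A) R' := fun A => (v A).toAlgebra
  haveI : ∀ A, IsScalarTower R (G A) R' := fun A => IsScalarTower.of_algebraMap_eq fun r => by
    show _ = v A (algebraMap R (G A) r)
    rw [IsScalarTower.algebraMap_apply R A.1 (G A), hv]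
    rfl
  haveI : ∀ A : ι, IsNoetherianRing (G A) := fun A => by
    haveI : Algebra.FiniteType R A.1 := A.1.fg_iff_finiteType.1 A.2
    haveI : IsNoetherianRing A.1 := Algebra.FiniteType.isNoetherianRing R A.1
    exact IsLocalization.isNoetherianRing (P A).primeCompl _ inferInstance
  have hinj : ∀ A, Function.Injective (v A) := fun A => by
    refine (injective_iff_map_eq_zero _).2 fun x hx => ?_
    obtain ⟨a, s, rfl⟩ := IsLocalization.exists_mk'_eq (P A).primeCompl x
    rw [IsLocalization.lift_mk'_spec, mul_zero] at hx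
    rw [show a = 0 from Subtype.ext hx, IsLocalization.mk'_zero]
  have hloc : ∀ A : ι, IsLocalHom (algebraMap R (G A)) := fun A => ⟨fun r hr => by
    have h1 : IsUnit (algebraMap R R' r) := by
      rw [IsScalarTower.algebraMap_apply R (G A) R']
      exact hr.map _
    exact (isUnit_map_iff (algebraMap R R') r).1 h1⟩
  haveI := hloc
  let g : ∀ A B : ι, A ≤ B → G A →+* G B := fun A B h =>
    Localization.localRingHom (P A) (P B) (Subalgebra.inclusion h).toRingHom rfl
  have hgv : ∀ A B (h : A ≤ B) x, v B (g A B h x) = v A x := fun A B h x => by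
    have : (v B).comp (g A B h) = v A := IsLocalization.ringHom_ext (P A).primeCompl (RingHom.ext fun a => by
      show v B (g A B h (algebraMap A.1 (G A) a)) = v A (algebraMap A.1 (G A) a)
      rw [Localization.localRingHom_to_map, hv, hv]
      rfl)
    exact RingHom.congr_fun this x
  have hmem : ∀ a : R', ∃ (A : ι) (x : G A), v A x = a := fun a =>
    ⟨⟨Algebra.adjoin R (({a} : Finset R') : Set R'), Subalgebra.fg_adjoin_finset _⟩,
      algebraMap _ _ (⟨a, Algebra.subset_adjoin (by simp)⟩ : Algebra.adjoin R (({a} : Finset R') : Set R')), hv _ _⟩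
  refine ⟨ι, inferInstance, G, inferInstance, inferInstance, inferInstance, inferInstance, inferInstance, algv,
    inferInstance, g, fun A B h => RingHom.ext fun r => hinj B ?_, fun A B h => ?_, ?_, ?_⟩
  · show v B (g A B h (algebraMap R (G A) r)) = v B (algebraMap R (G B) r)
    rw [hgv]
    exact ((IsScalarTower.algebraMap_apply R (G A) R' r).symm).trans (IsScalarTower.algebraMap_apply R (G B) R' r)
  · haveI : IsLocalHom (g A B h) := Localization.isLocalHom_localRingHom _ _ _ _
    exact Ideal.map_le_iff_le_comap.2 (IsLocalRing.maximalIdeal_comap (g A B h)).ge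
  · have hd : IsDirected ι (· ≤ ·) := ⟨fun A B => ⟨⟨A.1 ⊔ B.1, A.2.sup B.2⟩,
      (le_sup_left : A.1 ≤ A.1 ⊔ B.1), (le_sup_right : B.1 ≤ A.1 ⊔ B.1)⟩⟩
    refine ⟨hd, ⟨⟨⊥, Subalgebra.fg_bot⟩⟩,
      fun A => RingHom.ext fun x => hinj A (by rw [hgv]; rfl),
      fun A B C hAB hBC => RingHom.ext fun x => hinj C (by rw [RingHom.comp_apply, hgv, hgv, hgv]),
      fun A B h => RingHom.ext fun x => hgv A B h x, hmem, fun A x hx => ⟨A, le_rfl, hinj A ?_⟩⟩
    rw [hgv, map_zero]
    exact hx
  · refine le_antisymm (iSup_le fun A => Ideal.map_le_iff_le_comap.2 fun x hx => ?_) fun a ha => ?_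
    · obtain ⟨a, s, rfl⟩ := IsLocalization.exists_mk'_eq (P A).primeCompl x
      have hu : ¬ IsUnit (IsLocalization.mk' (G A) a s) := hx
      rw [IsLocalization.AtPrime.isUnit_mk'_iff, Ideal.mem_primeCompl_iff, not_not] at hu
      rw [Ideal.mem_comap]
      intro hunit
      apply hu
      have h1 := (IsLocalization.lift_mk'_spec (S := G A) _ a (v A (IsLocalization.mk' (G A) a s)) s).1 rfl
      show IsUnit (a.1 : R')
      rw [show (a.1 : R') = _ from h1]
      refine IsUnit.mul ?_ hunit
      have h : (s.1 : R') ∉ IsLocalRing.maximalIdeal R' := s.2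
      exact not_not.1 h
    · obtain ⟨A, x, rfl⟩ := hmem a
      refine Ideal.mem_iSup_of_mem A (Ideal.mem_map_of_mem (algebraMap (G A) R') ?_)
      exact fun hu => ha (hu.map (v A))

theorem iff_le_ker {R R' S' M' : Type u} [CommRing R] [IsLocalRing R] [IsNoetherianRing R] {S M : Type u}
    [CommRing S] [CommRing R'] [IsLocalRing R'] [CommRing S']
    [Algebra R S] [Algebra.FiniteType R S] [Algebra R R'] [IsLocalHom (algebraMap R R')] [Algebra S S']
    [Algebra R' S'] [Algebra R S']
    [IsScalarTower R S S'] [IsScalarTower R R' S'] [Algebra.IsPushout R S R' S']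
    [AddCommGroup M] [Module S M] [Module R M] [IsScalarTower R S M] [Module.Finite S M]
    [AddCommGroup M'] [Module S' M'] [Module R' M'] [IsScalarTower R' S' M'] [Module S M'] [IsScalarTower S S' M']
    (f : M →ₗ[S] M') (hf : IsBaseChange S' f) (I : Ideal R)
    (hI : (∀ (q : Ideal S) [q.IsPrime], q.comap (algebraMap R S) = IsLocalRing.maximalIdeal R →
        Module.Flat (R ⧸ I) ((R ⧸ I) ⊗[R] LocalizedModule q.primeCompl M)))
    (hmin : ∀ J : Ideal R, (∀ (q : Ideal S) [q.IsPrime], q.comap (algebraMap R S) = IsLocalRing.maximalIdeal R →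
        Module.Flat (R ⧸ J) ((R ⧸ J) ⊗[R] LocalizedModule q.primeCompl M)) → I ≤ J) :
    (∀ (q' : Ideal S') [q'.IsPrime], q'.comap (algebraMap R' S') = IsLocalRing.maximalIdeal R' →
        FlatCA.FlatAt R' q' M') ↔
      I ≤ RingHom.ker (algebraMap R R') := by
  classical
  haveI : IsNoetherianRing S := Algebra.FiniteType.isNoetherianRing R S
  haveI : IsLocalization (⊥ : Submonoid S) S := IsLocalization.self bot_le
  constructor
  · intro hflat
    haveI : Algebra.FinitePresentation R S := Algebra.FinitePresentation.of_finiteType.1 inferInstance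
    haveI : Module.FinitePresentation S M := Module.finitePresentation_of_finite S M
    have hS : FlatCA.EssFinitePresentation R S :=
      ⟨S, inferInstance, inferInstance, Algebra.id S, inferInstance, ⊥, inferInstance, inferInstance⟩
    obtain ⟨ι, _, G, _, _, _, _, _, _, _, g, hgR, hgm, hcolim, hsup⟩ := exists_local_system R R'
    obtain ⟨i, hi⟩ := FlatStageMain.exists_stage hS G g hgR R' hcolim
      (fun i => IsLocalRing.maximalIdeal (G i)) hgm f hf ⊥ (fun q' _ hq' => hflat q' (by
        rw [hsup, Ideal.map_bot, sup_bot_eq, Ideal.map_le_iff_le_comap] at hq'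
        exact ((IsLocalRing.maximalIdeal.isMaximal R').eq_of_le (Ideal.IsPrime.ne_top inferInstance) hq').symm))
    have hle := (Flattening.iff_le_ker (R := R) (R' := G i) (S := S) (S' := S ⊗[R] G i) (M := M)
      (M' := BC R S M (G i)) (TensorProduct.mk S (S ⊗[R] G i) M 1) (TensorProduct.isBaseChange S M _) I hI hmin).1
      (fun q _ hq => hi (S ⊗[R] G i) (BC R S M (G i)) (TensorProduct.mk S (S ⊗[R] G i) M 1)
        (TensorProduct.isBaseChange S M _) q (by
          rw [Ideal.map_bot, sup_bot_eq, Ideal.map_le_iff_le_comap, hq]))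
    intro r hr
    rw [RingHom.mem_ker, IsScalarTower.algebraMap_apply R (G i) R', RingHom.mem_ker.1 (hle hr), map_zero]
  · intro hker q' _ hq'
    obtain ⟨φ, hφ, hiff, -⟩ := FlatStage.exists_local_iff (R := R) (S₀ := S) (⊥ : Submonoid S)
      (N₀ := M) (M := M) (TensorProduct.lid S M) f hf (G := R')
    rw [hiff q']
    have hq : (q'.comap φ).comap Algebra.TensorProduct.includeLeftRingHom = q'.comap (algebraMap S S') := by
      rw [Ideal.comap_comap]
      refine congrArg (fun ψ => Ideal.comap ψ q') (RingHom.ext fun s => ?_)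
      show φ (s ⊗ₜ (1 : R')) = _
      rw [hφ, map_one, mul_one]
      rfl
    refine Flattening.flat_BC_of_map_eq_zero (q'.comap (algebraMap S S')) I (hI _ ?_) hker _ hq.le
    rw [Ideal.comap_comap, ← IsScalarTower.algebraMap_eq, IsScalarTower.algebraMap_eq R R' S',
      ← Ideal.comap_comap, hq', IsLocalRing.maximalIdeal_comap (algebraMap R R')]

end Groth.Agent.H8Norm.FlatteningFT
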