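import Groth.Agent.H8Norm.Flattening
import Groth.Agent.H7Flat.ArtinFlattening

/-!
# Existence of the flattening ideal over a complete Noetherian local ring
-/

set_option autoImplicit false
set_option linter.style.haveILetI false
set_option backward.isDefEq.respectTransparency false

universe u

open TensorProduct

namespace Groth.Agent.H8Norm.FlatteningIdeal

open H06EGA11

attribute [local instance] Algebra.TensorProduct.rightAlgebra

variable {R : Type u} [CommRing R] {N : Type u} [AddCommGroup N] [Module R N]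

/-- `(N/JN)` flat over `R/J` is injective on modules killed by `J`. -/
theorem injective_of_killed (J : Ideal R) (h : Module.Flat (R ⧸ J) ((R ⧸ J) ⊗[R] N))
    {Q : Type u} [AddCommGroup Q] [Module R Q] (hQ : ∀ a ∈ J, ∀ x : Q, a • x = 0) (P : Submodule R Q) :
    Function.Injective (P.subtype.lTensor N) := by
  have htor : Module.IsTorsionBySet R Q (J : Set R) := fun y a => hQ a a.2 y
  letI := htor.module
  haveI : IsScalarTower R (R ⧸ J) Q := htor.isScalarTower
  let P'' : Submodule (R ⧸ J) Q :=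
    { toAddSubmonoid := P.toAddSubmonoid
      smul_mem' := fun a y hy => by
        obtain ⟨r, rfl⟩ := Ideal.Quotient.mk_surjective a
        exact P.smul_mem r hy }
  rw [LinearMap.lTensor_inj_iff_rTensor_inj]
  exact (H1CAlg.FlatDev.rTensor_baseChange_injective_iff P''.subtype).1
    (Module.Flat.rTensor_preserves_injective_linearMap P''.subtype Subtype.val_injective)

/-- Flatness over `R/J` passes to larger ideals. -/
theorem flat_mono {J J' : Ideal R} (hJ : J ≤ J') (h : Module.Flat (R ⧸ J) ((R ⧸ J) ⊗[R] N)) :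
    Module.Flat (R ⧸ J') ((R ⧸ J') ⊗[R] N) :=
  flat_quotient_of_injective J' fun _ _ _ hQ P => injective_of_killed J h (fun a ha => hQ a (hJ ha)) P

/-- Flatness of the localisation of the base change to `R/J` gives flatness of `(M/JM)_q`. -/
theorem flat_quotient_of_flat_BC {S M : Type u} [CommRing S] [Algebra R S] [AddCommGroup M] [Module R M]
    [Module S M] [IsScalarTower R S M] (J : Ideal R) (q : Ideal S) [q.IsPrime]
    (qt : Ideal (S ⊗[R] (R ⧸ J))) [qt.IsPrime] (hqt : qt.comap Algebra.TensorProduct.includeLeftRingHom = q)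
    (hT : Function.Surjective (Algebra.TensorProduct.includeLeftRingHom : S →+* S ⊗[R] (R ⧸ J)))
    [Module.Flat (R ⧸ J) (LocalizedModule qt.primeCompl (BC R S M (R ⧸ J)))] :
    Module.Flat (R ⧸ J) ((R ⧸ J) ⊗[R] LocalizedModule q.primeCompl M) := by
  let A := R ⧸ J
  refine flat_quotient_of_injective J fun P _ _ hP P' => ?_
  refine injective_lTensor_localizedModule _ _ fun x hx => ?_
  have htor : Module.IsTorsionBySet R P (J : Set R) := fun y a => hP a a.2 y
  letI := htor.module
  haveI : IsScalarTower R A P := htor.isScalarTower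
  let P'' : Submodule A P :=
    { toAddSubmonoid := P'.toAddSubmonoid
      smul_mem' := fun a y hy => by
        obtain ⟨r, rfl⟩ := Ideal.Quotient.mk_surjective a
        exact P'.smul_mem r hy }
  let x' : M ⊗[R] ↥P'' := x
  have hx' : P''.subtype.lTensor (BC R S M A) (psi (B₀ := S) A ↥P'' x') = 0 := by
    rw [← psi_lTensor]
    rw [show (P''.subtype.restrictScalars R).lTensor M x' = 0 from hx, map_zero]
  obtain ⟨t, ht, htx⟩ := exists_smul_eq_zero_of_flat qt.primeCompl P''.subtype Subtype.val_injective _ hx'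
  obtain ⟨s, rfl⟩ := hT t
  refine ⟨s, fun hs => ht (hqt.ge hs), (psi (B₀ := S) (M₀ := M) A ↥P'').injective (a₁ := s • x') ?_⟩
  rw [map_zero, ← htx]
  exact psi_smul _ _ s x'

theorem includeLeft_surjective {S : Type u} [CommRing S] [Algebra R S] (J : Ideal R) :
    Function.Surjective (Algebra.TensorProduct.includeLeftRingHom : S →+* S ⊗[R] (R ⧸ J)) := by
  intro t
  induction t with
  | zero => exact ⟨0, map_zero _⟩
  | add a b ha hb =>
    obtain ⟨a', rfl⟩ := ha
    obtain ⟨b', rfl⟩ := hb
    exact ⟨a' + b', map_add _ _ _⟩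
  | tmul s a =>
    obtain ⟨r, rfl⟩ := Ideal.Quotient.mk_surjective a
    refine ⟨r • s, ?_⟩
    show (r • s) ⊗ₜ[R] (1 : R ⧸ J) = _
    rw [smul_tmul]
    congr 1
    exact (Algebra.algebraMap_eq_smul_one r).symm

theorem ker_includeLeft_le {S : Type u} [CommRing S] [Algebra R S] (J : Ideal R) :
    RingHom.ker (Algebra.TensorProduct.includeLeftRingHom : S →+* S ⊗[R] (R ⧸ J)) ≤
      J.map (algebraMap R S) := by
  intro x hx
  have := congrArg (Algebra.TensorProduct.lift (Algebra.ofId S (S ⧸ J.map (algebraMap R S)))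
    (Ideal.Quotient.liftₐ J (Algebra.ofId R _) (fun a ha => (Ideal.Quotient.eq_zero_iff_mem).2
      (Ideal.mem_map_of_mem (algebraMap R S) ha))) (fun _ _ => Commute.all _ _)) (RingHom.mem_ker.1 hx)
  rw [show (Algebra.TensorProduct.includeLeftRingHom x : S ⊗[R] (R ⧸ J)) = x ⊗ₜ 1 from rfl,
    Algebra.TensorProduct.lift_tmul, map_one, mul_one, map_zero] at this
  exact Ideal.Quotient.eq_zero_iff_mem.1 this

/-- The local criterion at a prime, over any Noetherian ring, from all levels of an ideal inside the prime. -/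
theorem flat_of_adic_levels {A T N : Type u} [CommRing A] [IsNoetherianRing A] [CommRing T] [IsNoetherianRing T]
    [Algebra A T] [AddCommGroup N] [Module A N] [Module T N] [IsScalarTower A T N] [Module.Finite T N]
    (qt : Ideal T) [qt.IsPrime] (mA : Ideal A) (hm : mA.map (algebraMap A T) ≤ qt)
    (H : ∀ (n : ℕ) (P : Submodule A (A ⧸ mA ^ n)),
      Function.Injective (P.subtype.lTensor (LocalizedModule qt.primeCompl N))) :
    Module.Flat A (LocalizedModule qt.primeCompl N) := by
  haveI : IsNoetherianRing (Localization qt.primeCompl) :=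
    IsLocalization.isNoetherianRing qt.primeCompl _ inferInstance
  rw [Module.Flat.iff_lTensor_injective']
  intro J
  refine (injective_iff_map_eq_zero _).2 fun x hx => ?_
  obtain ⟨a, ha, hax⟩ := H7Flat.exists_one_add_smul_eq_zero_of_ker
    (S := Localization qt.primeCompl) (M := LocalizedModule qt.primeCompl N) mA J H hx
  refine (IsUnit.smul_eq_zero ?_).1 hax
  have ha' : a ∈ IsLocalRing.maximalIdeal (Localization qt.primeCompl) := by
    rw [IsScalarTower.algebraMap_eq A T (Localization qt.primeCompl), ← Ideal.map_map] at ha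
    have := Ideal.map_mono (f := algebraMap T (Localization qt.primeCompl)) hm ha
    rwa [Localization.AtPrime.map_eq_maximalIdeal] at this
  rcases IsLocalRing.isUnit_or_isUnit_of_add_one (a := 1 + a) (b := -a) (by ring) with h' | h'
  · exact h'
  · exact absurd h' ((IsLocalRing.mem_maximalIdeal _).1 (neg_mem ha'))

/-- Flatness of `(M/IM)_q` over `R/I` from flatness modulo `I + 𝔪ⁿ` for all `n`. -/
theorem flat_of_levels [IsLocalRing R] [IsNoetherianRing R] {S M : Type u} [CommRing S] [IsNoetherianRing S]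
    [Algebra R S] [AddCommGroup M] [Module R M] [Module S M] [IsScalarTower R S M] [Module.Finite S M]
    (I : Ideal R) (hI : I ≤ IsLocalRing.maximalIdeal R) (q : Ideal S) [q.IsPrime]
    (hq : q.comap (algebraMap R S) = IsLocalRing.maximalIdeal R)
    (h : ∀ n : ℕ, Module.Flat (R ⧸ (I ⊔ IsLocalRing.maximalIdeal R ^ n))
      ((R ⧸ (I ⊔ IsLocalRing.maximalIdeal R ^ n)) ⊗[R] LocalizedModule q.primeCompl M)) :
    Module.Flat (R ⧸ I) ((R ⧸ I) ⊗[R] LocalizedModule q.primeCompl M) := by
  let A := R ⧸ I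
  let T := S ⊗[R] A
  have hT : Function.Surjective (Algebra.TensorProduct.includeLeftRingHom : S →+* T) := includeLeft_surjective I
  haveI : IsNoetherianRing T := isNoetherianRing_of_surjective S T _ hT
  haveI : Module.Finite T (BC R S M A) := inferInstance
  have hker : RingHom.ker (Algebra.TensorProduct.includeLeftRingHom : S →+* T) ≤ q :=
    (ker_includeLeft_le I).trans (Ideal.map_le_iff_le_comap.2 (hI.trans hq.ge))
  let qt : Ideal T := q.map Algebra.TensorProduct.includeLeftRingHom
  haveI : qt.IsPrime := Ideal.map_isPrime_of_surjective hT hker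
  have hqt : qt.comap Algebra.TensorProduct.includeLeftRingHom = q := by
    rw [Ideal.comap_map_of_surjective' _ hT, sup_eq_left.2 hker]
  let mA : Ideal A := (IsLocalRing.maximalIdeal R).map (Ideal.Quotient.mk I)
  have hlevel : ∀ (n : ℕ) (P : Submodule A (A ⧸ mA ^ n)),
      Function.Injective (P.subtype.lTensor (LocalizedModule qt.primeCompl (BC R S M A))) := by
    intro n P
    refine injective_lTensor_localizedModule _ _ fun y hy => ?_
    obtain ⟨z, rfl⟩ := (psi (B₀ := S) (M₀ := M) A ↥P).surjective y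
    have hz : (P.subtype.restrictScalars R).lTensor M z = 0 := by
      apply (psi (B₀ := S) (M₀ := M) A (A ⧸ mA ^ n)).injective
      rw [psi_lTensor, hy, map_zero]
    have hkill : ∀ a ∈ I ⊔ IsLocalRing.maximalIdeal R ^ n, ∀ w : A ⧸ mA ^ n, a • w = 0 := by
      intro a ha w
      obtain ⟨w, rfl⟩ := Ideal.Quotient.mk_surjective w
      rw [← IsScalarTower.algebraMap_smul A a, Algebra.smul_def, Ideal.Quotient.algebraMap_eq, ← map_mul]
      refine Ideal.Quotient.eq_zero_iff_mem.2 (Ideal.mul_mem_right _ _ ?_)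
      have h1 := Ideal.mem_map_of_mem (Ideal.Quotient.mk I) ha
      rwa [Ideal.map_sup, Ideal.map_quotient_self, bot_sup_eq, Ideal.map_pow] at h1
    obtain ⟨s, hs, hsz⟩ := exists_smul_eq_zero_of_injective q.primeCompl (P.subtype.restrictScalars R)
      (injective_of_killed _ (h n) hkill (P.restrictScalars R)) z hz
    refine ⟨s ⊗ₜ[R] (1 : A), fun hmem => hs (hqt.le hmem), ?_⟩
    rw [← psi_smul, hsz, map_zero]
  have hm : mA.map (algebraMap A T) ≤ qt := by
    rw [Ideal.map_le_iff_le_comap, Ideal.map_le_iff_le_comap]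
    intro r hr
    rw [Ideal.mem_comap, Ideal.mem_comap]
    have : algebraMap A T (Ideal.Quotient.mk I r) =
        Algebra.TensorProduct.includeLeftRingHom (algebraMap R S r) := by
      show (1 : S) ⊗ₜ[R] (algebraMap R A r) = algebraMap R S r ⊗ₜ[R] (1 : A)
      rw [Algebra.algebraMap_eq_smul_one, ← smul_tmul, ← Algebra.algebraMap_eq_smul_one]
    rw [this]
    exact Ideal.mem_map_of_mem _ (hq.ge hr)
  haveI hflat : Module.Flat A (LocalizedModule qt.primeCompl (BC R S M A)) :=
    flat_of_adic_levels (A := A) (T := T) (N := BC R S M A) qt mA hm hlevel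
  exact flat_quotient_of_flat_BC I q qt hqt hT

/-- Over a complete Noetherian local ring there is a least ideal modulo which the localisations at the
primes over the maximal ideal are flat. -/
theorem exists_least [IsLocalRing R] [IsNoetherianRing R] [IsAdicComplete (IsLocalRing.maximalIdeal R) R]
    (S M : Type u) [CommRing S] [IsNoetherianRing S] [Algebra R S] [AddCommGroup M] [Module R M]
    [Module S M] [IsScalarTower R S M] [Module.Finite S M] :
    ∃ I : Ideal R, I ≤ IsLocalRing.maximalIdeal R ∧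
      (∀ (q : Ideal S) [q.IsPrime], q.comap (algebraMap R S) = IsLocalRing.maximalIdeal R →
        Module.Flat (R ⧸ I) ((R ⧸ I) ⊗[R] LocalizedModule q.primeCompl M)) ∧
      ∀ J : Ideal R, (∀ (q : Ideal S) [q.IsPrime], q.comap (algebraMap R S) = IsLocalRing.maximalIdeal R →
        Module.Flat (R ⧸ J) ((R ⧸ J) ⊗[R] LocalizedModule q.primeCompl M)) → I ≤ J := by
  classical
  let m := IsLocalRing.maximalIdeal R
  let κ := {p : PrimeSpectrum S // p.asIdeal.comap (algebraMap R S) = m}
  let N := DirectSum κ fun p => LocalizedModule p.1.asIdeal.primeCompl M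
  let P : Ideal R → Prop := fun J => ∀ (q : Ideal S) [q.IsPrime], q.comap (algebraMap R S) = m →
    Module.Flat (R ⧸ J) ((R ⧸ J) ⊗[R] LocalizedModule q.primeCompl M)
  have hP : ∀ J, P J ↔ Module.Flat (R ⧸ J) ((R ⧸ J) ⊗[R] N) := fun J => by
    let e : (R ⧸ J) ⊗[R] N ≃ₗ[R ⧸ J]
        DirectSum κ fun p => (R ⧸ J) ⊗[R] LocalizedModule p.1.asIdeal.primeCompl M :=
      TensorProduct.directSumRight R (R ⧸ J) (R ⧸ J) fun p : κ => LocalizedModule p.1.asIdeal.primeCompl M
    rw [Module.Flat.equiv_iff e, Module.Flat.directSum_iff]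
    exact ⟨fun h p => h p.1.asIdeal p.2, fun h q _ hq => h ⟨⟨q, inferInstance⟩, hq⟩⟩
  have hmono : ∀ {J J' : Ideal R}, J ≤ J' → P J → P J' := fun hJ h q _ hq => flat_mono hJ (h q hq)
  have hlev : ∀ n : ℕ, ∃ K : Ideal R, m ^ (n + 1) ≤ K ∧ K ≤ m ∧ P K ∧
      ∀ J, m ^ (n + 1) ≤ J → P J → K ≤ J := by
    intro n
    let A := R ⧸ m ^ (n + 1)
    have hmn : m ^ (n + 1) ≤ m := Ideal.pow_le_self (Nat.succ_ne_zero n)
    haveI : Nontrivial A := Ideal.Quotient.nontrivial_iff.2
      (ne_top_of_le_ne_top (IsLocalRing.maximalIdeal.isMaximal R).ne_top hmn)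
    haveI : IsLocalRing A := .of_surjective' (Ideal.Quotient.mk _) Ideal.Quotient.mk_surjective
    haveI : IsArtinianRing A := (isArtinianRing_iff_isNilpotent_maximalIdeal _).2 ⟨n + 1, by
      rw [← IsLocalRing.map_maximalIdeal_of_surjective _ Ideal.Quotient.mk_surjective, ← Ideal.map_pow,
        Submodule.zero_eq_bot]
      exact Ideal.map_quotient_self _⟩
    obtain ⟨K₀, hK₀⟩ := H7Flat.ArtinFlattening.exists_ideal (A := A) (A ⊗[R] N)
    have key : ∀ J, m ^ (n + 1) ≤ J → (P J ↔ K₀.comap (Ideal.Quotient.mk _) ≤ J) := by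
      intro J hJ
      letI : Algebra A (R ⧸ J) := (Ideal.Quotient.factor hJ).toAlgebra
      haveI : IsScalarTower R A (R ⧸ J) := IsScalarTower.of_algebraMap_eq fun r => rfl
      rw [hP, ← Module.Flat.equiv_iff (AlgebraTensorModule.cancelBaseChange R A (R ⧸ J) (R ⧸ J) N), hK₀]
      refine ⟨fun h r hr => ?_, fun h => (Ideal.map_eq_bot_iff_le_ker _).2 fun a ha => ?_⟩
      · exact Ideal.Quotient.eq_zero_iff_mem.1 ((Ideal.map_eq_bot_iff_le_ker _).1 h hr)
      · obtain ⟨r, rfl⟩ := Ideal.Quotient.mk_surjective a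
        exact Ideal.Quotient.eq_zero_iff_mem.2 (h ha)
    let K := K₀.comap (Ideal.Quotient.mk (m ^ (n + 1)))
    have hK : m ^ (n + 1) ≤ K := fun r hr => by
      rw [Ideal.mem_comap, Ideal.Quotient.eq_zero_iff_mem.2 hr]; exact zero_mem _
    refine ⟨K, hK, (key m hmn).1 fun q _ _ => ?_, (key K hK).2 le_rfl, fun J hJ h => (key J hJ).1 h⟩
    haveI : m.IsMaximal := IsLocalRing.maximalIdeal.isMaximal R
    letI : Field (R ⧸ m) := Ideal.Quotient.field m
    exact Module.Flat.of_free
  choose K hKm hKle hKP hKmin using hlev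
  have hstep : ∀ n, K (n + 1) ⊔ m ^ (n + 1) = K n := fun n =>
    le_antisymm (sup_le (hKmin (n + 1) _ ((Ideal.pow_le_pow_right (by omega)).trans (hKm n)) (hKP n)) (hKm n))
      (hKmin n _ le_sup_right (hmono le_sup_left (hKP (n + 1))))
  have hanti : Antitone K := antitone_nat_of_succ_le fun n => le_sup_left.trans (hstep n).le
  let I := ⨅ n, K n
  have hsum : ∀ n, I ⊔ m ^ (n + 1) = K n := by
    intro n
    refine le_antisymm (sup_le (iInf_le _ n) (hKm n)) fun x hx => ?_
    have hnext : ∀ k (y : R), y ∈ K (n + k) → ∃ z, z ∈ K (n + (k + 1)) ∧ y - z ∈ m ^ (n + k + 1) := by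
      intro k y hy
      rw [← hstep (n + k)] at hy
      obtain ⟨z, hz, w, hw, rfl⟩ := Submodule.mem_sup.1 hy
      exact ⟨z, hz, by rw [add_sub_cancel_left]; exact hw⟩
    choose nx hnx hnx' using hnext
    let y : ∀ k, K (n + k) := fun k =>
      Nat.rec ⟨x, hx⟩ (fun j yj => ⟨nx j yj.1 yj.2, hnx j yj.1 yj.2⟩) k
    have hy : ∀ k l, k ≤ l → (y k).1 - (y l).1 ∈ m ^ (n + k + 1) := by
      intro k l hkl
      induction l, hkl using Nat.le_induction with
      | base => simp
      | succ l hkl ih =>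
        have h2 : ((y l).1 : R) - (y (l + 1)).1 ∈ m ^ (n + k + 1) :=
          Ideal.pow_le_pow_right (by omega) (hnx' l (y l).1 (y l).2)
        have := add_mem ih h2
        rwa [sub_add_sub_cancel] at this
    obtain ⟨L, hL⟩ := IsPrecomplete.prec (inferInstance : IsPrecomplete m R) (f := fun k => (y k).1)
      fun {a b} hab => by
        rw [SModEq.sub_mem, smul_eq_mul, Ideal.mul_top]
        exact (Ideal.pow_le_pow_right (show a ≤ n + a + 1 by omega)) (hy a b hab)
    have hL' : ∀ k, (y k).1 - L ∈ m ^ k := fun k => by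
      have := hL k
      rwa [SModEq.sub_mem, smul_eq_mul, Ideal.mul_top] at this
    have hLI : L ∈ I := Submodule.mem_iInf _ |>.2 fun j => by
      have h1 : (y (j + 1)).1 ∈ K j := hanti (by omega) (y (j + 1)).2
      have h2 := sub_mem h1 (hKm j (hL' (j + 1)))
      rwa [sub_sub_cancel] at h2
    have h3 : x - L ∈ m ^ (n + 1) := by
      have h4 := add_mem (hy 0 (n + 1) (Nat.zero_le _)) (Ideal.pow_le_pow_right le_rfl (hL' (n + 1)))
      rw [sub_add_sub_cancel] at h4
      exact h4
    rw [show x = L + (x - L) by ring]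
    exact Submodule.add_mem_sup hLI h3
  refine ⟨I, (iInf_le _ 0).trans (hKle 0), fun q _ hq => ?_, fun J hJ => ?_⟩
  · refine flat_of_levels I ((iInf_le _ 0).trans (hKle 0)) q hq fun n => ?_
    rcases n with - | n
    · rw [pow_zero, Ideal.one_eq_top, sup_top_eq]
      haveI : Subsingleton (R ⧸ (⊤ : Ideal R)) := Ideal.Quotient.subsingleton_iff.2 rfl
      haveI := Module.subsingleton (R ⧸ (⊤ : Ideal R)) ((R ⧸ (⊤ : Ideal R)) ⊗[R] LocalizedModule q.primeCompl M)
      infer_instance
    · rw [hsum]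
      exact hKP n q hq
  · by_cases hJt : J = ⊤
    · rw [hJt]; exact le_top
    intro r hr
    haveI : Nontrivial (R ⧸ J) := Ideal.Quotient.nontrivial_iff.2 hJt
    haveI : IsLocalRing (R ⧸ J) := .of_surjective' (Ideal.Quotient.mk J) Ideal.Quotient.mk_surjective
    rw [← Ideal.Quotient.eq_zero_iff_mem, ← Ideal.mem_bot, ← Ideal.iInf_pow_eq_bot_of_isLocalRing
      (IsLocalRing.maximalIdeal (R ⧸ J)) (IsLocalRing.maximalIdeal.isMaximal _).ne_top, Submodule.mem_iInf]
    intro n
    rcases n with - | n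
    · simp
    have h1 : r ∈ J ⊔ m ^ (n + 1) := hKmin n _ le_sup_right (hmono le_sup_left hJ) ((iInf_le _ n : I ≤ K n) hr)
    have h2 := Ideal.mem_map_of_mem (Ideal.Quotient.mk J) h1
    rwa [Ideal.map_sup, Ideal.map_quotient_self, bot_sup_eq, Ideal.map_pow,
      IsLocalRing.map_maximalIdeal_of_surjective _ Ideal.Quotient.mk_surjective] at h2

end Groth.Agent.H8Norm.FlatteningIdeal
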