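import Groth.Agent.H23Para.CounitDescent
import Groth.Agent.H12Pic.InvDesc.FlatFunctions
import Groth.Agent.H8Props.IsoLocus.Main
import Groth.Agent.H24GE.PushLim
import Groth.Agent.H1CAlg.Reflexive
import Groth.Agent.H29Ref.RefPow
import Groth.Agent.H3CAlg.ChiPull
import Groth.Agent.H22Alg.FlatSurj
import Groth.Agent.S6039
import Groth.Agent.H18Et.FEtDepth
import Groth.Agent.H28Pinch.DirectImageTrivial
import Groth.Agent.H10Coh.SheafHom.Flat
import Groth.Agent.H23Para.PairStalks
import Groth.Agent.LeadDev.Basic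
import Groth.Agent.H18HTop.SpecLiftDVR
import Groth.Prelude.Def_Pi1

/-!
# Vector bundles trivial over the codimension one local schemes of a normal base
-/

set_option autoImplicit false
set_option linter.style.haveILetI false
set_option linter.unusedSectionVars false

universe u

open CategoryTheory CategoryTheory.Limits AlgebraicGeometry TopologicalSpace Opposite

namespace Groth.Agent.H8Norm.FreeDimOne

variable {X S : Scheme.{u}} (f : X ⟶ S)

/-- With `O = f_* O` the counit is invertible at modules isomorphic to a pullback. -/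
theorem isIso_counit_of_iso (hf : ∀ U : S.Opens, Function.Bijective (f.app U)) {N : S.Modules}
    (hN : FlatMod.IsFinLocFree N) {E : X.Modules} (φ : E ≅ (Scheme.Modules.pullback f).obj N) :
    IsIso ((Scheme.Modules.pullbackPushforwardAdjunction f).counit.app E) := by
  let adj := Scheme.Modules.pullbackPushforwardAdjunction f
  haveI : IsIso (adj.unit.app N) := H28Pinch.isIso_unit_of_isFinLocFree f hf N hN
  haveI : IsIso (adj.counit.app ((Scheme.Modules.pullback f).obj N)) := by
    haveI : IsIso ((Scheme.Modules.pullback f).map (adj.unit.app N) ≫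
        adj.counit.app ((Scheme.Modules.pullback f).obj N)) := by
      rw [adj.left_triangle_components N]
      infer_instance
    exact IsIso.of_isIso_comp_left ((Scheme.Modules.pullback f).map (adj.unit.app N)) _
  exact (NatTrans.isIso_app_iff_of_iso adj.counit φ).2 inferInstance

/-- With `O = f_* O` a flat proper morphism of finite presentation is surjective. -/
theorem surjective_of_bijective_app [IsProper f] [Flat f] [LocallyOfFinitePresentation f]
    (hf : ∀ U : S.Opens, Function.Bijective (f.app U)) : Surjective f := by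
  refine ⟨fun s => ?_⟩
  by_contra hs
  let V : S.Opens := ⟨(Set.range f)ᶜ, f.isClosedMap.isClosed_range.isOpen_compl⟩
  have hsV : s ∈ V := hs
  have hbot : f ⁻¹ᵁ V = ⊥ := Opens.ext (Set.eq_empty_iff_forall_notMem.2 fun x hx => hx ⟨x, rfl⟩)
  haveI : Subsingleton Γ(X, f ⁻¹ᵁ V) := by
    rw [hbot]
    exact CommRingCat.subsingleton_of_isTerminal X.sheaf.isTerminalOfEmpty
  haveI : Subsingleton Γ(S, V) := (hf V).1.subsingleton
  haveI : Nontrivial (S.presheaf.stalk s) := inferInstance
  exact one_ne_zero (α := S.presheaf.stalk s) (by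
    rw [← map_one (S.presheaf.germ V s hsV).hom, Subsingleton.elim (1 : Γ(S, V)) 0, map_zero])

variable [IsProper f] [Flat f]

theorem bijective_stalk_counit (hf : ∀ U : S.Opens, Function.Bijective (f.app U))
    (E : X.Modules) [Coh.IsQCoh E] (s : S)
    (h1 : ∃ r : ℕ, Nonempty ((Scheme.Modules.pullback (pullback.fst f (S.fromSpecStalk s))).obj E ≅
      FlatMod.freeMod (pullback f (S.fromSpecStalk s)) r)) (x : X) (hx : f x = s) :
    Function.Bijective
      (H06Mod.stalkLin ((Scheme.Modules.pullbackPushforwardAdjunction f).counit.app E) x) := by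
  let g := S.fromSpecStalk s
  haveI : Flat g := H22Alg.flat_fromSpecStalk S s
  obtain ⟨r, ⟨t⟩⟩ := h1
  have hf' : ∀ U, Function.Bijective ((pullback.snd f g).app U) :=
    H12Pic.InvDesc.bijective_app_flat_baseChange f hf g
  haveI := isIso_counit_of_iso (pullback.snd f g) hf'
    (fun y => ⟨⊤, r, trivial, ⟨(Scheme.Modules.restrictFunctorIsoPullback _).app _ ≪≫
      H16Derived.KFlat.Stalk.freeModPullbackIso _ r⟩⟩)
    (t ≪≫ (H16Derived.KFlat.Stalk.freeModPullbackIso (pullback.snd f g) r).symm)
  haveI hiso : IsIso ((Scheme.Modules.pullback (pullback.fst f g)).map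
      ((Scheme.Modules.pullbackPushforwardAdjunction f).counit.app E)) :=
    (H23Para.isIso_map_counit_iff (Scheme.Modules.pullbackPushforwardAdjunction f)
      (Scheme.Modules.pullbackPushforwardAdjunction (pullback.snd f g))
      (Scheme.Modules.pullbackPushforwardAdjunction g)
      (Scheme.Modules.pullbackPushforwardAdjunction (pullback.fst f g))
      (Scheme.Modules.pushforwardComp (pullback.fst f g) f ≪≫
        Scheme.Modules.pushforwardCongr (IsPullback.of_hasPullback f g).w ≪≫
        (Scheme.Modules.pushforwardComp (pullback.snd f g) g).symm) E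
      (H23Para.isIso_baseChange f g E)).2 inferInstance
  obtain ⟨z, hz, -⟩ := Scheme.exists_preimage_of_isPullback (IsPullback.of_hasPullback f g) x
    (IsLocalRing.closedPoint (S.presheaf.stalk s)) (hx.trans Scheme.fromSpecStalk_closedPoint.symm)
  haveI : Flat (pullback.fst f g) := inferInstance
  have hb := (H8Props.FunDescent.isIso_iff _).1 hiso z
  rw [← hz]
  exact ⟨(H8Props.FunDescent.injective_stalkLin_pullback_iff _ _ z).1 hb.1,
    (H8Props.FunDescent.surjective_stalkLin_pullback_iff _ _ z).1 hb.2⟩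

/-- The counit is invertible over an open containing the points of small dimension. -/
theorem exists_open_bijective [IsNoetherian S] (hf : ∀ U : S.Opens, Function.Bijective (f.app U))
    (E : X.Modules) (hE : FlatMod.IsFinLocFree E)
    (h1 : ∀ s : S, ringKrullDim (S.presheaf.stalk s) ≤ 1 → ∃ r : ℕ,
      Nonempty ((Scheme.Modules.pullback (pullback.fst f (S.fromSpecStalk s))).obj E ≅
        FlatMod.freeMod (pullback f (S.fromSpecStalk s)) r)) :
    ∃ U : S.Opens, (∀ s : S, ringKrullDim (S.presheaf.stalk s) ≤ 1 → s ∈ U) ∧ ∀ x : X, f x ∈ U →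
      Function.Bijective
        (H06Mod.stalkLin ((Scheme.Modules.pullbackPushforwardAdjunction f).counit.app E) x) := by
  haveI : IsLocallyNoetherian X := LocallyOfFiniteType.isLocallyNoetherian f
  haveI : Coh.IsQCoh E := H8Props.FinLocFree.isQCoh_of_isFinLocFree E hE
  let ε := (Scheme.Modules.pullbackPushforwardAdjunction f).counit.app E
  have hG := H24GE.isCoh_pushforward f (H16Derived.KFlat.Stalk.isCoh_of_isFinLocFree hE)
  have hopen := (H8Props.IsoLocus.isOpen_and_isRetrocompact_isoSet f
    (H10Coh.isFP_of_isCoh _ (H3CAlg.ChiPull.isCoh_pullback f _ hG))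
    (H8Props.FinLocFree.isFP_of_isFinLocFree E hE)
    (H10Coh.SheafHom.isFlatOver_of_isFinLocFree f E hE) ε).1
  refine ⟨⟨(f '' (H8Props.IsoLocus.isoSet ε)ᶜ)ᶜ,
    (f.isClosedMap _ hopen.isClosed_compl).isOpen_compl⟩, fun s hs => ?_, fun x hx => ?_⟩
  · rintro ⟨x, hx, hxs⟩
    exact hx (bijective_stalk_counit f hf E s (h1 s hs) x hxs)
  · by_contra hne
    exact hx ⟨x, hne, rfl⟩

theorem secBij_structureModule [IsNoetherian S] (hS : Pi1.IsNormalScheme S) (U : S.Opens)
    (hU : ∀ s : S, ringKrullDim (S.presheaf.stalk s) ≤ 1 → s ∈ U) :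
    H23Para.SecBij (f ⁻¹ᵁ U) (Coh.structureModule X) := by
  haveI : IsLocallyNoetherian X := LocallyOfFiniteType.isLocallyNoetherian f
  intro V
  refine (Groth.Agent.S6039.result X (f ⁻¹ᵁ U) (Coh.structureModule X) (H10Coh.isCoh_structureModule' X)).1
    (fun x hx => ?_) V
  rw [← H4Depth.depth_congr (H29Ref.unitEquiv x)]
  refine le_trans ?_ (H18Et.FEtDepth.depth_le_of_flat f x)
  haveI := (hS (f x)).1
  haveI := (hS (f x)).2
  refine H1CAlg.depth_ge_two_of_isIntegrallyClosed ?_
  have h : ¬ ringKrullDim (S.presheaf.stalk (f x)) ≤ 1 := fun h => hx (hU _ h)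
  rw [not_le] at h
  obtain ⟨d, hd⟩ := WithBot.ne_bot_iff_exists.1 (ne_bot_of_gt h)
  rw [← hd] at h ⊢
  exact WithBot.coe_le_coe.2 (Order.add_one_le_of_lt (WithBot.coe_lt_coe.1 h))

/-- A bundle free over the local schemes at points of small dimension comes from the base. -/
theorem exists_finLocFree [IsNoetherian S] (hf : ∀ U : S.Opens, Function.Bijective (f.app U))
    (hS : Pi1.IsNormalScheme S) (E : X.Modules) (hE : FlatMod.IsFinLocFree E)
    (h1 : ∀ s : S, ringKrullDim (S.presheaf.stalk s) ≤ 1 → ∃ r : ℕ,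
      Nonempty ((Scheme.Modules.pullback (pullback.fst f (S.fromSpecStalk s))).obj E ≅
        FlatMod.freeMod (pullback f (S.fromSpecStalk s)) r)) :
    ∃ G : S.Modules, FlatMod.IsFinLocFree G ∧ Nonempty (E ≅ (Scheme.Modules.pullback f).obj G) := by
  haveI : IsLocallyNoetherian X := LocallyOfFiniteType.isLocallyNoetherian f
  haveI : LocallyOfFinitePresentation f := H18HTop.locallyOfFinitePresentation_of_noetherian f
  haveI := surjective_of_bijective_app f hf
  obtain ⟨U, hU, hbij⟩ := exists_open_bijective f hf E hE h1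
  let adj := Scheme.Modules.pullbackPushforwardAdjunction f
  let G := (Scheme.Modules.pushforward f).obj E
  haveI : E.IsQuasicoherent := H8Props.FinLocFree.isQCoh_of_isFinLocFree E hE
  haveI hGq : G.IsQuasicoherent := H10Coh.isQuasicoherent_pushforward f E
  have hsecE : H23Para.SecBij (f ⁻¹ᵁ U) E :=
    H23Para.secBij_of_isFinLocFree (secBij_structureModule f hS U hU) hE
  have hsecG : H23Para.SecBij U G := fun V => hsecE (f ⁻¹ᵁ V)
  let G₀ := G.restrict U.ι
  haveI : Coh.IsQCoh G₀ := LeadDev.isQCoh_restrict U.ι G hGq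
  obtain ⟨e⟩ := H23Para.nonempty_iso_pushforward U.ι (L := G) (L₀ := G₀)
    (by rw [Scheme.Opens.opensRange_ι]; exact hsecG) (Iso.refl _)
  obtain ⟨b⟩ := H23Para.nonempty_pullback_pushforward U.ι f G₀
  let j := pullback.snd U.ι f
  have hle : j ⁻¹ᵁ (f ⁻¹ᵁ U) = ⊤ := eq_top_iff.2 fun y _ => by
    show f (j y) ∈ U
    rw [← Scheme.Hom.comp_apply, ← pullback.condition]
    exact (pullback.fst U.ι f y).2
  let L := (Scheme.Modules.pullback (pullback.fst U.ι f)).obj G₀
  have hsecL : H23Para.SecBij (f ⁻¹ᵁ U) ((Scheme.Modules.pushforward j).obj L) := fun V =>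
    H23Para.bijective_map_of_eq L (A := j ⁻¹ᵁ (V ⊓ f ⁻¹ᵁ U)) (B := j ⁻¹ᵁ V)
      (le_antisymm (fun _ hx => hx.1) fun y hy => ⟨hy, hle.ge (Opens.mem_top y)⟩) _
  have hsecP : H23Para.SecBij (f ⁻¹ᵁ U) ((Scheme.Modules.pullback f).obj G) :=
    H23Para.SecBij.of_iso ((Scheme.Modules.pullback f).mapIso e ≪≫ b).symm hsecL
  haveI : IsIso ((Scheme.Modules.restrictFunctor (f ⁻¹ᵁ U).ι).map (adj.counit.app E)) :=
    H29Ref.isIso_restrict_of_bijective (f ⁻¹ᵁ U) (adj.counit.app E) fun x hx => hbij x hx
  haveI : IsIso (adj.counit.app E) := H23Para.isIso_of_restrict (adj.counit.app E) hsecP hsecE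
  have hP : FlatMod.IsFinLocFree ((Scheme.Modules.pullback f).obj G) :=
    H16Derived.KFlat.Stalk.isFinLocFree_of_iso (asIso (adj.counit.app E)).symm hE
  exact ⟨G, H23Para.isFinLocFree_of_pullback f G hP, ⟨(asIso (adj.counit.app E)).symm⟩⟩

end Groth.Agent.H8Norm.FreeDimOne
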