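import Mathlib.RingTheory.Valuation.ValuationRing
import Mathlib.RingTheory.AlgebraicIndependent.TranscendenceBasis
import Mathlib.RingTheory.AlgebraicIndependent.Adjoin
import Mathlib.RingTheory.IntegralClosure.IntegrallyClosed
import Mathlib.RingTheory.LocalRing.ResidueField.Basic

/-!
# Normal local rings over valuation rings with residue transcendence degree one

A normal local domain `B` dominating a valuation ring `V`, with fraction field of transcendence degree
at most one over `V` and an element transcendental modulo the maximal ideals, is a valuation ring.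
-/

set_option autoImplicit false
set_option linter.style.haveILetI false

universe u

open Polynomial IsLocalRing

namespace Groth.Agent.H8Norm.GaussNormal

variable {B : Type u} [CommRing B] [IsDomain B] [IsLocalRing B] [IsIntegrallyClosed B]
  {L : Type u} [Field L] [Algebra B L] [IsFractionRing B L]

/-- In a normal local ring, a root of a polynomial with a unit coefficient is integral or has integral
inverse. -/
theorem isInteger_or_isInteger_inv (y : L) : ∀ (n : ℕ) (a : ℕ → B),
    (∑ i ∈ Finset.range (n + 1), algebraMap B L (a i) * y ^ i) = 0 → (∃ i ≤ n, IsUnit (a i)) →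
      IsLocalization.IsInteger B y ∨ IsLocalization.IsInteger B y⁻¹ := by
  intro n
  induction n with
  | zero =>
    rintro a h ⟨i, hi, hu⟩
    obtain rfl : i = 0 := by omega
    rw [zero_add, Finset.sum_range_one, pow_zero, mul_one] at h
    exact absurd ((map_eq_zero_iff _ (IsFractionRing.injective B L)).1 h) hu.ne_zero
  | succ n ih =>
    rintro a h ⟨i, hi, hu⟩
    -- the leading term times `y` is integral
    obtain ⟨c, hc⟩ : ∃ c : B, algebraMap B L c = algebraMap B L (a (n + 1)) * y := by
      refine IsIntegrallyClosed.isIntegral_iff.1 ⟨X ^ (n + 1) + ∑ k ∈ Finset.range (n + 1),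
        C (a k * a (n + 1) ^ (n - k)) * X ^ k, ?_, ?_⟩
      · refine monic_X_pow_add ?_
        refine (degree_sum_le _ _).trans_lt ((Finset.sup_lt_iff (WithBot.bot_lt_coe _)).2 fun k hk => ?_)
        refine (degree_C_mul_X_pow_le _ _).trans_lt ?_
        exact_mod_cast Finset.mem_range.1 hk
      · have h' := congrArg (fun z => algebraMap B L (a (n + 1)) ^ n * z) h
        simp only [mul_zero, Finset.sum_range_succ _ (n + 1), mul_add, Finset.mul_sum] at h'
        rw [eval₂_add, eval₂_X_pow, eval₂_finsetSum]
        simp only [eval₂_mul, eval₂_C, eval₂_X, map_mul, map_pow, eval₂_pow]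
        rw [← h', add_comm]
        congr 1
        · refine Finset.sum_congr rfl fun k hk => ?_
          have hkn : k ≤ n := by rw [Finset.mem_range] at hk; omega
          rw [mul_pow, show algebraMap B L (a (n + 1)) ^ n =
            algebraMap B L (a (n + 1)) ^ (n - k) * algebraMap B L (a (n + 1)) ^ k by
              rw [← pow_add, Nat.sub_add_cancel hkn]]
          ring
        · ring
    by_cases hn : IsUnit (a (n + 1))
    · obtain ⟨v, hv⟩ := hn
      refine Or.inl ⟨↑v⁻¹ * c, ?_⟩
      rw [map_mul, hc, ← mul_assoc, ← map_mul, ← hv, Units.inv_mul, map_one, one_mul]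
    have hin : i ≤ n := by
      rcases eq_or_lt_of_le hi with rfl | h
      · exact absurd hu hn
      · omega
    by_cases hlow : i = n ∧ ¬ IsUnit (a n + c)
    · obtain ⟨rfl, hnu⟩ := hlow
      have hcu : IsUnit c := by
        by_contra hcn
        rw [← mem_nonunits_iff, ← mem_maximalIdeal] at hnu hcn
        exact (mem_maximalIdeal _).1 (by simpa using sub_mem hnu hcn) hu
      obtain ⟨v, hv⟩ := hcu
      have hy : algebraMap B L (a (i + 1)) * y ≠ 0 := by
        rw [← hc]; exact fun h0 => v.ne_zero ((map_eq_zero_iff _ (IsFractionRing.injective B L)).1 (hv ▸ h0))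
      refine Or.inr ⟨↑v⁻¹ * a (i + 1), eq_inv_of_mul_eq_one_left ?_⟩
      rw [map_mul, mul_assoc, ← hc, ← map_mul, ← hv, Units.inv_mul, map_one]
    refine ih (Function.update a n (a n + c)) ?_ ⟨i, hin, ?_⟩
    · rw [Finset.sum_range_succ, Function.update_self]
      rw [Finset.sum_range_succ, Finset.sum_range_succ] at h
      rw [Finset.sum_congr rfl fun k hk => by
        rw [Function.update_of_ne (Finset.mem_range.1 hk).ne]]
      rw [map_add, add_mul, hc, ← h, pow_succ]
      ring
    · by_cases hi' : i = n
      · rw [hi', Function.update_self]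
        exact not_not.1 fun h0 => hlow ⟨hi', h0⟩
      · rwa [Function.update_of_ne hi']

variable {V : Type u} [CommRing V] [IsDomain V] [ValuationRing V] [Algebra V B]

/-- A finite nonempty set in a valuation ring has an element dividing all of it. -/
theorem exists_dvd_all (s : Finset V) (hs : s.Nonempty) : ∃ c ∈ s, ∀ d ∈ s, c ∣ d := by
  induction hs using Finset.Nonempty.cons_induction with
  | singleton a => exact ⟨a, by simp, by simp⟩
  | cons a s ha hs ih =>
    obtain ⟨c, hc, hcd⟩ := ih
    rcases ValuationRing.dvd_total a c with h | h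
    · exact ⟨a, by simp, fun d hd => (Finset.mem_cons.1 hd).elim (fun e => e ▸ dvd_rfl) fun hd => h.trans (hcd d hd)⟩
    · exact ⟨c, Finset.mem_cons_of_mem hc, fun d hd => (Finset.mem_cons.1 hd).elim (fun e => e ▸ h) (hcd d)⟩

/-- A nonzero polynomial in two variables over a valuation ring is a scalar times one with a unit
coefficient. -/
theorem exists_primitive (P : Polynomial (Polynomial V)) (hP : P ≠ 0) :
    ∃ (c : V) (Q : Polynomial (Polynomial V)), c ≠ 0 ∧ P = C (C c) * Q ∧ ∃ i j, IsUnit ((Q.coeff i).coeff j) := by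
  classical
  let s := P.support.biUnion fun i => (P.coeff i).support.image (P.coeff i).coeff
  have hmem : ∀ i j, (P.coeff i).coeff j ≠ 0 → (P.coeff i).coeff j ∈ s := fun i j h => Finset.mem_biUnion.2
    ⟨i, mem_support_iff.2 fun h0 => h (by rw [h0, coeff_zero]), Finset.mem_image.2 ⟨j, mem_support_iff.2 h, rfl⟩⟩
  obtain ⟨i, hi⟩ : ∃ i, P.coeff i ≠ 0 := by
    by_contra hh
    push Not at hh
    exact hP (Polynomial.ext fun i => by rw [hh i, coeff_zero])
  obtain ⟨j, hj⟩ : ∃ j, (P.coeff i).coeff j ≠ 0 := by
    by_contra hh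
    push Not at hh
    exact hi (Polynomial.ext fun j => by rw [hh j, coeff_zero])
  obtain ⟨c, hcs, hcd⟩ := exists_dvd_all s ⟨_, hmem i j hj⟩
  obtain ⟨i₀, hi₀, hj₀'⟩ := Finset.mem_biUnion.1 hcs
  obtain ⟨j₀, hj₀, hcj⟩ := Finset.mem_image.1 hj₀'
  have hc0 : c ≠ 0 := hcj ▸ mem_support_iff.1 hj₀
  have hdvd : C (C c) ∣ P := by
    rw [C_dvd_iff_dvd_coeff]
    intro k
    rw [C_dvd_iff_dvd_coeff]
    intro l
    by_cases h0 : (P.coeff k).coeff l = 0
    · rw [h0]; exact dvd_zero c
    · exact hcd _ (hmem k l h0)
  obtain ⟨Q, hQ⟩ := hdvd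
  refine ⟨c, Q, hc0, hQ, i₀, j₀, ?_⟩
  have h1 : c * (Q.coeff i₀).coeff j₀ = c * 1 := by rw [mul_one, ← coeff_C_mul, ← coeff_C_mul, ← hQ, hcj]
  rw [mul_left_cancel₀ hc0 h1]
  exact isUnit_one

/-- The criterion. -/
theorem valuationRing_of_transcendental [IsLocalHom (algebraMap V B)] (hVB : Function.Injective (algebraMap V B))
    [Algebra V L] [IsScalarTower V B L] (htr : Algebra.trdeg V L ≤ 1)
    (t : B) (ht : Transcendental (ResidueField V) (residue B t)) : ValuationRing B := by
  classical
  rw [ValuationRing.iff_isInteger_or_isInteger (R := B) (K := L)]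
  intro y
  have hunit : ∀ q : Polynomial V, (∃ j, IsUnit (q.coeff j)) → IsUnit (aeval t q) := by
    rintro q ⟨j, hj⟩
    rw [← residue_ne_zero_iff_isUnit]
    intro h0
    have h1 : aeval (residue B t) (q.map (residue V)) = 0 := by
      rw [← h0, aeval_def, eval₂_map, aeval_def, hom_eval₂]
      rfl
    have h2 : q.map (residue V) = 0 := (transcendental_iff.1 ht) _ h1
    have h3 : residue V (q.coeff j) = 0 := by rw [← coeff_map, h2, coeff_zero]
    exact (residue_ne_zero_iff_isUnit _).2 hj h3
  have hinjL : Function.Injective (algebraMap V L) := by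
    rw [IsScalarTower.algebraMap_eq V B L]
    exact (IsFractionRing.injective B L).comp hVB
  have htL : ∀ q : Polynomial V, aeval (algebraMap B L t) q = 0 → q = 0 := by
    intro q hq
    rw [aeval_algebraMap_apply, map_eq_zero_iff _ (IsFractionRing.injective B L)] at hq
    by_contra hq0
    obtain ⟨c, Q, hc, hcQ, i, j, hij⟩ := exists_primitive (C q) (C_ne_zero.2 hq0)
    have hq' : q = C c * Q.coeff 0 := by
      have := congrArg (fun P => P.coeff 0) hcQ
      simpa [coeff_C_mul] using this
    have hQi : i = 0 := by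
      by_contra hi
      have := congrArg (fun P => P.coeff i) hcQ
      simp only [coeff_C, if_neg hi, coeff_C_mul] at this
      rcases mul_eq_zero.1 this.symm with h | h
      · exact hc (C_eq_zero.1 h)
      · rw [h, coeff_zero] at hij; exact not_isUnit_zero hij
    subst hQi
    rw [hq', map_mul, aeval_C] at hq
    rcases mul_eq_zero.1 hq with h | h
    · exact hc ((map_eq_zero_iff _ hVB).1 h)
    · exact (hunit _ ⟨j, hij⟩).ne_zero h
  let x : PUnit.{u + 1} → L := fun _ => algebraMap B L t
  have hind : AlgebraicIndependent V x := algebraicIndependent_unique_type_iff.2 (transcendental_iff.2 htL)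
  have hbasis : IsTranscendenceBasis V x := hind.isTranscendenceBasis_of_trdeg_le
    (htr.trans_lt Cardinal.one_lt_aleph0) (by rwa [Cardinal.mk_punit])
  haveI := hbasis.isAlgebraic
  obtain ⟨p, hp0, hp⟩ := Algebra.IsAlgebraic.isAlgebraic (R := Algebra.adjoin V (Set.range x)) y
  let φ : Polynomial V →ₐ[V] L := aeval (algebraMap B L t)
  have hsurj : ∀ z : Algebra.adjoin V (Set.range x), ∃ q, φ q = z.1 := fun z => by
    have hz : z.1 ∈ Algebra.adjoin V ({algebraMap B L t} : Set L) :=
      (congrArg (fun S => z.1 ∈ Algebra.adjoin V S) (Set.range_unique (f := x))).mp z.2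
    rw [Algebra.adjoin_singleton_eq_range_aeval] at hz
    exact hz
  choose lift hlift using hsurj
  let P : Polynomial (Polynomial V) := ∑ i ∈ p.support, monomial i (lift (p.coeff i))
  have hPc : ∀ i, φ (P.coeff i) = (p.coeff i).1 := by
    intro i
    simp only [P, finsetSum_coeff, coeff_monomial, Finset.sum_ite_eq']
    split_ifs with hi
    · exact hlift _
    · rw [notMem_support_iff.1 hi, map_zero]; rfl
  have hP0 : P ≠ 0 := fun h => hp0 (Polynomial.ext fun i => Subtype.ext (by rw [← hPc, h, coeff_zero, map_zero, coeff_zero]; rfl))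
  have hPy : P.eval₂ φ.toRingHom y = 0 := by
    rw [← eval_map]
    have : P.map φ.toRingHom = p.map (algebraMap _ L) := Polynomial.ext fun i => by
      rw [coeff_map, coeff_map]; exact hPc i
    rw [this, eval_map, ← aeval_def, hp]
  obtain ⟨c, Q, hc, hPQ, i, j, hij⟩ := exists_primitive P hP0
  have hQy : Q.eval₂ φ.toRingHom y = 0 := by
    rw [hPQ, eval₂_mul, eval₂_C] at hPy
    refine (mul_eq_zero.1 hPy).resolve_left fun h => hc ?_
    have h' : algebraMap V L c = 0 := by
      have : φ (C c) = 0 := h
      rwa [aeval_C] at this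
    exact hinjL (h'.trans (map_zero _).symm)
  refine isInteger_or_isInteger_inv y Q.natDegree (fun k => aeval t (Q.coeff k)) ?_ ⟨i, ?_, hunit _ ⟨j, hij⟩⟩
  · rw [eval₂_eq_sum_range] at hQy
    rw [← hQy]
    refine Finset.sum_congr rfl fun k _ => ?_
    rw [← aeval_algebraMap_apply]
    rfl
  · refine le_natDegree_of_ne_zero fun h => ?_
    rw [h, coeff_zero] at hij
    exact not_isUnit_zero hij

end Groth.Agent.H8Norm.GaussNormal
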