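import Mathlib
import Groth.Agent.H8Props.FieldDimHeight

/-! Algebraic independence of a generic linear combination. -/

set_option autoImplicit false
universe u
open MvPolynomial

namespace Groth.Agent.H8Norm

theorem algebraicIndependent_of_minimal_prime {k A : Type u} [Field k] [CommRing A] [IsDomain A]
    [Algebra k A] [Algebra.FiniteType k A] (g : Fin 2 → A)
    (p : Ideal A) (hp : p ∈ (Ideal.span {g 0, g 1}).minimalPrimes)
    (hdim : ringKrullDim (A ⧸ p) + 2 = ringKrullDim A) : AlgebraicIndependent k g := by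
  haveI := hp.isPrime
  haveI : IsNoetherianRing A := Algebra.FiniteType.isNoetherianRing k A
  have hg0 : g 0 ∈ p := hp.1.2 (Ideal.subset_span (Or.inl rfl))
  have hg1 : g 1 ∈ p := hp.1.2 (Ideal.subset_span (Or.inr rfl))
  have hh : ¬ p.height ≤ 1 := by
    intro h1
    have h2 := Groth.Agent.H8Props.FieldDim.height_add_dim_quotient k A p
    rw [← h2] at hdim
    obtain ⟨n, s, hs⟩ : ∃ n, ∃ s : MvPolynomial (Fin n) k →ₐ[k] (A ⧸ p), Function.Surjective s :=
      Algebra.FiniteType.iff_quotient_mvPolynomial''.1 inferInstance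
    have hle : ringKrullDim (A ⧸ p) ≤ (n : WithBot ℕ∞) := by
      refine (ringKrullDim_le_of_surjective s.toRingHom hs).trans ?_
      rw [MvPolynomial.ringKrullDim_of_isNoetherianRing]; simp
    haveI : Nontrivial (A ⧸ p) := Ideal.Quotient.nontrivial_iff.2 ‹p.IsPrime›.ne_top
    have hne : ringKrullDim (A ⧸ p) ≠ ⊥ := fun h => by
      simpa [h] using ringKrullDim_nonneg_of_nontrivial (R := A ⧸ p)
    generalize hd : ringKrullDim (A ⧸ p) = d at hdim hle hne
    generalize hht : p.height = h at hdim h1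
    obtain ⟨d, rfl⟩ := WithBot.ne_bot_iff_exists.1 hne
    obtain ⟨d, rfl⟩ := ENat.ne_top_iff_exists.1 (fun h => ENat.natCast_ne_top n
      (top_le_iff.1 (h ▸ WithBot.coe_le_coe.1 hle)))
    obtain ⟨h, rfl⟩ := ENat.ne_top_iff_exists.1 (ne_top_of_le_ne_top ENat.one_ne_top h1)
    have h4 : ((d + 2 : ℕ) : ℕ∞) = ((h + d : ℕ) : ℕ∞) := WithBot.coe_injective (by
      rw [Nat.cast_add, Nat.cast_add, WithBot.coe_add, WithBot.coe_add]
      exact hdim)
    have h3 : d + 2 = h + d := by exact_mod_cast h4
    have : h ≤ 1 := by exact_mod_cast h1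
    omega
  have hne0 : g 0 ≠ 0 := by
    intro h0
    refine hh (Ideal.height_le_one_of_isPrincipal_of_mem_minimalPrimes (Ideal.span {g 1}) p ?_)
    rwa [h0, Ideal.span_insert_zero] at hp
  have hne : Function.Injective (aeval g : MvPolynomial (Fin 2) k →ₐ[k] A) := by
    rw [injective_iff_map_eq_zero]
    intro F hF
    by_contra hF0
    let φ : MvPolynomial (Fin 2) k →+* A := (aeval g : MvPolynomial (Fin 2) k →ₐ[k] A).toRingHom
    refine hh (Ideal.height_le_one_of_isPrincipal_of_mem_minimalPrimes (Ideal.span {g 0}) p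
      ⟨⟨inferInstance, (Ideal.span_singleton_le_iff_mem _).2 hg0⟩, fun q ⟨hq, hbq⟩ hqp => ?_⟩)
    haveI := hq
    have hq0 : g 0 ∈ q := (Ideal.span_singleton_le_iff_mem _).1 hbq
    refine hp.2 ⟨hq, Ideal.span_le.2 ?_⟩ hqp
    rintro x (rfl | rfl)
    · exact hq0
    by_contra hq1
    let Q := RingHom.ker φ
    haveI : Q.IsPrime := RingHom.ker_isPrime φ
    haveI : (q.comap φ).IsPrime := Ideal.IsPrime.comap φ
    haveI : (p.comap φ).IsPrime := Ideal.IsPrime.comap φ
    have l1 : (⊥ : Ideal (MvPolynomial (Fin 2) k)) < Q :=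
      bot_lt_iff_ne_bot.2 fun h => hF0 (by simpa [h] using (show F ∈ Q from hF))
    have l2 : Q < q.comap φ := by
      refine lt_of_le_of_ne (fun a ha => by simp [Ideal.mem_comap, show φ a = 0 from ha]) fun h => hne0 ?_
      have : (X 0 : MvPolynomial (Fin 2) k) ∈ Q := h ▸ (by simpa [φ] using hq0)
      simpa [Q, φ] using this
    have l3 : q.comap φ < p.comap φ := by
      refine lt_of_le_of_ne (Ideal.comap_mono hqp) fun h => hq1 ?_
      have : (X 1 : MvPolynomial (Fin 2) k) ∈ q.comap φ := h ▸ (by simpa [φ] using hg1)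
      simpa [φ] using this
    have htop : ringKrullDim (MvPolynomial (Fin 2) k) = 2 := by
      rw [MvPolynomial.ringKrullDim_of_isNoetherianRing]; simp
    have h1 := Ideal.height_le_ringKrullDim_of_ne_top (I := p.comap φ) Ideal.IsPrime.ne_top'
    rw [htop] at h1
    have hle : (p.comap φ).height ≤ 2 := WithBot.coe_le_coe.1 h1
    have s3 := Ideal.height_strict_mono_of_isPrime_of_isPrime l3
    have s2 := Ideal.height_strict_mono_of_isPrime_of_isPrime l2
    have s1 := Ideal.height_strict_mono_of_isPrime_of_isPrime l1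
    have e1 : (1 : ℕ∞) ≤ Q.height := Order.one_le_iff_pos.2 (lt_of_le_of_lt zero_le s1)
    have e2 : (2 : ℕ∞) ≤ (q.comap φ).height := by
      have := Order.add_one_le_of_lt (e1.trans_lt s2); simpa [one_add_one_eq_two] using this
    exact absurd hle (not_le.2 (e2.trans_lt s3))
  exact hne

theorem scale_comp {k K ι : Type*} [Field k] [Field K] [Algebra k K] [Fintype ι] [DecidableEq ι]
    (g : ι → K) (i0 : ι) (h : K) :
    let v : ι ⊕ Fin 2 → MvPolynomial ι K := Sum.elim (fun i : ι => X i) ![∑ i, C (g i) * X i, C h]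
    let w : ι ⊕ Fin 2 → Polynomial (MvPolynomial (ι ⊕ Fin 2) k) :=
      Sum.elim (fun i => if i = i0 then Polynomial.C (X (.inl i)) else Polynomial.X * Polynomial.C (X (.inl i)))
        (fun j => Polynomial.C (X (.inr j)))
    let v' : ι ⊕ Fin 2 → Polynomial (MvPolynomial ι K) :=
      Sum.elim (fun i => Polynomial.C (X i))
        ![Polynomial.C (C (g i0) * X i0) + Polynomial.X * Polynomial.C (∑ i ∈ Finset.univ.erase i0, C (g i) * X i),
          Polynomial.C (C h)]
    (Polynomial.eval₂RingHom (aeval v' : MvPolynomial (ι ⊕ Fin 2) k →ₐ[k] _).toRingHom Polynomial.X).comp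
        (aeval w : MvPolynomial (ι ⊕ Fin 2) k →ₐ[k] _).toRingHom =
      (aeval (fun i => if i = i0 then Polynomial.C (X i) else Polynomial.X * Polynomial.C (X i)) :
        MvPolynomial ι K →ₐ[K] Polynomial (MvPolynomial ι K)).toRingHom.comp
        (aeval v : MvPolynomial (ι ⊕ Fin 2) k →ₐ[k] _).toRingHom := by
  intro v w v'
  refine MvPolynomial.ringHom_ext (fun c => ?_) fun j => ?_
  · simp [IsScalarTower.algebraMap_apply k K (MvPolynomial ι K), Polynomial.algebraMap_apply]
  simp only [AlgHom.toRingHom_eq_coe, RingHom.coe_comp, RingHom.coe_coe, Function.comp_apply, aeval_X]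
  rcases j with i | i
  · by_cases hi0 : i = i0
    · subst hi0; simp [w, v', v]
    · simp [w, v', v, hi0]
  · fin_cases i
    · simp only [w, v', v, Sum.elim_inr, Polynomial.coe_eval₂RingHom, Polynomial.eval₂_C, RingHom.coe_coe,
        aeval_X, Matrix.cons_val_zero, Fin.zero_eta]
      rw [show (∑ i, C (g i) * X i : MvPolynomial ι K) =
        C (g i0) * X i0 + ∑ i ∈ Finset.univ.erase i0, C (g i) * X i from
          (Finset.add_sum_erase Finset.univ (fun i => C (g i) * X i) (Finset.mem_univ i0)).symm]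
      simp only [map_add, map_sum, Finset.mul_sum, map_mul, aeval_C, aeval_X, if_pos,
        Polynomial.algebraMap_apply, MvPolynomial.algebraMap_eq]
      refine congrArg₂ (· + ·) ?_ (Finset.sum_congr rfl fun i hi => ?_)
      · rfl
      · rw [if_neg (Finset.ne_of_mem_erase hi)]
        ring
    · simp [w, v', v, Polynomial.algebraMap_apply]

set_option maxHeartbeats 800000 in
theorem algebraicIndependent_linear {k K ι : Type*} [Field k] [Field K] [Algebra k K] [Fintype ι]
    [DecidableEq ι] (g : ι → K) (i0 : ι) (h : K) (hi : AlgebraicIndependent k ![g i0, h]) :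
    AlgebraicIndependent k (Sum.elim (fun i : ι => (X i : MvPolynomial ι K))
      ![∑ i, C (g i) * X i, C h]) := by
  let v : ι ⊕ Fin 2 → MvPolynomial ι K := Sum.elim (fun i : ι => X i) ![∑ i, C (g i) * X i, C h]
  let v0 : ι ⊕ Fin 2 → MvPolynomial ι K := Sum.elim (fun i : ι => X i) ![C (g i0) * X i0, C h]
  -- the leading form
  have h0 : Function.Injective (aeval v0 : MvPolynomial (ι ⊕ Fin 2) k →ₐ[k] MvPolynomial ι K) := by
    let τ : MvPolynomial (ι ⊕ Fin 2) k →ₐ[k] MvPolynomial (ι ⊕ Fin 2) k :=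
      aeval (Sum.elim (fun i => X (.inl i)) ![X (.inr 0) * X (.inl i0), X (.inr 1)])
    have hτ : Function.Injective τ := by
      let F := FractionRing (MvPolynomial (ι ⊕ Fin 2) k)
      let m : MvPolynomial (ι ⊕ Fin 2) k →ₐ[k] F := IsScalarTower.toAlgHom k _ F
      have hm : Function.Injective m := IsFractionRing.injective _ F
      let ρ : MvPolynomial (ι ⊕ Fin 2) k →ₐ[k] F :=
        aeval (Sum.elim (fun i => m (X (.inl i))) ![m (X (.inr 0)) / m (X (.inl i0)), m (X (.inr 1))])
      have hx : m (X (.inl i0)) ≠ 0 := fun h => X_ne_zero (R := k) (Sum.inl i0) (hm (h.trans (map_zero m).symm))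
      have : ρ.comp τ = m := by
        refine MvPolynomial.algHom_ext fun j => ?_
        rcases j with i | i
        · simp [ρ, τ]
        · fin_cases i <;> simp [ρ, τ, div_mul_cancel₀ _ hx]
      intro a b hab
      exact hm (by rw [← this]; exact congrArg ρ hab)
    let θ : MvPolynomial (ι ⊕ Fin 2) k →ₐ[k] MvPolynomial ι K :=
      aeval (Sum.elim (fun i : ι => X i) ![C (g i0), C h])
    have hθ : Function.Injective θ := by
      let ev : MvPolynomial (Fin 2) k →ₐ[k] K := aeval ![g i0, h]
      have : θ = (MvPolynomial.mapAlgHom ev).comp (sumAlgEquiv k ι (Fin 2)).toAlgHom := by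
        refine MvPolynomial.algHom_ext fun j => ?_
        rcases j with i | i
        · simp [θ, ev]
        · fin_cases i <;> simp [θ, ev]
      rw [this]
      exact (MvPolynomial.map_injective ev.toRingHom hi).comp (sumAlgEquiv k ι (Fin 2)).injective
    have : θ.comp τ = aeval v0 := by
      refine MvPolynomial.algHom_ext fun j => ?_
      rcases j with i | i
      · simp [θ, τ, v0]
      · fin_cases i <;> simp [θ, τ, v0]
    rw [← this]
    exact hθ.comp hτ
  show Function.Injective (aeval v : MvPolynomial (ι ⊕ Fin 2) k →ₐ[k] MvPolynomial ι K)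
  rw [injective_iff_map_eq_zero]
  intro P hP
  by_contra hP0
  -- scale the variables other than `i0` by `t`
  let w : ι ⊕ Fin 2 → Polynomial (MvPolynomial (ι ⊕ Fin 2) k) :=
    Sum.elim (fun i => if i = i0 then Polynomial.C (X (.inl i)) else Polynomial.X * Polynomial.C (X (.inl i)))
      (fun j => Polynomial.C (X (.inr j)))
  let Φ : MvPolynomial (ι ⊕ Fin 2) k →ₐ[k] Polynomial (MvPolynomial (ι ⊕ Fin 2) k) := aeval w
  let v' : ι ⊕ Fin 2 → Polynomial (MvPolynomial ι K) :=
    Sum.elim (fun i => Polynomial.C (X i))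
      ![Polynomial.C (C (g i0) * X i0) + Polynomial.X * Polynomial.C (∑ i ∈ Finset.univ.erase i0, C (g i) * X i),
        Polynomial.C (C h)]
  let Ψ : Polynomial (MvPolynomial (ι ⊕ Fin 2) k) →+* Polynomial (MvPolynomial ι K) :=
    Polynomial.eval₂RingHom (aeval v' : MvPolynomial (ι ⊕ Fin 2) k →ₐ[k] _).toRingHom Polynomial.X
  let σ : MvPolynomial ι K →ₐ[K] Polynomial (MvPolynomial ι K) :=
    aeval (fun i => if i = i0 then Polynomial.C (X i) else Polynomial.X * Polynomial.C (X i))
  have key : Ψ.comp Φ.toRingHom = σ.toRingHom.comp (aeval v : MvPolynomial (ι ⊕ Fin 2) k →ₐ[k] _).toRingHom :=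
    scale_comp g i0 h
  have hΦP : Φ P ≠ 0 := by
    intro h1
    apply hP0
    have : (Polynomial.evalRingHom (1 : MvPolynomial (ι ⊕ Fin 2) k)).comp Φ.toRingHom = RingHom.id _ := by
      refine MvPolynomial.ringHom_ext (fun c => by simp [Φ]) fun j => ?_
      rcases j with i | i
      · by_cases hi0 : i = i0 <;> simp [Φ, w, hi0]
      · simp [Φ, w]
    have := RingHom.congr_fun this P
    simpa [h1] using this.symm
  obtain ⟨Q, hQ, hQ0⟩ := Polynomial.exists_eq_pow_rootMultiplicity_mul_and_not_dvd (Φ P) hΦP 0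
  rw [map_zero, sub_zero] at hQ hQ0
  have h2 : Ψ (Φ P) = 0 := by
    have := RingHom.congr_fun key P
    simp only [RingHom.coe_comp, Function.comp_apply, AlgHom.toRingHom_eq_coe, RingHom.coe_coe] at this
    rw [this, hP, map_zero]
  have hX : Ψ Polynomial.X = Polynomial.X := by simp [Ψ]
  rw [hQ, map_mul, map_pow, hX, mul_eq_zero] at h2
  have h3 : Ψ Q = 0 := h2.resolve_left (pow_ne_zero _ Polynomial.X_ne_zero)
  have h4 : (Polynomial.evalRingHom (0 : MvPolynomial ι K)).comp Ψ =
      (aeval v0 : MvPolynomial (ι ⊕ Fin 2) k →ₐ[k] _).toRingHom.comp (Polynomial.evalRingHom 0) := by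
    refine Polynomial.ringHom_ext (fun a => ?_) (by simp [Ψ])
    simp only [RingHom.coe_comp, Function.comp_apply, Ψ, Polynomial.coe_eval₂RingHom,
      Polynomial.eval₂_C, Polynomial.coe_evalRingHom, Polynomial.eval_C, AlgHom.toRingHom_eq_coe,
      RingHom.coe_coe]
    induction a using MvPolynomial.induction_on with
    | C c => simp [IsScalarTower.algebraMap_apply k K (MvPolynomial ι K), Polynomial.algebraMap_apply]
    | add a b ha hb => simp [ha, hb]
    | mul_X a j ha =>
      rw [map_mul, map_mul, Polynomial.eval_mul, ha]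
      rcases j with i | i
      · simp [v', v0]
      · fin_cases i <;> simp [v', v0]
  have h5 := RingHom.congr_fun h4 Q
  simp only [RingHom.coe_comp, Function.comp_apply, h3, map_zero] at h5
  have h6 : Polynomial.eval 0 Q = 0 := h0 (by simpa using h5.symm)
  exact hQ0 (Polynomial.X_dvd_iff.2 ((Polynomial.coeff_zero_eq_eval_zero Q).trans h6))

end Groth.Agent.H8Norm
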