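import Groth.Agent.S4646
import Groth.Agent.H06Geom.Components
import Groth.Agent.H7Flat.GeomInt.Counts
import Groth.Agent.H1CAlg.AlgClosureFinite
import Groth.Agent.H27Weil.Frobenius
import Groth.Agent.H06Conn.FiniteExtension
import Groth.Agent.H06EGA15.GeomPoints

/-!
# The geometric number of irreducible components over fields
-/

set_option autoImplicit false
set_option linter.style.haveILetI false
set_option backward.isDefEq.respectTransparency false

universe u

open CategoryTheory CategoryTheory.Limits AlgebraicGeometry TopologicalSpace Topology IsLocalRing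

namespace Groth.Agent.H8Norm.GeomCompCount

/-- A flat surjection does not lose components. -/
theorem encard_le_of_flat_surjective {A B : Scheme.{u}} (p : A ⟶ B) [Flat p] (hp : Function.Surjective p) :
    (irreducibleComponents ↥B).encard ≤ (irreducibleComponents ↥A).encard := by
  choose s hs hs' using fun η : genericPoints ↥B => H06Geom.exists_component_over p hp η.2
  calc (irreducibleComponents ↥B).encard = ENat.card (genericPoints ↥B) := ENat.card_congr genericPoints.equiv.symm
    _ ≤ ENat.card (genericPoints ↥A) :=
        ENat.card_le_card_of_injective (f := fun η => (⟨s η, hs η⟩ : genericPoints ↥A))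
          fun η η' h => Subtype.ext ((hs' η).symm.trans
            ((congrArg (fun z : genericPoints ↥A => p z.1) h).trans (hs' η')))
    _ = (irreducibleComponents ↥A).encard := ENat.card_congr genericPoints.equiv

variable {X Y : Scheme.{u}} (f : X ⟶ Y)

/-- No field has more components than the geometric number. -/
theorem encard_le_nGeom {E : Type u} [Field E] (a : Spec (CommRingCat.of E) ⟶ Y) :
    (irreducibleComponents ↥(pullback f a)).encard ≤ MoreMor.nGeomIrredComp f (a (closedPoint E)) := by
  let b : Spec (CommRingCat.of (AlgebraicClosure E)) ⟶ Spec (CommRingCat.of E) :=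
    Spec.map (CommRingCat.ofHom (algebraMap E (AlgebraicClosure E)))
  haveI : Surjective b := ⟨fun _ => ⟨closedPoint _, Subsingleton.elim (α := PrimeSpectrum E) _ _⟩⟩
  haveI : Flat b := by
    rw [HasRingHomProperty.Spec_iff (P := @Flat)]
    exact RingHom.flat_algebraMap_iff.2 inferInstance
  let m := pullback.fst (pullback.snd f a) b
  refine (encard_le_of_flat_surjective m m.surjective).trans_eq ?_
  rw [H7Flat.GeomInt.encard_irreducibleComponents_congr (pullbackLeftPullbackSndIso f a b).hom.homeomorph,
    (H7Flat.GeomInt.nGeom_eq f (b ≫ a) rfl).1, Scheme.Hom.comp_apply]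
  congr 1
  exact congrArg a (Subsingleton.elim (α := PrimeSpectrum E) _ _)

variable [LocallyOfFiniteType f] [QuasiCompact f]

theorem noetherianSpace_pullback {k : Type u} [Field k] (a : Spec (CommRingCat.of k) ⟶ Y) :
    NoetherianSpace ↥(pullback f a) := by
  haveI : IsNoetherianRing (CommRingCat.of k) := inferInstanceAs (IsNoetherianRing k)
  haveI : IsLocallyNoetherian (pullback f a) := LocallyOfFiniteType.isLocallyNoetherian (pullback.snd f a)
  haveI : CompactSpace ↥(pullback f a) := QuasiCompact.compactSpace_of_compactSpace (pullback.snd f a)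
  haveI : AlgebraicGeometry.IsNoetherian (pullback f a) := {}
  infer_instance

theorem nGeomIrredComp_lt_top (y : Y) : MoreMor.nGeomIrredComp f y < ⊤ := by
  obtain ⟨Ω, _, _, a, rfl⟩ := H06EGA15.exists_geometric_point y
  haveI := noetherianSpace_pullback f a
  rw [← (H7Flat.GeomInt.nGeom_eq f a rfl).1]
  exact (NoetherianSpace.finite_irreducibleComponents).encard_lt_top

/-- Some finite extension reaches the geometric number of irreducible components. -/
theorem exists_finite_irred {E : Type u} [Field E] (a : Spec (CommRingCat.of E) ⟶ Y) :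
    ∃ (F : Type u) (_ : Field F) (_ : Algebra E F), FiniteDimensional E F ∧
      MoreMor.nGeomIrredComp f (a (closedPoint E)) ≤
        (irreducibleComponents ↥(pullback f (Spec.map (CommRingCat.ofHom (algebraMap E F)) ≫ a))).encard := by
  let g : pullback f a ⟶ Spec (CommRingCat.of E) := pullback.snd f a
  haveI : LocallyOfFiniteType g := inferInstanceAs (LocallyOfFiniteType (pullback.snd f a))
  haveI := noetherianSpace_pullback f a
  haveI : Finite ↥(irreducibleComponents ↥(pullback f a)) :=
    (NoetherianSpace.finite_irreducibleComponents).to_subtype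
  obtain ⟨L, _, _, hL, -, h⟩ := S4646.result g fun Z hZ => by
    obtain ⟨φ, hφ⟩ := Spec.map_surjective ((pullback f a).fromSpecResidueField hZ.1.genericPoint ≫ g)
    refine ⟨φ.hom, hφ, ?_⟩
    letI := φ.hom.toAlgebra
    haveI : Algebra.EssFiniteType E ((pullback f a).residueField hZ.1.genericPoint) :=
      H27Weil.essFiniteType_residueField g _ φ hφ
    haveI := H1CAlg.finiteDimensional_algebraicClosure E ((pullback f a).residueField hZ.1.genericPoint)
    show FiniteDimensional E (separableClosure E ((pullback f a).residueField hZ.1.genericPoint))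
    exact Module.Finite.of_injective (IntermediateField.inclusion (show separableClosure E ((pullback f a).residueField hZ.1.genericPoint) ≤ algebraicClosure E ((pullback f a).residueField hZ.1.genericPoint) from
      fun x hx => mem_algebraicClosure_iff'.2 (mem_separableClosure_iff.1 hx).isIntegral)).toLinearMap (fun p q hh => Subtype.ext (congrArg Subtype.val hh :))
  refine ⟨L, inferInstance, inferInstance, hL, ?_⟩
  let Ω := AlgebraicClosure L
  let s : Spec (CommRingCat.of L) ⟶ Spec (CommRingCat.of E) := Spec.map (CommRingCat.ofHom (algebraMap E L))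
  let t : Spec (CommRingCat.of Ω) ⟶ Spec (CommRingCat.of L) := Spec.map (CommRingCat.ofHom (algebraMap L Ω))
  let π : FBase.bc (FBase.bcStr g L) Ω ⟶ FBase.bc g L := FBase.bcπ (FBase.bcStr g L) Ω
  haveI : Flat t := by
    rw [HasRingHomProperty.Spec_iff (P := @Flat)]
    exact RingHom.flat_algebraMap_iff.2 inferInstance
  haveI : Flat π := inferInstanceAs (Flat (pullback.fst (FBase.bcStr g L) t))
  have key : ENat.card (genericPoints ↥(FBase.bc (FBase.bcStr g L) Ω)) ≤ ENat.card (genericPoints ↥(FBase.bc g L)) := by
    refine ENat.card_le_card_of_injective (f := fun ξ : genericPoints ↥(FBase.bc (FBase.bcStr g L) Ω) =>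
      (⟨π ξ.1, H8Props.flat_map_genericPoints π ξ.2⟩ : genericPoints ↥(FBase.bc g L))) ?_
    intro ξ ξ' hξ
    have hh : π ξ.1 = π ξ'.1 := congrArg Subtype.val hξ
    obtain ⟨ζ, hζ⟩ := QuasiSober.sober (h Ω _ (H8Props.flat_map_genericPoints π ξ.2))
      (isClosed_closure.preimage π.continuous)
    exact Subtype.ext (((H8Props.mem_genericPoints_iff.1 ξ.2) ζ
      (hζ.specializes (show π ξ.1 ∈ closure {π ξ.1} from subset_closure rfl))).symm.trans
      ((H8Props.mem_genericPoints_iff.1 ξ'.2) ζ
        (hζ.specializes (show π ξ'.1 ∈ closure {π ξ.1} from hh ▸ subset_closure rfl))))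
  let e₁ : FBase.bc g L ≅ pullback f (s ≫ a) := pullbackLeftPullbackSndIso f a s
  let e₂ : FBase.bc (FBase.bcStr g L) Ω ≅ pullback f ((t ≫ s) ≫ a) :=
    pullbackLeftPullbackSndIso g s t ≪≫ pullbackLeftPullbackSndIso f a (t ≫ s)
  calc MoreMor.nGeomIrredComp f (a (closedPoint E))
      = (irreducibleComponents ↥(pullback f ((t ≫ s) ≫ a))).encard := by
        rw [(H7Flat.GeomInt.nGeom_eq f ((t ≫ s) ≫ a) rfl).1, Scheme.Hom.comp_apply]
        congr 1
        exact congrArg a (Subsingleton.elim (α := PrimeSpectrum E) _ _)
    _ = ENat.card (genericPoints ↥(FBase.bc (FBase.bcStr g L) Ω)) := by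
        rw [← H7Flat.GeomInt.encard_irreducibleComponents_congr e₂.hom.homeomorph]
        exact ENat.card_congr genericPoints.equiv.symm
    _ ≤ ENat.card (genericPoints ↥(FBase.bc g L)) := key
    _ = (irreducibleComponents ↥(pullback f (s ≫ a))).encard := by
        rw [← H7Flat.GeomInt.encard_irreducibleComponents_congr e₁.hom.homeomorph]
        exact ENat.card_congr genericPoints.equiv

end Groth.Agent.H8Norm.GeomCompCount
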