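import Groth.Agent.S1543
import Groth.Agent.H17.Reduced
import Groth.Agent.H8Props.Reduced
import Mathlib.AlgebraicGeometry.Geometrically.Integral

/-!
# Reduced components of geometrically reduced schemes over a field are geometrically reduced
-/

set_option autoImplicit false
set_option linter.style.haveILetI false
set_option backward.isDefEq.respectTransparency false

universe u

open CategoryTheory CategoryTheory.Limits AlgebraicGeometry TopologicalSpace Topology

namespace Groth.Agent.H8Norm.GeomIntComponents

variable {k : Type u} [Field k] {W Z : Scheme.{u}}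

/-- A component, with reduced structure, of a geometrically reduced scheme is geometrically reduced. -/
theorem geometricallyReduced_component (f : W ⟶ Spec (CommRingCat.of k)) [LocallyOfFiniteType f]
    [QuasiCompact f] [GeometricallyReduced f] (i : Z ⟶ W) [IsClosedImmersion i] [IsReduced Z]
    (hT : Set.range i ∈ irreducibleComponents ↥W) : GeometricallyReduced (i ≫ f) := by
  haveI : IsNoetherianRing (CommRingCat.of k) := inferInstanceAs (IsNoetherianRing k)
  haveI : IsLocallyNoetherian W := LocallyOfFiniteType.isLocallyNoetherian f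
  haveI : CompactSpace ↥W := QuasiCompact.compactSpace_of_compactSpace f
  haveI : AlgebraicGeometry.IsNoetherian W := {}
  have hfin : (irreducibleComponents ↥W).Finite := NoetherianSpace.finite_irreducibleComponents
  let O : W.Opens := ⟨(⋃₀ (irreducibleComponents ↥W \ {Set.range i}))ᶜ,
    (Set.sUnion_eq_biUnion ▸ (hfin.subset Set.diff_subset).isClosed_biUnion (f := fun T => T)
      fun T hT => isClosed_of_mem_irreducibleComponents _ hT.1).isOpen_compl⟩
  have hO : (O : Set W) ⊆ Set.range i := fun w hw => by
    by_contra hne
    exact hw ⟨_, ⟨irreducibleComponent_mem_irreducibleComponents w, fun h => hne (h.subset mem_irreducibleComponent)⟩,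
      mem_irreducibleComponent⟩
  letI : Z.Over (Spec (CommRingCat.of k)) := ⟨i ≫ f⟩
  refine Groth.Agent.S1543.result k Z fun C hC η hη => ?_
  have hCu : C = Set.univ := by
    haveI : IrreducibleSpace ↥Z := by
      let e := i.isClosedEmbedding.isEmbedding.toHomeomorph
      haveI : IrreducibleSpace ↥(Set.range i) := Subtype.irreducibleSpace hT.1
      rw [irreducibleSpace_def, Set.top_eq_univ, ← Set.image_univ_of_surjective e.symm.surjective]
      exact (IrreducibleSpace.isIrreducible_univ (X := ↥(Set.range i))).image e.symm e.symm.continuous.continuousOn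
    rw [irreducibleComponents_eq_singleton] at hC
    exact hC
  have hηO : i η ∈ O := by
    rintro ⟨T, ⟨hT', hne⟩, hmem⟩
    have hle : Set.range i ⊆ T := by
      rintro _ ⟨z, rfl⟩
      exact ((hη.specializes (hCu ▸ trivial : z ∈ C)).map i.continuous).mem_closed
        (isClosed_of_mem_irreducibleComponents _ hT') hmem
    exact hne (Set.mem_singleton_iff.2 ((hT.2 hT'.1 hle).antisymm hle))
  intro K _ _ x' hx'
  let a : Spec (CommRingCat.of K) ⟶ Spec (CommRingCat.of k) :=
    Spec.map (CommRingCat.ofHom (algebraMap k K))
  let e := pullbackRightPullbackFstIso f a i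
  let Q := pullback i (pullback.fst f a)
  let M : Q ⟶ pullback f a := pullback.snd i (pullback.fst f a)
  haveI : IsReduced (pullback f a) :=
    GeometricallyReduced.geometrically_isReduced (f := f) a _ _ (.of_hasPullback _ _)
  let V : (pullback f a).Opens := pullback.fst f a ⁻¹ᵁ O
  haveI : IsReduced V.toScheme := isReduced_of_isOpenImmersion V.ι
  haveI : IsClosedImmersion (M ∣_ V) := inferInstance
  haveI : Surjective (M ∣_ V) := ⟨fun v => by
    obtain ⟨q, hq⟩ : V.ι v ∈ Set.range M := by
      rw [Scheme.Pullback.range_snd]
      exact hO v.2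
    refine ⟨⟨q, by show M q ∈ V; rw [hq]; exact v.2⟩, V.ι.isOpenEmbedding.injective ?_⟩
    rw [← Scheme.Hom.comp_apply, morphismRestrict_ι, Scheme.Hom.comp_apply]
    exact hq⟩
  haveI : IsIso (M ∣_ V) := isIso_of_isClosedImmersion_of_surjective _
  obtain ⟨q, rfl⟩ : ∃ q, e.hom q = x' := ⟨e.inv x', by rw [← Scheme.Hom.comp_apply, e.inv_hom_id]; rfl⟩
  have hqV : M q ∈ V := by
    show pullback.fst f a (M q) ∈ O
    have h1 : pullback.fst i (pullback.fst f a) ≫ i = M ≫ pullback.fst f a := pullback.condition
    rw [← Scheme.Hom.comp_apply, ← h1, Scheme.Hom.comp_apply]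
    have h2 : pullback.fst i (pullback.fst f a) q = η := by
      rw [← hx', ← pullbackRightPullbackFstIso_hom_fst f a i, Scheme.Hom.comp_apply]
      rfl
    rw [h2]
    exact hηO
  haveI : IsIso (M.stalkMap q) :=
    ((MorphismProperty.isomorphisms _).arrow_mk_iso_iff (morphismRestrictStalkMap M V ⟨q, hqV⟩)).1
      (inferInstanceAs (IsIso ((M ∣_ V).stalkMap ⟨q, hqV⟩)))
  haveI : _root_.IsReduced (Q.presheaf.stalk q) :=
    isReduced_of_injective _ (asIso (M.stalkMap q)).commRingCatIsoToRingEquiv.symm.injective
  haveI : IsIso (e.hom.stalkMap q) := inferInstance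
  exact isReduced_of_injective _ (asIso (e.hom.stalkMap q)).commRingCatIsoToRingEquiv.injective

end Groth.Agent.H8Norm.GeomIntComponents
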