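import Groth.Agent.H8Norm.SpreadGeomInt
import Groth.Agent.H12AlgSp.Codim
import Groth.Agent.S1357
import Groth.Agent.S1358

/-!
# A finite flat cover over which all components have geometrically integral fibres
-/

set_option autoImplicit false
set_option linter.style.haveILetI false
set_option backward.isDefEq.respectTransparency false

universe u

open CategoryTheory CategoryTheory.Limits AlgebraicGeometry TopologicalSpace Topology

namespace Groth.Agent.H8Norm.GeomIntegralCover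

/-- A finite morphism followed by an open immersion is finite over opens in the image. -/
theorem isFinite_restrict {A B C : Scheme.{u}} (a : A ⟶ B) [IsFinite a] (j : B ⟶ C) [IsOpenImmersion j]
    (V : C.Opens) (hV : (V : Set C) ⊆ Set.range j) : IsFinite ((a ≫ j) ∣_ V) := by
  haveI : IsOpenImmersion (j ∣_ V) := inferInstance
  haveI : IsIso (j ∣_ V) := isIso_of_isOpenImmersion_of_opensRange_eq_top _ (by
    refine eq_top_iff.2 fun v _ => ?_
    obtain ⟨b, hb⟩ := hV v.2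
    refine ⟨⟨b, show j b ∈ V by rw [hb]; exact v.2⟩, V.ι.isOpenEmbedding.injective ?_⟩
    rw [← Scheme.Hom.comp_apply, morphismRestrict_ι, Scheme.Hom.comp_apply]
    exact hb)
  rw [morphismRestrict_comp]
  infer_instance

variable {X S Y X₂ : Scheme.{u}}

/-- Goodness passes to the irreducible components after base change to an open of the good locus. -/
theorem good_baseChange (f : X ⟶ S) (h₀ : Y ⟶ S) (q : X₂ ⟶ Y) (r : X₂ ⟶ pullback f h₀) [IsClosedImmersion r]
    [Surjective r] (hr : r ≫ pullback.snd f h₀ = q) (O : Y.Opens)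
    (hgood : ∀ T ∈ irreducibleComponents ↥X₂, ∃ (Z : Scheme.{u}) (i : Z ⟶ X₂),
      IsClosedImmersion i ∧ IsReduced Z ∧ Set.range i = T ∧
        Flat ((i ≫ q) ∣_ O) ∧ GeometricallyIntegral ((i ≫ q) ∣_ O))
    {S' : Scheme.{u}} (u' : S' ⟶ Y) [IsOpenImmersion u'] (hu : Set.range u' ⊆ (O : Set Y))
    (c : S' ⟶ S) (hc : c = u' ≫ h₀)
    (Z : Scheme.{u}) (i : Z ⟶ pullback f c) [IsClosedImmersion i] [IsReduced Z]
    (hT : Set.range i ∈ irreducibleComponents ↥(pullback f c)) :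
    Flat (i ≫ pullback.snd f c) ∧ GeometricallyIntegral (i ≫ pullback.snd f c) := by
  subst hc
  let e := pullbackLeftPullbackSndIso f h₀ u'
  let j : pullback f (u' ≫ h₀) ⟶ pullback f h₀ := e.inv ≫ pullback.fst _ _
  haveI : IsOpenImmersion j := inferInstance
  have hsq : IsPullback j (pullback.snd f (u' ≫ h₀)) (pullback.snd f h₀) u' :=
    (IsPullback.of_hasPullback (pullback.snd f h₀) u').of_iso e (Iso.refl _) (Iso.refl _) (Iso.refl _)
      (by simp [j]) (by simp [e]) (by simp) (by simp)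
  -- the component of the big pullback
  let T : Set ↥(pullback f h₀) := closure (j '' Set.range i)
  have hTirr : IsIrreducible T := (hT.1.image j j.continuous.continuousOn).closure
  have hTpre : j ⁻¹' T = Set.range i := by
    refine Set.Subset.antisymm ?_ fun a ha => subset_closure ⟨a, ha, rfl⟩
    refine hT.2 ⟨?_, hTirr.2.preimage j.isOpenEmbedding⟩ fun a ha => subset_closure ⟨a, ha, rfl⟩
    obtain ⟨a, ha⟩ := hT.1.1
    exact ⟨a, subset_closure ⟨a, ha, rfl⟩⟩
  have hTc : T ∈ irreducibleComponents ↥(pullback f h₀) := by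
    refine ⟨hTirr, fun T' hT' hle => ?_⟩
    obtain ⟨a, ha⟩ := hT.1.1
    have hne : (j ⁻¹' T').Nonempty := ⟨a, hle (subset_closure ⟨a, ha, rfl⟩)⟩
    have h1 : j ⁻¹' T' ⊆ Set.range i :=
      hT.2 ⟨hne, hT'.2.preimage j.isOpenEmbedding⟩ (fun b hb => hle (subset_closure ⟨b, hb, rfl⟩))
    intro t ht
    have h2 := subset_closure_inter_of_isPreirreducible_of_isOpen hT'.2 j.isOpenEmbedding.isOpen_range
      (by obtain ⟨b, hb⟩ := hne; exact ⟨j b, hb, b, rfl⟩) ht
    refine closure_mono ?_ h2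
    rintro _ ⟨ht', b, rfl⟩
    exact ⟨b, h1 ht', rfl⟩
  let E := r.isClosedEmbedding.isEmbedding.toHomeomorphOfSurjective r.surjective
  have hT₂ : r ⁻¹' T ∈ irreducibleComponents ↥X₂ := by
    have hh : r ⁻¹' T = E.symm '' T := (E.symm.image_eq_preimage_symm T).symm
    rw [hh]
    refine ⟨hTirr.image E.symm E.symm.continuous.continuousOn, fun T' hT' hle => ?_⟩
    have h1 := hTc.2 (hT'.image E E.continuous.continuousOn) fun t ht =>
      ⟨E.symm t, hle ⟨t, ht, rfl⟩, E.apply_symm_apply t⟩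
    exact fun a ha => ⟨E a, h1 ⟨a, ha, rfl⟩, E.symm_apply_apply a⟩
  obtain ⟨Z₂, i₂, hi₂, hZ₂, hrange, hF, hG⟩ := hgood _ hT₂
  let W := pullback (i₂ ≫ r) j
  haveI : IsReduced W := isReduced_of_isOpenImmersion (pullback.fst (i₂ ≫ r) j)
  haveI : IsClosedImmersion (pullback.snd (i₂ ≫ r) j) := MorphismProperty.pullback_snd _ _ inferInstance
  have hWr : Set.range (pullback.snd (i₂ ≫ r) j) = Set.range i := by
    rw [Scheme.Pullback.range_snd, show Set.range (i₂ ≫ r) = r '' Set.range i₂ from by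
      ext v; exact ⟨fun ⟨a, ha⟩ => ⟨i₂ a, ⟨a, rfl⟩, ha⟩, fun ⟨_, ⟨a, rfl⟩, ha⟩ => ⟨a, ha⟩⟩, hrange,
      Set.image_preimage_eq _ r.surjective, hTpre]
  obtain ⟨d, hd⟩ := H17.exists_iso_of_range_eq i (pullback.snd (i₂ ≫ r) j) hWr.symm
  have hW : IsPullback (pullback.fst (i₂ ≫ r) j) (pullback.snd (i₂ ≫ r) j ≫ pullback.snd f (u' ≫ h₀)) (i₂ ≫ q) u' := by
    have := (IsPullback.of_hasPullback (i₂ ≫ r) j).paste_vert hsq
    rwa [Category.assoc, hr] at this
  have key : ∀ (P : MorphismProperty Scheme.{u}) [P.IsStableUnderBaseChange], P ((i₂ ≫ q) ∣_ O) →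
      P (i ≫ pullback.snd f (u' ≫ h₀)) := by
    intro P _ hP
    have h1 : P ((i₂ ≫ q) ∣_ u'.opensRange) := SpreadGeomInt.of_le P _ (fun y hy => hu hy) hP
    have h2 : P (pullback.snd (i₂ ≫ q) u') :=
      (P.arrow_mk_iso_iff (morphismRestrictOpensRange (i₂ ≫ q) u')).1 h1
    rw [← hd, Category.assoc, P.cancel_left_of_respectsIso, ← hW.isoPullback_hom_snd, P.cancel_left_of_respectsIso]
    exact h2
  exact ⟨key @Flat hF, key @GeometricallyIntegral hG⟩

set_option maxHeartbeats 1600000 in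
/-- The main statement. -/
theorem main [AlgebraicGeometry.IsNoetherian S] [IsIntegral S] (f : X ⟶ S) [LocallyOfFiniteType f] [QuasiCompact f] :
    ∃ (V : S.Opens) (S' : Scheme.{u}) (h : S' ⟶ (V : Scheme.{u})), (V : Set S).Nonempty ∧ IsIntegral S' ∧
      IsFinite h ∧ Flat h ∧ Surjective h ∧
      ∀ (Z : Scheme.{u}) (i : Z ⟶ pullback f (h ≫ V.ι)) [IsClosedImmersion i] [IsReduced Z],
        Set.range i.base ∈ irreducibleComponents ↥(pullback f (h ≫ V.ι)) →
          Flat (i ≫ pullback.snd f (h ≫ V.ι)) ∧ GeometricallyIntegral (i ≫ pullback.snd f (h ≫ V.ι)) := by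
  -- make the generic fibre geometrically reduced
  obtain ⟨V₁, Y₁, g₁, X₁, r, hY₁, hV₁, haff₁, hg₁, hhom₁, hr₁, hr₁', hX₁, hflat₁, hfp₁, hqc₁, -, hred₁⟩ :=
    Groth.Agent.S1358.result f
  let h₁ := g₁ ≫ V₁.ι
  let q₁ := r ≫ pullback.snd f h₁
  haveI : IsLocallyNoetherian Y₁ := LocallyOfFiniteType.isLocallyNoetherian h₁
  obtain ⟨V₃, hV₃, hR₃⟩ := Groth.Agent.S0434.result q₁ hred₁
  haveI : Nonempty V₃.toScheme := hV₃.to_subtype
  haveI : IsIntegral V₃.toScheme := isIntegral_of_isOpenImmersion V₃.ι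
  haveI : CompactSpace ↥Y₁ := inferInstance
  haveI : IsLocallyNoetherian V₃.toScheme := LocallyOfFiniteType.isLocallyNoetherian V₃.ι
  haveI : QuasiCompact (q₁ ∣_ V₃) := MorphismProperty.of_isPullback (isPullback_morphismRestrict _ _).flip hqc₁
  haveI : LocallyOfFiniteType (q₁ ∣_ V₃) :=
    MorphismProperty.of_isPullback (isPullback_morphismRestrict _ _).flip (inferInstanceAs (LocallyOfFiniteType q₁))
  haveI : Flat (q₁ ∣_ V₃) := MorphismProperty.of_isPullback (isPullback_morphismRestrict _ _).flip hflat₁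
  -- make the components geometrically irreducible
  obtain ⟨V₂, Y₂, g₂, hY₂, hV₂, haff₂, hsurj₂, hfin₂, het₂, hcomp⟩ := Groth.Agent.S1357.result (q₁ ∣_ V₃)
  let c := g₂ ≫ V₂.ι
  haveI : IsReduced V₂.toScheme := isReduced_of_isOpenImmersion V₂.ι
  haveI : IsReduced Y₂ := H13AlgSp.isReduced_of_smooth_mor g₂
  haveI : IsIntegral Y₂ := isIntegral_of_irreducibleSpace_of_isReduced Y₂
  let q₂ := pullback.snd (q₁ ∣_ V₃) c
  haveI : Etale c := inferInstance
  haveI : LocallyOfFiniteType c := inferInstance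
  haveI : IsLocallyNoetherian Y₂ := LocallyOfFiniteType.isLocallyNoetherian c
  haveI : IsLocallyNoetherian (pullback (q₁ ∣_ V₃) c) := LocallyOfFiniteType.isLocallyNoetherian q₂
  haveI : CompactSpace ↥(pullback (q₁ ∣_ V₃) c) := QuasiCompact.compactSpace_of_compactSpace q₂
  haveI : AlgebraicGeometry.IsNoetherian (pullback (q₁ ∣_ V₃) c) := {}
  haveI := hR₃
  haveI : GeometricallyReduced q₂ := inferInstance
  obtain ⟨O, hηO, hgood⟩ := SpreadGeomInt.exists_opens_all q₂ hcomp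
  -- the composite cover
  let d := c ≫ V₃.ι
  let h₀ : Y₂ ⟶ S := d ≫ h₁
  let a₁ : pullback (q₁ ∣_ V₃) c ⟶ pullback q₁ d :=
    ((IsPullback.of_hasPullback (q₁ ∣_ V₃) c).paste_horiz (isPullback_morphismRestrict q₁ V₃).flip).isoPullback.hom
  let a₂ : pullback q₁ d ⟶ pullback (pullback.snd f h₁) d :=
    pullback.map q₁ d (pullback.snd f h₁) d r (𝟙 _) (𝟙 _) (by simp [q₁]) (by simp)
  let a₃ : pullback (pullback.snd f h₁) d ⟶ pullback f h₀ := (pullbackLeftPullbackSndIso f h₁ d).hom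
  have ha₂ : IsPullback a₂ (pullback.fst q₁ d) (pullback.fst (pullback.snd f h₁) d) r := by
    refine IsPullback.of_right (h₁₂ := pullback.snd (pullback.snd f h₁) d) (h₂₂ := pullback.snd f h₁) (v₁₃ := d) ?_
      (by simp [a₂]) (IsPullback.of_hasPullback _ _).flip
    simpa [a₂, q₁] using (IsPullback.of_hasPullback q₁ d).flip
  haveI : IsClosedImmersion a₂ := MorphismProperty.of_isPullback ha₂.flip hr₁
  haveI : Surjective a₂ := MorphismProperty.of_isPullback ha₂.flip hr₁'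
  let r₂ := a₁ ≫ a₂ ≫ a₃
  haveI : IsClosedImmersion r₂ := inferInstance
  haveI : Surjective r₂ := inferInstance
  have hr₂ : r₂ ≫ pullback.snd f h₀ = q₂ := by
    simp [r₂, a₁, a₂, a₃, q₂, h₀]
    exact IsPullback.isoPullback_hom_snd _
  -- the base open
  let η₂ := genericPoint Y₂
  have hη₂ : η₂ ∈ genericPoints ↥Y₂ := H8Props.mem_genericPoints_iff.2 fun y hy => (hy.antisymm (genericPoint_specializes y)).eq
  have hg₁hom : IsHomeomorph g₁ := MorphismProperty.universally_le _ g₁ hhom₁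
  haveI : Nonempty V₁.toScheme := hV₁.to_subtype
  haveI : IsIntegral V₁.toScheme := isIntegral_of_isOpenImmersion V₁.ι
  have hgen : h₀ η₂ = genericPoint S := by
    have h1 : c η₂ = genericPoint V₃.toScheme := by
      have := H8Props.flat_map_genericPoints c hη₂
      rw [H8Props.mem_genericPoints_iff] at this
      exact (this _ (genericPoint_specializes _)).symm
    have h2 : g₁ (genericPoint Y₁) = genericPoint V₁.toScheme := by
      haveI : Nonempty V₁.toScheme := hV₁.to_subtype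
      haveI : IsIntegral V₁.toScheme := isIntegral_of_isOpenImmersion V₁.ι
      obtain ⟨y, hy⟩ := hg₁hom.surjective (genericPoint V₁.toScheme)
      have := (genericPoint_specializes y).map g₁.continuous
      rw [hy] at this
      exact (this.antisymm (genericPoint_specializes _)).eq
    show V₁.ι (g₁ (V₃.ι (c η₂))) = _
    rw [h1, genericPoint_eq_of_isOpenImmersion V₃.ι, h2]
    haveI : Nonempty V₁.toScheme := hV₁.to_subtype
    exact genericPoint_eq_of_isOpenImmersion V₁.ι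
  -- an open over which everything is finite
  let j₂ : V₂.toScheme ⟶ Y₁ := V₂.ι ≫ V₃.ι
  let Wimg : Set S := V₁.ι '' (g₁ '' Set.range j₂)
  have hWopen : IsOpen Wimg := V₁.ι.isOpenEmbedding.isOpenMap _ (hg₁hom.isOpenMap _ j₂.isOpenEmbedding.isOpen_range)
  have hηW : genericPoint S ∈ Wimg := ⟨g₁ (V₃.ι (c η₂)), ⟨_, ⟨g₂ η₂, rfl⟩, rfl⟩, hgen⟩
  obtain ⟨_, ⟨Va', hVa', rfl⟩, hηVa, hVaW⟩ := S.isBasis_affineOpens.exists_subset_of_mem_open hηW hWopen
  let Va : S.Opens := Va'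
  have hfin : IsFinite (h₀ ∣_ Va) := by
    have e : h₀ = ((g₂ ≫ j₂) ≫ g₁) ≫ V₁.ι := by simp [h₀, h₁, d, c, j₂]
    rw [e, morphismRestrict_comp]
    haveI : IsIso (V₁.ι ∣_ Va) := isIso_of_isOpenImmersion_of_opensRange_eq_top _ (by
      refine eq_top_iff.2 fun v _ => ?_
      obtain ⟨b, -, hb⟩ := hVaW v.2
      refine ⟨⟨b, show V₁.ι b ∈ Va by rw [hb]; exact v.2⟩, Va.ι.isOpenEmbedding.injective ?_⟩
      rw [← Scheme.Hom.comp_apply, morphismRestrict_ι, Scheme.Hom.comp_apply]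
      exact hb)
    rw [morphismRestrict_comp]
    haveI : IsFinite ((g₂ ≫ j₂) ∣_ (g₁ ⁻¹ᵁ (V₁.ι ⁻¹ᵁ Va))) := by
      refine isFinite_restrict g₂ j₂ _ fun y hy => ?_
      obtain ⟨b, ⟨y', hy', rfl⟩, hb⟩ := hVaW hy
      have : y' = y := hg₁hom.injective (V₁.ι.isOpenEmbedding.injective hb)
      exact this ▸ hy'
    infer_instance
  have hfib : ∀ y : Y₂, h₀ y = genericPoint S → y = η₂ := by
    intro y hy
    haveI := hfin
    have hm : η₂ ∈ h₀ ⁻¹ᵁ Va := show h₀ η₂ ∈ Va by rw [hgen]; exact hηVa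
    have hy' : y ∈ h₀ ⁻¹ᵁ Va := show h₀ y ∈ Va by rw [hy]; exact hηVa
    have := H05EGA4.eq_of_specializes_of_fibre (h₀ ∣_ Va) (a := ⟨η₂, hm⟩) (b := ⟨y, hy'⟩)
      ((h₀ ⁻¹ᵁ Va).ι.isOpenEmbedding.isInducing.specializes_iff.1 (genericPoint_specializes y))
      (Va.ι.isOpenEmbedding.injective (by
        rw [← Scheme.Hom.comp_apply, ← Scheme.Hom.comp_apply, morphismRestrict_ι, Scheme.Hom.comp_apply,
          Scheme.Hom.comp_apply]
        exact hgen.trans hy.symm))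
    exact (congrArg Subtype.val this).symm
  haveI := hfin
  let C : Set Va.toScheme := (h₀ ∣_ Va) '' ((h₀ ⁻¹ᵁ Va).ι ⁻¹' ((O : Set Y₂)ᶜ))
  have hC : IsClosed C := (h₀ ∣_ Va).isClosedMap _ (O.2.isClosed_compl.preimage (h₀ ⁻¹ᵁ Va).ι.continuous)
  let Vc : Va.toScheme.Opens := ⟨Cᶜ, hC.isOpen_compl⟩
  have hηVc : (⟨genericPoint S, hηVa⟩ : Va.toScheme) ∈ Vc := by
    rintro ⟨⟨y, hy⟩, hyO, he⟩
    have h1 : h₀ y = genericPoint S := by
      have := congrArg Va.ι he
      rw [← Scheme.Hom.comp_apply, morphismRestrict_ι, Scheme.Hom.comp_apply] at this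
      exact this
    exact hyO (show y ∈ O from hfib y h1 ▸ hηO)
  obtain ⟨U, hU, hF, -⟩ := H7Flat.exists_dense_flatLFP (h₀ ∣_ Va)
  let V : S.Opens := Va.ι ''ᵁ (Vc ⊓ U)
  have hne : (Vc ⊓ U : Va.toScheme.Opens).1.Nonempty := hU.inter_open_nonempty _ Vc.2 ⟨_, hηVc⟩
  have hηV : genericPoint S ∈ V := by
    obtain ⟨v, hv⟩ := hne
    exact (genericPoint_specializes _).mem_open V.2 ⟨v, hv, rfl⟩
  have hVVa : V ≤ Va := by rintro _ ⟨v, -, rfl⟩; exact v.2
  have hres : ∀ (P : MorphismProperty Scheme.{u}) [P.IsStableUnderBaseChange],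
      P (h₀ ∣_ Va ∣_ U) → P (h₀ ∣_ V) := by
    intro P _ hP
    exact (P.arrow_mk_iso_iff (morphismRestrictRestrict h₀ Va _)).1 (SpreadGeomInt.of_le P _ inf_le_right hP)
  haveI : IsFinite (h₀ ∣_ V) := SpreadGeomInt.of_le @IsFinite _ hVVa hfin
  have hη₂V : η₂ ∈ h₀ ⁻¹ᵁ V := show h₀ η₂ ∈ V by rw [hgen]; exact hηV
  haveI : Nonempty (h₀ ⁻¹ᵁ V).toScheme := ⟨⟨η₂, hη₂V⟩⟩
  refine ⟨V, (h₀ ⁻¹ᵁ V).toScheme, h₀ ∣_ V, ⟨_, hηV⟩, isIntegral_of_isOpenImmersion (h₀ ⁻¹ᵁ V).ι, inferInstance,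
    hres @Flat hF, ⟨fun v => ?_⟩, ?_⟩
  · have hcl : IsClosed (Set.range (h₀ ∣_ V)) := (h₀ ∣_ V).isClosedMap.isClosed_range
    refine Specializes.mem_closed (x := (⟨genericPoint S, hηV⟩ : V.toScheme)) ?_ hcl
      ⟨⟨η₂, hη₂V⟩, V.ι.isOpenEmbedding.injective (by
        rw [← Scheme.Hom.comp_apply, morphismRestrict_ι, Scheme.Hom.comp_apply]; exact hgen)⟩
    exact V.ι.isOpenEmbedding.isInducing.specializes_iff.1 (genericPoint_specializes _)
  · intro Z i _ _ hT
    refine good_baseChange f h₀ q₂ r₂ hr₂ O hgood (h₀ ⁻¹ᵁ V).ι ?_ _ (morphismRestrict_ι _ _) Z i hT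
    rw [Scheme.Opens.range_ι]
    intro y hy
    by_contra hyO
    obtain ⟨v, ⟨hvc, -⟩, hv⟩ := id hy
    exact hvc ⟨⟨y, show h₀ y ∈ Va from hVVa hy⟩, hyO, Va.ι.isOpenEmbedding.injective (by
      rw [← Scheme.Hom.comp_apply, morphismRestrict_ι, Scheme.Hom.comp_apply]; exact hv.symm)⟩

end Groth.Agent.H8Norm.GeomIntegralCover
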