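import Groth.Agent.H8Norm.GeomIntComponents
import Groth.Agent.S1668
import Groth.Agent.S1585
import Groth.Agent.S2351
import Groth.Agent.S2500
import Groth.Agent.S2535
import Groth.Agent.S4664
import Groth.Agent.S7600

/-!
# Normalizations over an algebraically closed field are geometrically normal; descent of this
-/

set_option autoImplicit false
set_option linter.style.haveILetI false
set_option backward.isDefEq.respectTransparency false

universe u

open CategoryTheory CategoryTheory.Limits AlgebraicGeometry TopologicalSpace Topology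

namespace Groth.Agent.H8Norm.GeomNormalModel

/-- The normalization of a variety over an algebraically closed field. -/
theorem exists_normalization {k : Type u} [Field k] [IsAlgClosed k] {W : Scheme.{u}} [IsIntegral W]
    (p : W ⟶ Spec (CommRingCat.of k)) [LocallyOfFiniteType p] [QuasiCompact p] :
    ∃ (N : Scheme.{u}) (ν : N ⟶ W), IsFinite ν ∧ Surjective ν ∧ GeometricallyIntegral (ν ≫ p) ∧
      ∀ (K : Type u) [Field K] [Algebra k K],
        Pi1.IsNormalScheme (pullback (ν ≫ p) (Spec.map (CommRingCat.ofHom (algebraMap k K)))) := by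
  haveI : IsAffine (Spec (W.presheaf.stalk (genericPoint W))) := inferInstance
  haveI : Subsingleton ↥(Spec (W.presheaf.stalk (genericPoint W))) :=
    inferInstanceAs (Subsingleton (PrimeSpectrum W.functionField))
  haveI : QuasiCompact (W.fromSpecStalk (genericPoint W)) := ⟨fun U _ _ => (Set.toFinite _).isCompact⟩
  haveI : QuasiSeparated (W.fromSpecStalk (genericPoint W)) := inferInstance
  letI : W.Over (Spec (CommRingCat.of k)) := ⟨p⟩
  haveI : LocallyOfFiniteType (W ↘ Spec (CommRingCat.of k)) := ‹LocallyOfFiniteType p›
  obtain ⟨hfin, -, -, hint, hnorm⟩ := Groth.Agent.S1585.result k W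
  obtain ⟨-, -, hsurj, -⟩ := Groth.Agent.S2351.result W
  let ν := Curv2.normalizationι W
  haveI := hint
  haveI : IsFinite ν := hfin
  refine ⟨_, ν, hfin, hsurj, ?_, ?_⟩
  · haveI : GeometricallyIrreducible (ν ≫ p) := Groth.Agent.S2500.result (ν ≫ p)
    haveI : AlgebraicGeometry.IsReduced (FBase.bc (ν ≫ p) k) := by
      haveI : IsIso (Spec.map (CommRingCat.ofHom (algebraMap k k))) :=
        inferInstanceAs (IsIso (Spec.map (𝟙 (CommRingCat.of k))))
      exact isReduced_of_isOpenImmersion (pullback.fst (ν ≫ p) (Spec.map (CommRingCat.ofHom (algebraMap k k))))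
    haveI : GeometricallyReduced (ν ≫ p) := Groth.Agent.S2535.result (ν ≫ p) (Ω := k)
    exact GeometricallyIntegral.of_geometricallyReduced_of_geometricallyIrreducible _
  · intro K _ _
    letI : (Curv2.normalization W).Over (Spec (CommRingCat.of k)) := ⟨ν ≫ p⟩
    refine Groth.Agent.S1668.result k (Curv2.normalization W) (fun k' _ _ _ _ => ?_) K
    haveI : IsIso (Spec.map (CommRingCat.ofHom (algebraMap k k'))) := by
      haveI : IsIso (CommRingCat.ofHom (algebraMap k k')) :=
        (ConcreteCategory.isIso_iff_bijective _).2 IsAlgClosed.algebraMap_bijective_of_isIntegral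
      infer_instance
    exact H22Alg.NormalProd.isNormalScheme_of_isOpenImmersion (Curv2.bcFst k (Curv2.normalization W) k') hnorm

/-- Geometric integrality and geometric normality descend from an algebraically closed field. -/
theorem descend {k Ω : Type u} [Field k] [Field Ω] [IsAlgClosed Ω] [Algebra k Ω] {W : Scheme.{u}}
    (p : W ⟶ Spec (CommRingCat.of k)) {N : Scheme.{u}} {a : N ⟶ W} {b : N ⟶ Spec (CommRingCat.of Ω)}
    (hsq : IsPullback a b p (Spec.map (CommRingCat.ofHom (algebraMap k Ω))))
    [GeometricallyIntegral b]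
    (hnorm : ∀ (K : Type u) [Field K] [Algebra Ω K],
      Pi1.IsNormalScheme (pullback b (Spec.map (CommRingCat.ofHom (algebraMap Ω K))))) :
    GeometricallyIntegral p ∧ ∀ (K : Type u) [Field K] [Algebra k K],
      Pi1.IsNormalScheme (pullback p (Spec.map (CommRingCat.ofHom (algebraMap k K)))) := by
  let g := Spec.map (CommRingCat.ofHom (algebraMap k Ω))
  let e := hsq.isoPullback
  have hb : b = e.hom ≫ pullback.snd p g := hsq.isoPullback_hom_snd.symm
  haveI : Surjective g := ⟨fun y => ⟨IsLocalRing.closedPoint Ω, Subsingleton.elim (α := PrimeSpectrum k) _ _⟩⟩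
  constructor
  · haveI : GeometricallyIrreducible (pullback.snd p g) :=
      (MorphismProperty.cancel_left_of_respectsIso (P := @GeometricallyIrreducible) e.hom _).1 (hb ▸ inferInstance)
    haveI : GeometricallyIrreducible p := Groth.Agent.S4664.result p g
    haveI : GeometricallyReduced (pullback.snd p g) :=
      (MorphismProperty.cancel_left_of_respectsIso (P := @GeometricallyReduced) e.hom _).1 (hb ▸ inferInstance)
    haveI : AlgebraicGeometry.IsReduced (FBase.bc p Ω) :=
      GeometricallyReduced.geometrically_isReduced (f := pullback.snd p g) (𝟙 _) (𝟙 _) (pullback.snd p g) IsPullback.of_id_fst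
    haveI : GeometricallyReduced p := Groth.Agent.S2535.result p (Ω := Ω)
    exact GeometricallyIntegral.of_geometricallyReduced_of_geometricallyIrreducible _
  · letI : W.Over (Spec (CommRingCat.of k)) := ⟨p⟩
    intro K _ _ y
    obtain ⟨x', hx'⟩ : ∃ x' : ↥(Curv2.bc k W Ω), Curv2.bcFst k W Ω x' = Curv2.bcFst k W K y := by
      obtain ⟨z, hz, -⟩ := Scheme.Pullback.exists_preimage_pullback (f := p) (g := g) (Curv2.bcFst k W K y)
        (IsLocalRing.closedPoint Ω) (Subsingleton.elim (α := PrimeSpectrum k) _ _)
      exact ⟨z, hz⟩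
    refine Groth.Agent.S7600.result k W Ω x' (fun k'' _ _ x'' _ => ?_) K y hx'.symm
    let c := Spec.map (CommRingCat.ofHom (algebraMap Ω k''))
    have h := H22Alg.NormalProd.isNormalScheme_of_isOpenImmersion
      (pullback.map (pullback.snd p g) c b c e.inv (𝟙 _) (𝟙 _) (by simp [hb]) (by simp)) (hnorm k'')
    exact h x''

end Groth.Agent.H8Norm.GeomNormalModel
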