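import Groth.Agent.H8Norm.FlatPointScheme
import Groth.Agent.H7Flat.Chain.FlatLocusFG
import Groth.Agent.H10Coh.FinType2
import Groth.Agent.H8Props.FinLocFree.Sheaf
import Groth.Agent.H06EGA9.FlatConstructible

/-!
# The universal flattening ideal along a set of points of the closed fibre over a henselian base
-/

set_option autoImplicit false
set_option linter.style.haveILetI false
set_option backward.isDefEq.respectTransparency false
set_option maxHeartbeats 1000000
set_option synthInstance.maxHeartbeats 400000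

universe u

open CategoryTheory Limits AlgebraicGeometry TensorProduct IsLocalRing

namespace Groth.Agent.H8Norm.HenselFlatStratum

open FlatPointScheme

variable {A : Type u} [CommRing A]

theorem isUnit_germHom_iff {T : Scheme.{u}} (g : T ⟶ Spec (CommRingCat.of A)) (t : T) (a : A) :
    IsUnit ((germHom g t).hom a) ↔ a ∉ (g t).asIdeal := by
  have h : IsUnit ((germHom g t).hom a) ↔
      t ∈ T.basicOpen (g.appTop ((Scheme.ΓSpecIso (CommRingCat.of A)).inv a)) :=
    (Scheme.mem_basicOpen_top _ _ t).symm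
  rw [h, ← Scheme.preimage_basicOpen_top, basicOpen_eq_of_affine]
  exact PrimeSpectrum.mem_basicOpen _ _

theorem comap_secHom_primeIdealOf {X : Scheme.{u}} (f : X ⟶ Spec (CommRingCat.of A)) {U : X.Opens}
    (hU : IsAffineOpen U) (x : U) :
    (hU.primeIdealOf x).asIdeal.comap (secHom f U).hom = (f x.1).asIdeal := by
  ext a
  rw [Ideal.mem_comap, hU.primeIdealOf_eq_map_closedPoint]
  show (secHom f U ≫ X.presheaf.germ U x.1 x.2).hom a ∈ maximalIdeal _ ↔ _
  rw [secHom_germ, mem_maximalIdeal, mem_nonunits_iff, isUnit_germHom_iff, not_not]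

variable [IsLocalRing A]

theorem isLocalHom_germHom {T : Scheme.{u}} (g : T ⟶ Spec (CommRingCat.of A)) (t : T)
    (ht : g t = closedPoint A) :
    letI := (germHom g t).hom.toAlgebra
    IsLocalHom (algebraMap A (T.presheaf.stalk t)) := by
  letI := (germHom g t).hom.toAlgebra
  refine ⟨fun a ha => ?_⟩
  have := (isUnit_germHom_iff g t a).1 ha
  rw [ht] at this
  exact not_not.1 fun hn => this ((mem_maximalIdeal a).2 hn)

/-- The universal property of the flattening ideal at one point. -/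
def PointProp {X : Scheme.{u}} (f : X ⟶ Spec (CommRingCat.of A)) (F : X.Modules) (x : X) (I : Ideal A) :
    Prop :=
  ∀ (T : Scheme.{u}) (g : T ⟶ Spec (CommRingCat.of A)) (t : T), g t = closedPoint A →
    ((∀ x' : ↑(pullback f g), (pullback.snd f g) x' = t → (pullback.fst f g) x' = x →
        FlatMod.IsFlatOverAt (pullback.snd f g) ((Scheme.Modules.pullback (pullback.fst f g)).obj F) x') ↔
      I.map (germHom g t).hom = ⊥)

omit [IsLocalRing A] in
theorem finiteType_secHom {X : Scheme.{u}} (f : X ⟶ Spec (CommRingCat.of A)) [LocallyOfFiniteType f]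
    {U : X.Opens} (hU : IsAffineOpen U) : (secHom f U).hom.FiniteType :=
  (f.finiteType_appLE (isAffineOpen_top _) hU le_top).comp
    (.of_surjective _ (Scheme.ΓSpecIso (CommRingCat.of A)).symm.commRingCatIsoToRingEquiv.surjective)

omit [IsLocalRing A] in
theorem finitePresentation_secHom {X : Scheme.{u}} (f : X ⟶ Spec (CommRingCat.of A))
    [LocallyOfFinitePresentation f] {U : X.Opens} (hU : IsAffineOpen U) :
    (secHom f U).hom.FinitePresentation :=
  (f.finitePresentation_appLE (isAffineOpen_top _) hU le_top).comp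
    (.of_bijective (Scheme.ΓSpecIso (CommRingCat.of A)).symm.commRingCatIsoToRingEquiv.bijective)

theorem exists_pointProp {A : Type u} [CommRing A] [HenselianLocalRing A] {X : Scheme.{u}}
    (f : X ⟶ Spec (CommRingCat.of A)) [LocallyOfFiniteType f] (F : X.Modules) (hF : Coh.IsQCoh F)
    (hFT : CohB1.IsFT F) (x : X) (hx : f x = closedPoint A) :
    ∃ I : Ideal A, PointProp f F x I ∧
      (LocallyOfFinitePresentation f → CohB1.IsFP F → I.FG) := by
  obtain ⟨_, ⟨U, hU, rfl⟩, hxU, -⟩ :=
    X.isBasis_affineOpens.exists_subset_of_mem_open (Set.mem_univ x) isOpen_univ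
  letI := (secHom f U).hom.toAlgebra
  haveI : Algebra.FiniteType A Γ(X, U) := finiteType_secHom f hU
  haveI : F.IsQuasicoherent := hF
  haveI : Module.Finite Γ(X, U) Γ(F, U) := H10Coh.finite_sections F hFT hU
  haveI : (hU.primeIdealOf ⟨x, hxU⟩).asIdeal.LiesOver (maximalIdeal A) := ⟨by
    rw [Ideal.under_def]
    exact ((comap_secHom_primeIdealOf f hU ⟨x, hxU⟩).trans (by rw [hx]; rfl)).symm⟩
  obtain ⟨I, hI⟩ := H7Flat.Chain.exists_ideal_model (A := A) Γ(F, U) (hU.primeIdealOf ⟨x, hxU⟩).asIdeal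
  refine ⟨I, fun T g t ht => ?_, fun hf hFP => ?_⟩
  · letI := (germHom g t).hom.toAlgebra
    haveI := isLocalHom_germHom g t ht
    exact (allFlat_iff f F hF hU ⟨x, hxU⟩ g t).symm.trans (hI _)
  · haveI : Algebra.FinitePresentation A Γ(X, U) := finitePresentation_secHom f hU
    haveI : Module.FinitePresentation Γ(X, U) Γ(F, U) :=
      H8Props.FinLocFree.finitePresentation_sections F hFP hU
    exact H7Flat.Chain.fg_of_corepAllFlat Γ(F, U) (hU.primeIdealOf ⟨x, hxU⟩).asIdeal I hI

omit [IsLocalRing A] in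
theorem ker_germHom_quotient (J : Ideal A) [IsLocalRing (A ⧸ J)] :
    RingHom.ker (germHom (Spec.map (CommRingCat.ofHom (Ideal.Quotient.mk J))) (closedPoint (A ⧸ J))).hom = J := by
  have h : germHom (Spec.map (CommRingCat.ofHom (Ideal.Quotient.mk J))) (closedPoint (A ⧸ J)) =
      CommRingCat.ofHom (Ideal.Quotient.mk J) ≫ (stalkClosedPointIso (CommRingCat.of (A ⧸ J))).inv := by
    rw [← cancel_mono (stalkClosedPointIso (CommRingCat.of (A ⧸ J))).hom, Category.assoc, Iso.inv_hom_id,
      Category.comp_id, germHom, Category.assoc, Category.assoc, germ_stalkClosedPointIso_hom,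
      ← Category.assoc, ← Scheme.ΓSpecIso_inv_naturality, Category.assoc, Iso.inv_hom_id, Category.comp_id]
  rw [h]
  ext a
  rw [RingHom.mem_ker, CommRingCat.hom_comp, RingHom.comp_apply]
  exact (map_eq_zero_iff _ (stalkClosedPointIso
    (CommRingCat.of (A ⧸ J))).symm.commRingCatIsoToRingEquiv.injective).trans Ideal.Quotient.eq_zero_iff_mem

theorem exists_nbhd {X : Scheme.{u}} (f : X ⟶ Spec (CommRingCat.of A)) [LocallyOfFinitePresentation f]
    (F : X.Modules) (hFP : CohB1.IsFP F) (x : X) (hx : f x = closedPoint A) (J : Ideal A)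
    (hJ : PointProp f F x J) :
    ∃ W : Set X, IsOpen W ∧ x ∈ W ∧ ∀ (y : X) (I : Ideal A), y ∈ W → f y = closedPoint A →
      PointProp f F y I → I ≤ J := by
  rcases eq_or_ne J ⊤ with rfl | hJ'
  · exact ⟨Set.univ, isOpen_univ, trivial, fun _ _ _ _ _ => le_top⟩
  haveI : Nontrivial (A ⧸ J) := Ideal.Quotient.nontrivial_iff.mpr hJ'
  haveI : IsLocalRing (A ⧸ J) := .of_surjective' (Ideal.Quotient.mk J) Ideal.Quotient.mk_surjective
  let g := Spec.map (CommRingCat.ofHom (Ideal.Quotient.mk J))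
  haveI : IsClosedImmersion g :=
    IsClosedImmersion.spec_of_surjective _ (by exact Ideal.Quotient.mk_surjective)
  let t : ↥(Spec (CommRingCat.of (A ⧸ J))) := closedPoint (A ⧸ J)
  haveI : IsLocalHom (Ideal.Quotient.mk J) := IsLocalHom.of_surjective _ Ideal.Quotient.mk_surjective
  have ht : g t = closedPoint A := IsLocalRing.comap_closedPoint (Ideal.Quotient.mk J)
  let p := pullback.fst f g
  let q := pullback.snd f g
  let G := (Scheme.Modules.pullback p).obj F
  let Ω : Set ↑(pullback f g) := {x' | FlatMod.IsFlatOverAt q G x'}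
  have hΩ : IsOpen Ω :=
    H8Props.FlatLocus.isOpen_setOf_isFlatOverAt q G (H06EGA9.isFP_pullback p hFP)
  refine ⟨(p '' Ωᶜ)ᶜ, (p.isClosedEmbedding.isClosedMap _ hΩ.isClosed_compl).isOpen_compl, ?_, ?_⟩
  · rintro ⟨x', hx', hpx⟩
    refine hx' ((hJ _ g t ht).2 ?_ x' ?_ hpx)
    · rw [Ideal.map_eq_bot_iff_le_ker, ker_germHom_quotient]
    · apply g.isClosedEmbedding.injective
      rw [ht, ← Scheme.Hom.comp_apply, ← pullback.condition, Scheme.Hom.comp_apply, hpx, hx]
  · intro y I hy hfy hI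
    have := (hI _ g t ht).1 fun x' _ hpy => not_not.1 fun hn => hy ⟨x', hn, hpy⟩
    rwa [Ideal.map_eq_bot_iff_le_ker, ker_germHom_quotient] at this

theorem main {A : Type u} [CommRing A] [HenselianLocalRing A] {X : Scheme.{u}}
    (f : X ⟶ Spec (CommRingCat.of A)) [LocallyOfFiniteType f] (F : X.Modules) (hF : Coh.IsQCoh F)
    (hFT : CohB1.IsFT F) (E : Set X) (hE : ∀ x ∈ E, f x = closedPoint A) :
    ∃ I : Ideal A,
      (∀ (T : Scheme.{u}) (g : T ⟶ Spec (CommRingCat.of A)) (t : T), g t = closedPoint A →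
        ((∀ x' : ↑(pullback f g), (pullback.snd f g) x' = t → (pullback.fst f g) x' ∈ E →
            FlatMod.IsFlatOverAt (pullback.snd f g) ((Scheme.Modules.pullback (pullback.fst f g)).obj F) x') ↔
          ∀ a ∈ I, (germHom g t).hom a = 0)) ∧
      (LocallyOfFinitePresentation f → CohB1.IsFP F → IsCompact E → I.FG) := by
  choose I hI hfg using fun x : E => exists_pointProp f F hF hFT x.1 (hE x.1 x.2)
  refine ⟨⨆ x, I x, fun T g t ht => ?_, fun hf hFP hc => ?_⟩
  · have h0 : (∀ a ∈ ⨆ x, I x, (germHom g t).hom a = 0) ↔ ∀ x, (I x).map (germHom g t).hom = ⊥ := by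
      simp only [Ideal.map_eq_bot_iff_le_ker, ← iSup_le_iff]
      rfl
    rw [h0]
    exact ⟨fun h x => (hI x T g t ht).1 fun x' h2 h1 => h x' h2 (h1 ▸ x.2),
      fun h x' h2 h1 => (hI ⟨_, h1⟩ T g t ht).2 (h ⟨_, h1⟩) x' h2 rfl⟩
  · haveI := hf
    choose W hWo hxW hW using fun x : E => exists_nbhd f F hFP x.1 (hE x.1 x.2) (I x) (hI x)
    obtain ⟨s, hs⟩ := hc.elim_finite_subcover W hWo fun x hx => Set.mem_iUnion.2 ⟨⟨x, hx⟩, hxW _⟩
    have : (⨆ x, I x) = ⨆ x ∈ s, I x := le_antisymm (iSup_le fun y => by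
        obtain ⟨x, hx, hyx⟩ := Set.mem_iUnion₂.1 (hs y.2)
        exact (hW x y.1 (I y) hyx (hE y.1 y.2) (hI y)).trans (le_iSup₂ (f := fun x _ => I x) x hx))
      (iSup₂_le fun x _ => le_iSup I x)
    rw [this]
    exact Submodule.fg_biSup s I fun x _ => hfg x hf hFP

end Groth.Agent.H8Norm.HenselFlatStratum
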