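import Groth.Agent.H8Props.FunDescent.GenericFun
import Groth.Agent.H29Fitt.LocFree
import Groth.Agent.H29Fitt.Comap
import Groth.Agent.H29Fitt.StrictTransformFree
import Groth.Agent.H19Grp.PiClosedGlobal

/-!
# The functor `H_p` as a Weil restriction of a Fitting stratum
-/

set_option autoImplicit false
set_option linter.style.haveILetI false
set_option backward.isDefEq.respectTransparency false

universe u

open CategoryTheory CategoryTheory.Limits AlgebraicGeometry TopologicalSpace

namespace Groth.Agent.H8Norm.Hp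

open H29Fitt H8Props.FunDescent

variable {X S : Scheme.{u}} (F : X.Modules) (p : ℕ)

/-- The ideal of the Fitting stratum where the lower Fitting ideals vanish. -/
noncomputable def lowIdeal : X.IdealSheafData := ⨆ k : Fin p, Fitt.sheafIdeal F k

/-- The points where `F` is locally generated by `p` sections. -/
def genLocus : X.Opens :=
  ⟨((Fitt.sheafIdeal F p).support : Set X)ᶜ, (Fitt.sheafIdeal F p).support.isClosed.isOpen_compl⟩

theorem mem_genLocus (x : X) : x ∈ genLocus F p ↔ x ∉ (Fitt.sheafIdeal F p).support := Iff.rfl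

/-- The Fitting stratum in an open piece. -/
noncomputable abbrev stratum {Z : Scheme.{u}} (e : Z ⟶ X) : pullback e (lowIdeal F p).subschemeι ⟶ Z :=
  pullback.fst e (lowIdeal F p).subschemeι

theorem factors_subschemeι_iff {Y W : Scheme.{u}} (I : Y.IdealSheafData) (g : W ⟶ Y) :
    (∃ l, l ≫ I.subschemeι = g) ↔ I ≤ g.ker := by
  constructor
  · rintro ⟨l, rfl⟩
    exact (Scheme.IdealSheafData.ker_subschemeι I).ge.trans (Scheme.Hom.le_ker_comp _ _)
  · intro h
    exact ⟨IsClosedImmersion.lift I.subschemeι g (by rwa [Scheme.IdealSheafData.ker_subschemeι]),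
      IsClosedImmersion.lift_fac _ _ _⟩

theorem contains_stratum_iff {Z : Scheme.{u}} (e : Z ⟶ X) {B T : Scheme.{u}} (b : Z ⟶ B) (g : T ⟶ B) :
    H19Grp.Contains b (stratum F p e) g ↔ lowIdeal F p ≤ (pullback.fst b g ≫ e).ker := by
  rw [← factors_subschemeι_iff]
  constructor
  · rintro ⟨l, hl⟩
    exact ⟨l ≫ pullback.snd _ _, by rw [Category.assoc, ← pullback.condition, ← Category.assoc, hl]⟩
  · rintro ⟨l, hl⟩
    exact ⟨pullback.lift (pullback.fst b g) l hl.symm, pullback.lift_fst _ _ _⟩

theorem le_ker_iff_comap_eq_bot {Y W : Scheme.{u}} (I : Y.IdealSheafData) (g : W ⟶ Y) :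
    I ≤ g.ker ↔ I.comap g = ⊥ := by
  rw [← Scheme.IdealSheafData.map_bot, Scheme.IdealSheafData.le_map_iff_comap_le, le_bot_iff]

variable {F p}

/-- Points with a stalk free of rank `p` on the base change lie over the locus generated by `p`
sections. -/
theorem notMem_support_of_isFreeOfRankNear (hF : Coh.IsQCoh F) (hFT : CohB1.IsFT F) {x : X}
    (h : FlatFun.IsFreeOfRankNear F p x) : x ∉ (Fitt.sheafIdeal F p).support := by
  obtain ⟨U, hxU, ⟨e⟩⟩ := h
  obtain ⟨_, ⟨V, hV : IsAffineOpen V, rfl⟩, hxV, hle⟩ :=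
    X.isBasis_affineOpens.exists_subset_of_mem_open hxU U.isOpen
  rw [mem_support_iff F hF hFT p hV ⟨x, hxV⟩, ← sheafIdeal_ideal F hF hFT p ⟨V, hV⟩,
    sheafIdeal_ideal_of_free F hF hFT e ⟨V, hV⟩ hle p, if_pos le_rfl, top_le_iff]
  exact (hV.primeIdealOf ⟨x, hxV⟩).isPrime.ne_top

theorem mem_genLocus_of_isFreeOfRankNear {W : Scheme.{u}} (g : W ⟶ X) (hF : Coh.IsQCoh F)
    (hFT : CohB1.IsFT F) {y : W}
    (h : FlatFun.IsFreeOfRankNear ((Scheme.Modules.pullback g).obj F) p y) :
    g y ∈ genLocus F p := by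
  have hy := notMem_support_of_isFreeOfRankNear (isQCoh_pullback g F hF) (isFT_pullback g F hF hFT) h
  rw [← sheafIdeal_comap g F hF hFT, ← SetLike.mem_coe, Scheme.IdealSheafData.support_comap] at hy
  exact hy

variable (f : X ⟶ S) [Smooth f] [GeometricallyIrreducible f]

/-- A free condition on `T` puts the image of `T` in the image of the generated locus. -/
theorem exists_mem_genLocus (hF : Coh.IsQCoh F) (hFT : CohB1.IsFT F) {T : Over S}
    (h : FreeCond f F p T) (t : T.left) : ∃ x ∈ genLocus F p, f x = T.hom t := by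
  obtain ⟨y, hy, -, hfree⟩ := h t
  refine ⟨pullback.fst f T.hom y, mem_genLocus_of_isFreeOfRankNear _ hF hFT hfree, ?_⟩
  rw [← Scheme.Hom.comp_apply, pullback.condition, Scheme.Hom.comp_apply]
  exact congrArg T.hom hy

/-- `H_p` is a containment condition in any open piece of the generated locus surjecting to the base. -/
theorem freeCond_iff_le_ker (hF : Coh.IsQCoh F) (hFT : CohB1.IsFT F) {Z : Scheme.{u}} (e : Z ⟶ X)
    [IsOpenImmersion e] (he : ∀ z, e z ∈ genLocus F p) (T : Over S) {P : Scheme.{u}}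
    (a : P ⟶ Z) (b : P ⟶ T.left) (hP : IsPullback a b (e ≫ f) T.hom) (hb : Function.Surjective b) :
    FreeCond f F p T ↔ lowIdeal F p ≤ (a ≫ e).ker := by
  let m : P ⟶ PicF.XT f T := pullback.lift (a ≫ e) b ((Category.assoc _ _ _).trans hP.w)
  have hm₁ : m ≫ pullback.fst f T.hom = a ≫ e := pullback.lift_fst _ _ _
  have hm₂ : m ≫ PicF.XTproj f T = b := pullback.lift_snd _ _ _
  have hmP : IsPullback m a (pullback.fst f T.hom) e := by
    have hP' : IsPullback b a T.hom (e ≫ f) := hP.flip
    refine (IsPullback.of_bot (v₂₁ := pullback.snd f T.hom) ?_ hm₁.symm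
      (IsPullback.of_hasPullback f T.hom)).flip
    rw [show m ≫ pullback.snd f T.hom = b from hm₂]
    exact hP
  haveI : IsOpenImmersion m := MorphismProperty.of_isPullback (P := @IsOpenImmersion) hmP.flip inferInstance
  let G := (Scheme.Modules.pullback m).obj (FGA.ET f F T)
  have hq : Coh.IsQCoh (FGA.ET f F T) := isQCoh_pullback _ F hF
  have hqT : CohB1.IsFT (FGA.ET f F T) := isFT_pullback _ F hF hFT
  have hG : Coh.IsQCoh G := isQCoh_pullback _ _ hq
  have hGT : CohB1.IsFT G := isFT_pullback _ _ hq hqT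
  have hfit : ∀ k, Fitt.sheafIdeal G k = (Fitt.sheafIdeal F k).comap (a ≫ e) := fun k => by
    rw [← sheafIdeal_comap m _ hq hqT, ← sheafIdeal_comap (pullback.fst f T.hom) F hF hFT,
      ← Scheme.IdealSheafData.comap_comp, hm₁]
  have hsupp : ∀ z, z ∉ (Fitt.sheafIdeal G p).support := fun z hz => by
    rw [hfit, ← SetLike.mem_coe, Scheme.IdealSheafData.support_comap] at hz
    exact he (a z) hz
  rw [freeCond_iff f F hF hFT, lowIdeal, iSup_le_iff]
  simp only [le_ker_iff_comap_eq_bot, ← hfit]
  constructor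
  · intro H
    haveI := smooth_XTproj f T
    have hz : ∀ z, StalkFree G p z := fun z => stalkFree_pullback m _
      (stalkFree_of_isFreeOfRankNear _ hq (isFreeOfRankNear_of_not_mem_support (PicF.XTproj f T) _
        hq hqT p H (x := m z) (by
          intro hh
          refine hsupp z ?_
          rw [← sheafIdeal_comap m _ hq hqT, ← SetLike.mem_coe, Scheme.IdealSheafData.support_comap]
          exact hh)))
    have hloc : FlatMod.IsFinLocFreeOfRank p G := fun z =>
      isFreeOfRankNear_of_stalkFree (𝟙 P) G hG hGT p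
        (fun t => ⟨t, rfl, fun x' hx' => by
          obtain rfl : x' = t := hx'
          rfl, hz t⟩) (hz z)
    exact fun k => ((isFinLocFreeOfRank_iff G hG hGT p).1 hloc).1 k k.2
  · intro H
    have hloc : FlatMod.IsFinLocFreeOfRank p G :=
      (isFinLocFreeOfRank_iff G hG hGT p).2 ⟨fun k hk => H ⟨k, hk⟩, fun k hk => by
        refine Scheme.IdealSheafData.ext (funext fun U => ?_)
        haveI := finite_sections G hG hGT U
        rw [sheafIdeal_ideal G hG hGT k U, Scheme.IdealSheafData.ideal_top, Pi.top_apply]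
        by_contra hne
        obtain ⟨M, hM, hle⟩ := Ideal.exists_le_maximal _ hne
        obtain ⟨y, hy⟩ := H29Blow.exists_primeIdealOf_eq U.2 (⟨M, hM.isPrime⟩ : PrimeSpectrum _)
        have hns := hsupp y.1
        rw [mem_support_iff G hG hGT p U.2 y, congrArg PrimeSpectrum.asIdeal hy] at hns
        exact (not_le_prime_iff_finrank_le k M).2
          (((not_le_prime_iff_finrank_le p M).1 hns).trans hk) hle⟩
    intro t
    haveI := geometricallyIrreducible_XTproj f T
    obtain ⟨x, hx, hgen⟩ := exists_isGenericPtOfFibre (PicF.XTproj f T) t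
    obtain ⟨z, rfl⟩ := hb t
    have hsp : x ⤳ m z := hgen (m z) (by rw [hx, ← Scheme.Hom.comp_apply, hm₂])
    obtain ⟨z', rfl⟩ := hsp.mem_open m.isOpenEmbedding.isOpen_range ⟨z, rfl⟩
    exact ⟨_, hx, hgen, stalkFree_of_pullback m _ hq hqT (stalkFree_of_isFreeOfRankNear G hG (hloc z'))⟩

end Groth.Agent.H8Norm.Hp
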