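import Groth.Agent.H8Norm.HpCrit
import Groth.Agent.H19Grp.AbSchemeRigid
import Groth.Agent.H7Flat.PureProjective
import Groth.Agent.S1223

/-!
# `H_p` is representable by an immersion
-/

set_option autoImplicit false
set_option linter.style.haveILetI false
set_option backward.isDefEq.respectTransparency false

universe u

open CategoryTheory CategoryTheory.Limits AlgebraicGeometry TopologicalSpace

namespace Groth.Agent.H8Norm.Hp

open H29Fitt H8Props.FunDescent H19Grp

variable {X S : Scheme.{u}} (f : X ⟶ S) [Smooth f] [GeometricallyIrreducible f] (F : X.Modules) (p : ℕ)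

/-- The image in the base of the locus generated by `p` sections. -/
def baseLocus : S.Opens := ⟨f '' (genLocus F p : Set X), f.isOpenMap _ (genLocus F p).2⟩

theorem genLocus_le : genLocus F p ≤ f ⁻¹ᵁ baseLocus f F p := fun x hx => ⟨x, hx, rfl⟩

/-- The generated locus over its image. -/
noncomputable def genMap : (genLocus F p).toScheme ⟶ (baseLocus f F p).toScheme :=
  f.resLE (baseLocus f F p) (genLocus F p) (genLocus_le f F p)

@[reassoc]
theorem genMap_ι : genMap f F p ≫ (baseLocus f F p).ι = (genLocus F p).ι ≫ f :=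
  Scheme.Hom.resLE_comp_ι _ _

theorem genMap_surjective : Function.Surjective (genMap f F p) := by
  rintro ⟨s, x, hx, rfl⟩
  refine ⟨⟨x, hx⟩, (baseLocus f F p).ι.isOpenEmbedding.injective ?_⟩
  rw [← Scheme.Hom.comp_apply, genMap_ι]
  rfl

variable {f F p}

/-- `H_p` over the image of the generated locus. -/
theorem freeCond_iff_contains (hF : Coh.IsQCoh F) (hFT : CohB1.IsFT F) (T : Over S)
    (g : T.left ⟶ (baseLocus f F p).toScheme) (hg : g ≫ (baseLocus f F p).ι = T.hom) :
    FreeCond f F p T ↔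
      Contains (genMap f F p) (stratum F p (genLocus F p).ι) g := by
  rw [contains_stratum_iff]
  refine freeCond_iff_le_ker f hF hFT (genLocus F p).ι (fun z => z.2) T _ (pullback.snd _ g) ?_ ?_
  · refine ⟨⟨by rw [← genMap_ι, ← hg, ← Category.assoc, ← Category.assoc, pullback.condition]⟩,
      ⟨PullbackCone.IsLimit.mk _ (fun c => pullback.lift c.fst c.snd (by
        rw [← cancel_mono (baseLocus f F p).ι, Category.assoc, Category.assoc, genMap_ι, hg]
        exact c.condition))
        (fun c => pullback.lift_fst _ _ _) (fun c => pullback.lift_snd _ _ _)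
        (fun c k h₁ h₂ => pullback.hom_ext (h₁.trans (pullback.lift_fst _ _ _).symm)
          (h₂.trans (pullback.lift_snd _ _ _).symm))⟩⟩
  · intro t
    obtain ⟨z, hz⟩ := genMap_surjective f F p (g t)
    obtain ⟨w, -, hw⟩ := Scheme.Pullback.exists_preimage_pullback (f := genMap f F p) (g := g) z t hz
    exact ⟨w, hw⟩

/-- Near every point of the image there is a chart with projective coordinate ring. -/
theorem exists_chart (s : (baseLocus f F p).toScheme) :
    ∃ (A B : CommRingCat.{u}) (σ : Spec A ⟶ (baseLocus f F p).toScheme)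
      (e : Spec B ⟶ (genLocus F p).toScheme) (φ : A ⟶ B), IsOpenImmersion σ ∧ IsOpenImmersion e ∧
      s ∈ Set.range σ ∧ Spec.map φ ≫ σ = e ≫ genMap f F p ∧ Function.Surjective (Spec.map φ) ∧
      (letI := φ.hom.toAlgebra; Module.Projective A B) := by
  obtain ⟨x, hx⟩ := genMap_surjective f F p s
  obtain ⟨_, ⟨W, hW : IsAffineOpen W, rfl⟩, hsW, -⟩ :=
    (baseLocus f F p).toScheme.isBasis_affineOpens.exists_subset_of_mem_open (Set.mem_univ s) isOpen_univ
  obtain ⟨_, ⟨V, hV : IsAffineOpen V, rfl⟩, hxV, hVW⟩ :=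
    (genLocus F p).toScheme.isBasis_affineOpens.exists_subset_of_mem_open
      (show x ∈ genMap f F p ⁻¹ᵁ W from (hx ▸ hsW : genMap f F p x ∈ W)) (genMap f F p ⁻¹ᵁ W).isOpen
  haveI : Smooth (genMap f F p ≫ (baseLocus f F p).ι) := by rw [genMap_ι]; infer_instance
  haveI : Smooth (genMap f F p) :=
    MorphismProperty.of_postcomp (W := @Smooth) (W' := @IsOpenImmersion) _ (baseLocus f F p).ι
      inferInstance inferInstance
  obtain ⟨r, hr, hsr⟩ := hW.exists_basicOpen_le
    (V := ⟨genMap f F p '' (V : Set _), (genMap f F p).isOpenMap _ V.2⟩) ⟨s, ⟨x, hxV, hx⟩⟩ hsW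
  let r' := (genMap f F p).appLE W V hVW r
  let V' := (genLocus F p).toScheme.basicOpen r'
  let W' := (baseLocus f F p).toScheme.basicOpen r
  have hV'V : V' ≤ V := (genLocus F p).toScheme.basicOpen_le r'
  have hpre : V' = V ⊓ genMap f F p ⁻¹ᵁ W' := by
    simp only [V', r', W', Scheme.Hom.appLE, CommRingCat.comp_apply, Scheme.basicOpen_res,
      Scheme.preimage_basicOpen]
  have hW' : IsAffineOpen W' := hW.basicOpen r
  have hV' : IsAffineOpen V' := hV.basicOpen r'
  have hle : V' ≤ genMap f F p ⁻¹ᵁ W' := hpre ▸ inf_le_right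
  let σ := hW'.fromSpec
  let e := hV'.fromSpec
  let φ := (genMap f F p).appLE W' V' hle
  have hφ : Spec.map φ ≫ σ = e ≫ genMap f F p :=
    IsAffineOpen.SpecMap_appLE_fromSpec (genMap f F p) hW' hV' hle
  have hsur : Function.Surjective (Spec.map φ) := by
    intro w
    obtain ⟨y, hyV, hy⟩ := hr (show σ w ∈ W' from hW'.range_fromSpec.subset ⟨w, rfl⟩)
    obtain ⟨v, hv⟩ := hV'.range_fromSpec.superset (show y ∈ (V' : Set _) by
      rw [hpre]
      exact ⟨hyV, show genMap f F p y ∈ W' by rw [hy]; exact hW'.range_fromSpec.subset ⟨w, rfl⟩⟩)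
    refine ⟨v, σ.isOpenEmbedding.injective ?_⟩
    rw [← Scheme.Hom.comp_apply, hφ, Scheme.Hom.comp_apply, hv, hy]
  haveI : IsOpenImmersion σ := inferInstanceAs (IsOpenImmersion hW'.fromSpec)
  haveI : IsOpenImmersion e := inferInstanceAs (IsOpenImmersion hV'.fromSpec)
  refine ⟨_, _, σ, e, φ, inferInstance, inferInstance,
    hW'.range_fromSpec.superset hsr, hφ, hsur, ?_⟩
  letI := φ.hom.toAlgebra
  haveI : Smooth (Spec.map φ) := by
    haveI : Smooth (Spec.map φ ≫ σ) := by rw [hφ]; infer_instance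
    exact MorphismProperty.of_postcomp (W := @Smooth) (W' := @IsOpenImmersion) _ σ inferInstance inferInstance
  haveI : GeometricallyIntegral (Spec.map φ) := by
    let w := σ ≫ (baseLocus f F p).ι
    let i : Spec Γ((genLocus F p).toScheme, V') ⟶ pullback f w :=
      pullback.lift (e ≫ (genLocus F p).ι) (Spec.map φ)
        (by rw [Category.assoc, ← genMap_ι, reassoc_of% hφ])
    have hi : i ≫ pullback.snd f w = Spec.map φ := pullback.lift_snd _ _ _
    haveI : IsOpenImmersion i := by
      haveI : IsOpenImmersion (i ≫ pullback.fst f w) := by rw [pullback.lift_fst]; infer_instance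
      exact IsOpenImmersion.of_comp i (pullback.fst f w)
    haveI : Surjective (i ≫ pullback.snd f w) := ⟨by rw [hi]; exact hsur⟩
    haveI : GeometricallyIrreducible (Spec.map φ) := by rw [← hi]; infer_instance
    haveI := geometricallyReduced_of_smooth_hom (Spec.map φ)
    exact GeometricallyIntegral.of_geometricallyReduced_of_geometricallyIrreducible _
  have hφ' : CommRingCat.ofHom (algebraMap Γ((baseLocus f F p).toScheme, W')
      Γ((genLocus F p).toScheme, V')) = φ := rfl
  haveI : Algebra.FinitePresentation Γ((baseLocus f F p).toScheme, W') Γ((genLocus F p).toScheme, V') :=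
    (HasRingHomProperty.Spec_iff (P := @LocallyOfFinitePresentation) (φ := φ)).1 inferInstance
  haveI : Module.Flat Γ((baseLocus f F p).toScheme, W') Γ((genLocus F p).toScheme, V') :=
    (HasRingHomProperty.Spec_iff (P := @Flat) (φ := φ)).1 inferInstance
  exact H7Flat.PureProjective.projective_of_univPure (S := Γ((genLocus F p).toScheme, V')) _
    (S1223.result (show GeometricallyIntegral (Spec.map (CommRingCat.ofHom (algebraMap
      Γ((baseLocus f F p).toScheme, W') Γ((genLocus F p).toScheme, V')))) from hφ' ▸ inferInstance))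

/-- Universal ideals exist locally, and are finitely generated for finitely presented modules. -/
theorem exists_hasUniv (hF : Coh.IsQCoh F) (hFT : CohB1.IsFT F) (s : (baseLocus f F p).toScheme) :
    ∃ (A : CommRingCat.{u}) (σ : Spec A ⟶ (baseLocus f F p).toScheme) (𝔞 : Ideal A),
      IsOpenImmersion σ ∧ s ∈ Set.range σ ∧
      HasUniv (genMap f F p) (stratum F p (genLocus F p).ι) σ 𝔞 ∧
      (CohB1.IsFP F → 𝔞.FG) := by
  obtain ⟨A, B, σ, e, φ, hσ, he, hs, hφ, hsur, hproj⟩ := exists_chart (f := f) s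
  letI := φ.hom.toAlgebra
  let eX := e ≫ (genLocus F p).ι
  let σS := σ ≫ (baseLocus f F p).ι
  have hw : eX ≫ f = Spec.map φ ≫ σS := by
    simp only [eX, σS, Category.assoc, ← genMap_ι, reassoc_of% hφ]
  have hsq : IsPullback (𝟙 (Spec B)) (Spec.map φ) (eX ≫ f) σS :=
    ⟨⟨(Category.id_comp _).trans hw⟩, ⟨PullbackCone.IsLimit.mk _ (fun c => c.fst)
      (fun c => Category.comp_id _)
      (fun c => (cancel_mono σS).1 ((Category.assoc _ _ _).trans ((congrArg (c.fst ≫ ·) hw.symm).trans c.condition)))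
      (fun c k h₁ _ => (Category.comp_id _).symm.trans h₁)⟩⟩
  obtain ⟨𝔞, h𝔞, hfg⟩ := hasUniv_of_charts (f := eX ≫ f) (j := stratum F p eX) (A := A) σS
    (ι := PUnit.{u + 1}) (fun _ => B) (fun _ => hsq.isoPullback.hom)
    (fun _ => hsq.isoPullback_hom_snd)
    (fun z => ⟨⟨⟩, hsq.isoPullback.inv z, by rw [← Scheme.Hom.comp_apply, Iso.inv_hom_id]; rfl⟩)
  refine ⟨A, σ, 𝔞, hσ, hs, fun C ψ => ?_, fun hFP => ?_⟩
  · let T : Over S := Over.mk ((Spec.map ψ ≫ σ) ≫ (baseLocus f F p).ι)
    rw [← h𝔞 C ψ, ← freeCond_iff_contains hF hFT T (Spec.map ψ ≫ σ) rfl, contains_stratum_iff]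
    refine freeCond_iff_le_ker f hF hFT eX (fun z => (e z).2) T _ (pullback.snd _ _) ?_ ?_
    · rw [show T.hom = Spec.map ψ ≫ σS from Category.assoc _ _ _]
      exact IsPullback.of_hasPullback _ _
    · intro t
      obtain ⟨v, hv⟩ := hsur (Spec.map ψ t)
      obtain ⟨w, -, hw'⟩ := Scheme.Pullback.exists_preimage_pullback
        (f := eX ≫ f) (g := Spec.map ψ ≫ σS) v t (by
          rw [hw, Scheme.Hom.comp_apply, hv]
          rfl)
      exact ⟨w, hw'⟩
  · haveI : LocallyOfFinitePresentation (lowIdeal F p).subschemeι :=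
      locallyOfFinitePresentation_subschemeι _ fun U => by
        rw [lowIdeal, Scheme.IdealSheafData.ideal_iSup, iSup_apply]
        exact Submodule.fg_iSup _ fun k => by rw [sheafIdeal_ideal F hF hFT]; exact fg_ideal F hFP k U
    exact hfg inferInstance inferInstance

theorem hasUnivLocally (hF : Coh.IsQCoh F) (hFT : CohB1.IsFT F) :
    HasUnivLocally (genMap f F p) (stratum F p (genLocus F p).ι) := fun s => by
  obtain ⟨A, σ, 𝔞, hσ, hs, h, -⟩ := exists_hasUniv (f := f) hF hFT s
  exact ⟨A, σ, 𝔞, hσ, hs, h⟩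

/-- The generated locus of a finitely presented module meets affine opens in quasi-compact sets. -/
theorem isCompact_inter_genLocus (hFP : CohB1.IsFP F) {W : X.Opens} (hW : IsAffineOpen W) :
    IsCompact ((W : Set X) ∩ genLocus F p) := by
  classical
  obtain ⟨t, ht⟩ := fg_ideal F hFP p ⟨W, hW⟩
  rw [← sheafIdeal_ideal F (isQCoh_of_isFP F hFP) (isFT_of_isFP F hFP) p ⟨W, hW⟩] at ht
  have : (W : Set X) ∩ genLocus F p = ⋃ a ∈ t, (X.basicOpen a : Set X) := by
    ext x
    simp only [Set.mem_inter_iff, Set.mem_iUnion, SetLike.mem_coe, mem_genLocus]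
    constructor
    · rintro ⟨hxW, hx⟩
      by_contra hne
      push Not at hne
      refine hx ((Scheme.IdealSheafData.mem_support_iff_of_mem (U := ⟨W, hW⟩) hxW).2 ?_)
      rw [← ht, X.zeroLocus_span, Scheme.mem_zeroLocus_iff]
      exact fun a ha => hne a ha
    · rintro ⟨a, ha, hxa⟩
      have hxW : x ∈ W := X.basicOpen_le a hxa
      refine ⟨hxW, fun hx => ?_⟩
      have h := (Scheme.IdealSheafData.mem_support_iff_of_mem (U := ⟨W, hW⟩) hxW).1 hx
      rw [Scheme.mem_zeroLocus_iff] at h
      exact h a (ht ▸ Ideal.subset_span ha) hxa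
  rw [this]
  exact t.finite_toSet.isCompact_biUnion fun a _ => (hW.basicOpen a).isCompact

/-- For finitely presented modules the image of the generated locus is retrocompact. -/
theorem quasiCompact_baseLocus_ι (hFP : CohB1.IsFP F) : QuasiCompact (baseLocus f F p).ι := by
  classical
  refine quasiCompact_iff_forall_isAffineOpen.2 fun V hV => ?_
  rw [(baseLocus f F p).ι.isOpenEmbedding.isInducing.isCompact_iff, Scheme.Hom.coe_preimage,
    Set.image_preimage_eq_inter_range, Scheme.Opens.range_ι]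
  choose W hWa hxW hWle using fun x : (f ⁻¹ᵁ V : X.Opens) => exists_isAffineOpen_mem_and_subset x.2
  obtain ⟨t, ht⟩ := hV.isCompact.elim_finite_subcover (fun x => f '' (W x : Set X))
    (fun x => f.isOpenMap _ (W x).2) (fun y hy => by
      obtain ⟨x, rfl⟩ := f.surjective y
      exact Set.mem_iUnion.2 ⟨⟨x, hy⟩, x, hxW ⟨x, hy⟩, rfl⟩)
  have : (V : Set S) ∩ baseLocus f F p = ⋃ x ∈ t, f '' ((W x : Set X) ∩ genLocus F p) := by
    ext y
    simp only [Set.mem_inter_iff, Set.mem_iUnion, SetLike.mem_coe]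
    constructor
    · rintro ⟨hy, z, hz, rfl⟩
      obtain ⟨x, hx, w, hw, hwy⟩ : ∃ x ∈ t, ∃ w ∈ (W x : Set X), f w = f z := by
        simpa using ht hy
      obtain ⟨ξ, hξ, hgen⟩ := exists_isGenericPtOfFibre f (f z)
      refine ⟨x, hx, ξ, ⟨(hgen w (hwy.trans hξ.symm)).mem_open (W x).2 hw, ?_⟩, hξ⟩
      exact (hgen z hξ.symm).mem_open (genLocus F p).2 hz
    · rintro ⟨x, hx, z, ⟨hzW, hz⟩, rfl⟩
      exact ⟨hWle x hzW, z, hz, rfl⟩
  rw [this]
  exact t.finite_toSet.isCompact_biUnion fun x _ =>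
    (isCompact_inter_genLocus hFP (hWa x)).image f.continuous

/-- `H_p` is represented by an immersion. -/
theorem exists_representing (hF : Coh.IsQCoh F) (hFT : CohB1.IsFT F) :
    ∃ Z : Over S, IsImmersion Z.hom ∧ Mono Z.hom ∧
      (∀ T : Over S, FreeCond f F p T ↔ ∃ k, k ≫ Z.hom = T.hom) ∧
      (CohB1.IsFP F → LocallyOfFinitePresentation Z.hom ∧ QuasiCompact Z.hom ∧ QuasiSeparated Z.hom) := by
  let hloc := hasUnivLocally (f := f) (p := p) hF hFT
  let i := (univIdeal hloc).subschemeι
  let ι := (baseLocus f F p).ι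
  refine ⟨Over.mk (i ≫ ι), inferInstanceAs (IsImmersion (i ≫ ι)), inferInstanceAs (Mono (i ≫ ι)),
    fun T => ⟨fun h => ?_, ?_⟩, fun hFP => ?_⟩
  · have hr : Set.range T.hom ⊆ Set.range ι := by
      rintro _ ⟨t, rfl⟩
      rw [Scheme.Opens.range_ι]
      obtain ⟨x, hx, hxt⟩ := exists_mem_genLocus f hF hFT h t
      exact ⟨x, hx, hxt⟩
    obtain ⟨k, hk⟩ := (contains_iff_factors hloc (IsOpenImmersion.lift ι T.hom hr)).2
      ((freeCond_iff_contains hF hFT T _ (IsOpenImmersion.lift_fac _ _ _)).1 h)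
    exact ⟨k, by
      change k ≫ i ≫ ι = T.hom
      rw [← Category.assoc, hk]
      exact IsOpenImmersion.lift_fac _ _ _⟩
  · rintro ⟨k, hk⟩
    exact (freeCond_iff_contains hF hFT T (k ≫ i) ((Category.assoc _ _ _).trans hk)).2
      ((contains_iff_factors hloc _).1 ⟨k, rfl⟩)
  · haveI : LocallyOfFinitePresentation i :=
      locallyOfFinitePresentation_subschemeι _ (fg_univIdeal hloc fun s => by
        obtain ⟨A, σ, 𝔞, hσ, hs, h, hfg⟩ := exists_hasUniv (f := f) hF hFT s
        exact ⟨A, σ, 𝔞, hσ, hs, h, hfg hFP⟩)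
    haveI := quasiCompact_baseLocus_ι (f := f) (p := p) hFP
    exact ⟨inferInstanceAs (LocallyOfFinitePresentation (i ≫ ι)),
      inferInstanceAs (QuasiCompact (i ≫ ι)), inferInstanceAs (QuasiSeparated (i ≫ ι))⟩

end Groth.Agent.H8Norm.Hp
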