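import Groth.Agent.H8Norm.CompCountDVR
import Groth.Agent.H8Norm.GeomCompCount
import Groth.Agent.H06Conn.ReducedFibre
import Groth.Agent.H11Val.Point
import Groth.Agent.H11Val.Dominating

/-!
# The number of geometric components does not increase under generization

This holds for flat, universally closed morphisms with geometrically reduced fibre at the specialization.
-/

set_option autoImplicit false
set_option linter.style.haveILetI false
set_option backward.isDefEq.respectTransparency false

universe u

open CategoryTheory CategoryTheory.Limits AlgebraicGeometry TopologicalSpace Topology IsLocalRing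

namespace Groth.Agent.H8Norm.IrredSemicont

variable {X Y : Scheme.{u}} [IsLocallyNoetherian Y] (f : X ⟶ Y) [Flat f] [IsProper f]

set_option maxHeartbeats 800000 in
theorem nGeomIrredComp_le_of_specializes {η y : Y} (h : η ⤳ y)
    (hred : GeometricallyReduced (f.fiberToSpecResidueField y)) :
    MoreMor.nGeomIrredComp f η ≤ MoreMor.nGeomIrredComp f y := by
  rcases eq_or_ne η y with rfl | hne
  · exact le_rfl
  obtain ⟨A₀, h₀, hA₀, hh₀, hgen₀⟩ := H11Val.exists_dvr_hom_through (𝟙 Y) η y h hne.symm
  rw [Category.comp_id] at hgen₀
  haveI := hA₀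
  obtain ⟨K, _, _, _, hK⟩ := GeomCompCount.exists_finite_irred f (E := Y.residueField η) (Y.fromSpecResidueField η)
  replace hK : MoreMor.nGeomIrredComp f η ≤ (irreducibleComponents ↥(pullback f
      (Spec.map (CommRingCat.ofHom (algebraMap (Y.residueField η) K)) ≫ Y.fromSpecResidueField η))).encard := by
    refine le_trans (le_of_eq ?_) hK
    congr 1
    exact (Scheme.fromSpecResidueField_apply η _).symm
  letI : Algebra A₀ K := ((algebraMap (Y.residueField η) K).comp (algebraMap A₀ (Y.residueField η))).toAlgebra
  haveI : IsScalarTower A₀ (Y.residueField η) K := IsScalarTower.of_algebraMap_eq fun _ => rfl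
  obtain ⟨V, hV, hVc⟩ := H11Val.exists_dvr_center_finite (B := A₀) (Y.residueField η) K (maximalIdeal A₀)
    (IsDiscreteValuationRing.not_a_field A₀)
  haveI := hV
  let σ : A₀ →+* V := (algebraMap A₀ K).codRestrict V.toSubring fun a => (hVc a).1
  haveI : IsLocalHom σ := ⟨fun a ha => by
    by_contra hn
    exact ne_of_lt ((hVc a).2.1 ((mem_maximalIdeal _).2 hn)) ((V.valuation_eq_one_iff (σ a)).1 ha)⟩
  let g : Spec (CommRingCat.of V) ⟶ Y := Spec.map (CommRingCat.ofHom σ) ≫ h₀
  let c : Spec (CommRingCat.of V) := closedPoint V
  have hgc : g c = y := by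
    rw [Scheme.Hom.comp_apply]
    refine Eq.trans ?_ hh₀
    exact congrArg h₀ (comap_closedPoint (S := V) σ)
  have hgen : Spec.map (CommRingCat.ofHom (algebraMap V K)) ≫ g =
      Spec.map (CommRingCat.ofHom (algebraMap (Y.residueField η) K)) ≫ Y.fromSpecResidueField η := by
    rw [← hgen₀, ← Spec.map_comp_assoc, ← Spec.map_comp_assoc]
    rfl
  let q : pullback f g ⟶ Spec (CommRingCat.of V) := pullback.snd f g
  haveI : Flat q := inferInstanceAs (Flat (pullback.snd f g))
  haveI : LocallyOfFiniteType q := inferInstanceAs (LocallyOfFiniteType (pullback.snd f g))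
  haveI : UniversallyClosed q := inferInstanceAs (UniversallyClosed (pullback.snd f g))
  let a : Spec ((Spec (CommRingCat.of V)).residueField c) ⟶ Y :=
    (Spec (CommRingCat.of V)).fromSpecResidueField c ≫ g
  have ha : a (closedPoint _) = y := by
    rw [Scheme.Hom.comp_apply]
    exact (congrArg g (Scheme.fromSpecResidueField_apply _ _)).trans hgc
  let e : q.fiber c ≅ pullback f a :=
    pullbackLeftPullbackSndIso f g ((Spec (CommRingCat.of V)).fromSpecResidueField c)
  have hqred : IsReduced (q.fiber c) := by
    haveI := H06Conn.isReduced_pullback_of_geometricallyReduced f y hred a ha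
    exact isReduced_of_isOpenImmersion e.hom
  calc MoreMor.nGeomIrredComp f η
      ≤ (irreducibleComponents ↥(pullback f (Spec.map (CommRingCat.ofHom (algebraMap (Y.residueField η) K)) ≫
          Y.fromSpecResidueField η))).encard := hK
    _ = (irreducibleComponents ↥(pullback q (Spec.map (CommRingCat.ofHom (algebraMap V K))))).encard := by
        rw [← hgen]
        exact (H7Flat.GeomInt.encard_irreducibleComponents_congr
          (pullbackLeftPullbackSndIso f g _).hom.homeomorph).symm
    _ ≤ (irreducibleComponents ↥(q.fiber c)).encard := CompCountDVR.encard_generic_le q hqred K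
    _ = (irreducibleComponents ↥(pullback f a)).encard :=
        H7Flat.GeomInt.encard_irreducibleComponents_congr e.hom.homeomorph
    _ ≤ MoreMor.nGeomIrredComp f (a (closedPoint _)) := GeomCompCount.encard_le_nGeom f a
    _ = MoreMor.nGeomIrredComp f y := by rw [ha]

end Groth.Agent.H8Norm.IrredSemicont
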