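import Mathlib.RingTheory.Filtration
import Mathlib.RingTheory.Ideal.MinimalPrime.Noetherian
import Mathlib.RingTheory.Noetherian.Nilpotent
import Mathlib.RingTheory.Nilpotent.Lemmas
import Mathlib.RingTheory.Localization.AtPrime.Basic
import Mathlib.RingTheory.Localization.Submodule

/-!
# Minimal primes and a reduced principal divisor

In a Noetherian ring with a non zero divisor `π` such that `R / π R` is reduced, every component meeting
the divisor `π = 0` contains a component of it, and every component of the divisor lies in exactly one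
component of the spectrum.
-/

set_option autoImplicit false
set_option linter.style.haveILetI false

universe u

namespace Groth.Agent.H8Norm.MinimalPrimeSpecialize

variable {R : Type u} [CommRing R] [IsNoetherianRing R]

/-- A minimal prime over `I` is moved into the radical of `I` by a factor outside of it. -/
theorem exists_mul_mem_radical {I Q : Ideal R} (hQ : Q ∈ I.minimalPrimes) :
    ∃ u ∉ Q, ∀ a ∈ Q, u * a ∈ I.radical := by
  classical
  haveI := hQ.1.1
  have hfin : I.minimalPrimes.Finite := I.finite_minimalPrimes_of_isNoetherianRing R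
  have hnot : ¬ ((hfin.toFinset.erase Q).inf id ≤ Q) := by
    rw [hQ.1.1.inf_le']
    rintro ⟨P, hP, hle⟩
    rw [Finset.mem_erase, Set.Finite.mem_toFinset] at hP
    exact hP.1 (le_antisymm hle (hQ.2 hP.2.1 hle))
  obtain ⟨u, hu, huQ⟩ := SetLike.not_le_iff_exists.1 hnot
  refine ⟨u, huQ, fun a ha => ?_⟩
  rw [← Ideal.sInf_minimalPrimes, Submodule.mem_sInf]
  intro P hP
  by_cases h : P = Q
  · exact h ▸ Ideal.mul_mem_left _ _ ha
  · exact Ideal.mul_mem_right _ _ ((Finset.inf_le (Finset.mem_erase.2 ⟨h, hfin.mem_toFinset.2 hP⟩) :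
      (hfin.toFinset.erase Q).inf id ≤ P) hu)

/-- A component meeting a reduced divisor contains a component of the divisor. -/
theorem exists_minimalPrime_over (π : R) (hπ : ∀ x, π * x = 0 → x = 0)
    (hred : IsReduced (R ⧸ Ideal.span {π})) {p : Ideal R} (hp : p ∈ minimalPrimes R)
    (hne : p ⊔ Ideal.span {π} ≠ ⊤) : ∃ Q ∈ (Ideal.span {π}).minimalPrimes, p ≤ Q := by
  classical
  haveI := hp.1.1
  obtain ⟨u, hu, hu'⟩ := exists_mul_mem_radical (I := (⊥ : Ideal R)) hp
  obtain ⟨n, hn⟩ := IsNoetherianRing.isNilpotent_nilradical R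
  have hkill : ∀ a ∈ p ^ n, u ^ n * a = 0 := by
    intro a ha
    have hle : Ideal.span {u} * p ≤ nilradical R := by
      rw [Ideal.span_singleton_mul_le_iff]
      exact hu'
    have hmem : u ^ n * a ∈ (Ideal.span {u} * p) ^ n := by
      rw [mul_pow]
      exact Ideal.mul_mem_mul (Ideal.pow_mem_pow (Ideal.mem_span_singleton_self u) n) ha
    have h := Ideal.pow_right_mono hle n hmem
    rwa [hn] at h
  have hex : ∃ k, u ^ n ∉ Ideal.span {π} ^ k := by
    by_contra hall
    push Not at hall
    have hinf : u ^ n ∈ (⨅ i : ℕ, Ideal.span {π} ^ i • ⊤ : Submodule R R) := by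
      rw [Submodule.mem_iInf]
      intro i
      rw [smul_eq_mul, Ideal.mul_top]
      exact hall i
    obtain ⟨⟨r, hr⟩, hr'⟩ := (Ideal.mem_iInf_smul_pow_eq_bot_iff (Ideal.span {π}) (u ^ n)).1 hinf
    have hr1 : (1 - r) * u ^ n = 0 := by rw [sub_mul, one_mul]; exact sub_eq_zero.2 hr'.symm
    have h1 : (1 - r) ∈ p := (hp.1.1.mem_or_mem (by rw [hr1]; exact p.zero_mem)).resolve_right
      fun h => hu (hp.1.1.mem_of_pow_mem n h)
    refine hne ((Ideal.eq_top_iff_one _).2 ?_)
    have := Submodule.add_mem_sup h1 hr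
    rwa [sub_add_cancel] at this
  have hk := Nat.find_spec hex
  obtain ⟨k, hk'⟩ : ∃ k, Nat.find hex = k + 1 := Nat.exists_eq_succ_of_ne_zero fun h => by
    rw [h] at hk; exact hk (by simp)
  rw [hk', Ideal.span_singleton_pow, Ideal.mem_span_singleton] at hk
  have hmin := Nat.find_min hex (show k < Nat.find hex by omega)
  rw [not_not, Ideal.span_singleton_pow, Ideal.mem_span_singleton] at hmin
  obtain ⟨b, hb⟩ := hmin
  have hbπ : b ∉ (Ideal.span {π}).radical := by
    rw [((Ideal.isRadical_iff_quotient_reduced _).2 hred).radical, Ideal.mem_span_singleton]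
    rintro ⟨c, rfl⟩
    exact hk ⟨c, by rw [hb]; ring⟩
  rw [← Ideal.sInf_minimalPrimes, Submodule.mem_sInf] at hbπ
  push Not at hbπ
  obtain ⟨Q, hQ, hbQ⟩ := hbπ
  haveI := hQ.1.1
  have hnz : ∀ (m : ℕ) (x : R), π ^ m * x = 0 → x = 0 := by
    intro m
    induction m with
    | zero => exact fun x h => by simpa using h
    | succ m ih => exact fun x h => hπ x (ih _ (by rw [← mul_assoc, ← pow_succ]; exact h))
  refine ⟨Q, hQ, hQ.1.1.le_of_pow_le (n := n) fun a ha => ?_⟩
  have h0 : b * a = 0 := hnz k _ (by rw [← mul_assoc, ← hb]; exact hkill a ha)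
  exact (hQ.1.1.mem_or_mem (by rw [h0]; exact Q.zero_mem)).resolve_left hbQ

/-- A component of a reduced divisor lies in a unique component. -/
theorem eq_of_le_minimalPrime (π : R) (hred : IsReduced (R ⧸ Ideal.span {π})) {p p' Q : Ideal R}
    (hQ : Q ∈ (Ideal.span {π}).minimalPrimes) (hp : p ∈ minimalPrimes R) (hp' : p' ∈ minimalPrimes R)
    (hle : p ≤ Q) (hle' : p' ≤ Q) (hπp : π ∉ p) : p = p' := by
  classical
  haveI := hQ.1.1
  haveI := hp.1.1
  haveI := hp'.1.1
  obtain ⟨u, hu, hu'⟩ := exists_mul_mem_radical hQ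
  rw [((Ideal.isRadical_iff_quotient_reduced _).2 hred).radical] at hu'
  have hdiv : ∀ (k : ℕ), ∀ a ∈ p, ∃ a' ∈ p, u ^ k * a = π ^ k * a' := by
    intro k
    induction k with
    | zero => exact fun a ha => ⟨a, ha, by rw [pow_zero, pow_zero]⟩
    | succ k ih =>
      intro a ha
      obtain ⟨a', ha', he⟩ := ih a ha
      obtain ⟨c, hc⟩ := Ideal.mem_span_singleton.1 (hu' a' (hle ha'))
      refine ⟨c, (hp.1.1.mem_or_mem (hc ▸ p.mul_mem_left u ha')).resolve_left hπp, ?_⟩
      rw [pow_succ', mul_assoc, he, mul_left_comm, hc]; ring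
  let L := Localization.AtPrime Q
  haveI : IsNoetherianRing L := IsLocalization.isNoetherianRing Q.primeCompl L inferInstance
  have hI : (Ideal.span {algebraMap R L π}) ≠ ⊤ := by
    rw [ne_eq, Ideal.span_singleton_eq_top, IsLocalization.AtPrime.isUnit_to_map_iff L Q π]
    exact fun h => h (hQ.1.2 (Ideal.mem_span_singleton_self π))
  have hall : p ≤ p' := by
    intro b hb
    have hzero : algebraMap R L b = 0 := by
      have hmem : algebraMap R L b ∈ (⨅ k : ℕ, Ideal.span {algebraMap R L π} ^ k) := by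
        rw [Submodule.mem_iInf]
        intro k
        obtain ⟨a', -, he⟩ := hdiv k b hb
        obtain ⟨v, hv⟩ := (IsLocalization.AtPrime.isUnit_to_map_iff L Q (u ^ k)).2
          fun h => hu (hQ.1.1.mem_of_pow_mem k h)
        rw [Ideal.span_singleton_pow, Ideal.mem_span_singleton]
        refine ⟨algebraMap R L a' * ↑v⁻¹, ?_⟩
        rw [← mul_assoc, ← map_pow, ← map_mul, ← he, map_mul, ← hv, mul_comm (v : L), mul_assoc,
          Units.mul_inv, mul_one]
      rwa [Ideal.iInf_pow_eq_bot_of_isLocalRing _ hI, Ideal.mem_bot] at hmem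
    obtain ⟨⟨v, hv⟩, hvb⟩ := (IsLocalization.map_eq_zero_iff Q.primeCompl L b).1 hzero
    exact (hp'.1.1.mem_or_mem (by rw [show v * b = 0 from hvb]; exact p'.zero_mem)).resolve_left
      fun h => hv (hle' h)
  exact le_antisymm hall (hp'.2 hp.1 hall)

end Groth.Agent.H8Norm.MinimalPrimeSpecialize
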