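import Groth.Agent.H8Norm.GeomIntComponents
import Groth.Agent.H8Props.Generic
import Groth.Agent.S0419
import Groth.Agent.S0434
import Groth.Agent.H7Flat.GenericFlatness

/-!
# Spreading out geometric integrality of the components
-/

set_option autoImplicit false
set_option linter.style.haveILetI false
set_option backward.isDefEq.respectTransparency false

universe u

open CategoryTheory CategoryTheory.Limits AlgebraicGeometry TopologicalSpace Topology

namespace Groth.Agent.H8Norm.SpreadGeomInt

/-- Properties stable under base change pass to smaller opens of the target. -/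
theorem of_le (P : MorphismProperty Scheme.{u}) [P.IsStableUnderBaseChange] {A B : Scheme.{u}} (f : A ⟶ B)
    {O V : B.Opens} (hle : O ≤ V) (h : P (f ∣_ V)) : P (f ∣_ O) := by
  have h1 : P (f ∣_ V ∣_ (V.ι ⁻¹ᵁ O)) := MorphismProperty.of_isPullback (isPullback_morphismRestrict _ _).flip h
  refine (P.arrow_mk_iso_iff ((morphismRestrictRestrict f V _).trans (morphismRestrictEq f ?_))).1 h1
  rw [Scheme.Hom.image_preimage_eq_opensRange_inf, Scheme.Opens.opensRange_ι, inf_eq_right]
  exact hle

/-- The reduced components of a flat family whose generic fibre is geometrically reduced with geometrically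
irreducible components are flat with geometrically integral fibres over a nonempty open. -/
theorem exists_opens_good {X S Z : Scheme.{u}} (q : X ⟶ S) [IsIntegral S] [LocallyOfFiniteType q] [QuasiCompact q]
    [Flat q] [GeometricallyReduced (q.fiberToSpecResidueField (genericPoint S))]
    (hcomp : ∀ (T : Set ↥(q.fiber (genericPoint S))) (hT : T ∈ irreducibleComponents ↥(q.fiber (genericPoint S))),
      GeometricallyIrreducible ((Scheme.IdealSheafData.vanishingIdeal (⟨T, isClosed_of_mem_irreducibleComponents T hT⟩ : Closeds _)).subschemeι ≫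
          q.fiberToSpecResidueField (genericPoint S)))
    (i : Z ⟶ X) [IsClosedImmersion i] [IsReduced Z] (hT : Set.range i ∈ irreducibleComponents ↥X) :
    ∃ O : S.Opens, genericPoint S ∈ O ∧ Flat ((i ≫ q) ∣_ O) ∧ GeometricallyIntegral ((i ≫ q) ∣_ O) := by
  let η := genericPoint S
  haveI : IsNoetherianRing (S.residueField η) := inferInstance
  haveI : LocallyOfFiniteType (q.fiberToSpecResidueField η) := MorphismProperty.pullback_snd _ _ inferInstance
  haveI : QuasiCompact (q.fiberToSpecResidueField η) := MorphismProperty.pullback_snd _ _ inferInstance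
  let ε := pullbackRightPullbackFstIso q (S.fromSpecResidueField η) i
  let m : (i ≫ q).fiber η ⟶ q.fiber η := ε.inv ≫ pullback.snd i (q.fiberι η)
  haveI : IsClosedImmersion (pullback.snd i (q.fiberι η)) := MorphismProperty.pullback_snd _ _ inferInstance
  haveI : IsClosedImmersion m := inferInstance
  have hm : m ≫ q.fiberToSpecResidueField η = (i ≫ q).fiberToSpecResidueField η := by
    rw [Category.assoc]
    exact pullbackRightPullbackFstIso_inv_snd_snd _ _ _
  have hη : ∀ y : S, y ⤳ η → y = η := fun y hy => (hy.antisymm (genericPoint_specializes y)).eq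
  haveI : IsReduced ((i ≫ q).fiber η) := H8Props.isReduced_fiber_of_isGenericPoint _ η hη
  have hrange : Set.range m = q.fiberι η ⁻¹' Set.range i := by
    refine Eq.trans ?_ (Scheme.Pullback.range_snd i (q.fiberι η))
    ext v
    constructor
    · rintro ⟨a, rfl⟩; exact ⟨ε.inv a, rfl⟩
    · rintro ⟨b, rfl⟩
      refine ⟨ε.hom b, ?_⟩
      show (pullback.snd i (q.fiberι η)) (ε.inv (ε.hom b)) = _
      congr 1
      rw [← Scheme.Hom.comp_apply, ε.hom_inv_id]
      rfl
  obtain ⟨g, hg⟩ := QuasiSober.sober hT.1 i.isClosedEmbedding.isClosed_range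
  have hgmax : g ∈ genericPoints ↥X := by
    show closure {g} ∈ irreducibleComponents ↥X
    rw [show closure {g} = Set.range i from hg]
    exact hT
  have hqg : q g = η := (hη _ (by
    have h1 := H8Props.flat_map_genericPoints q hgmax
    rw [H8Props.mem_genericPoints_iff] at h1
    rw [h1 η (genericPoint_specializes _)]))
  obtain ⟨w, rfl⟩ : g ∈ Set.range (q.fiberι η) := (q.range_fiberι η).ge hqg
  have hcl : Set.range m = closure {w} := by
    rw [hrange]
    refine Set.Subset.antisymm (fun v hv => ?_) (closure_minimal (Set.singleton_subset_iff.2 hg.mem)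
      (i.isClosedEmbedding.isClosed_range.preimage (q.fiberι η).continuous))
    exact ((q.fiberι η).isEmbedding.isInducing.specializes_iff.1 (hg.specializes hv)).mem_closure
  have hwmax : w ∈ genericPoints ↥(q.fiber η) := by
    rw [H8Props.mem_genericPoints_iff] at hgmax ⊢
    exact fun v hv => (q.fiberι η).isEmbedding.injective (hgmax _ (hv.map (q.fiberι η).continuous))
  have hcompm : Set.range m ∈ irreducibleComponents ↥(q.fiber η) := hcl ▸ hwmax
  haveI : GeometricallyReduced ((i ≫ q).fiberToSpecResidueField η) :=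
    hm ▸ GeomIntComponents.geometricallyReduced_component (k := S.residueField η) (q.fiberToSpecResidueField η) m hcompm
  have hirr : GeometricallyIrreducible ((i ≫ q).fiberToSpecResidueField η) := by
    let I := Scheme.IdealSheafData.vanishingIdeal
      (⟨_, isClosed_of_mem_irreducibleComponents _ hcompm⟩ : Closeds ↥(q.fiber η))
    haveI : IsReduced I.subscheme := H17.isReduced_vanishingIdeal_subscheme _
    obtain ⟨e, he⟩ := H17.exists_iso_of_range_eq m I.subschemeι
      (H17.range_vanishingIdeal_subschemeι (⟨_, isClosed_of_mem_irreducibleComponents _ hcompm⟩ : Closeds ↥(q.fiber η))).symm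
    rw [← hm, ← he, Category.assoc]
    exact (MorphismProperty.cancel_left_of_respectsIso (P := @GeometricallyIrreducible) e.hom _).2 (hcomp _ hcompm)
  obtain ⟨V₁, hV₁, hI⟩ := Groth.Agent.S0419.result (i ≫ q) hirr
  obtain ⟨V₂, hV₂, hR⟩ := Groth.Agent.S0434.result (i ≫ q) ‹_›
  obtain ⟨V₃, hV₃, hF, -⟩ := H7Flat.exists_dense_flatLFP (i ≫ q)
  have hmem : ∀ V : S.Opens, (V : Set S).Nonempty → η ∈ V := fun V ⟨v, hv⟩ =>
    (genericPoint_specializes v).mem_open V.2 hv
  refine ⟨V₁ ⊓ V₂ ⊓ V₃, ⟨⟨hmem _ hV₁, hmem _ hV₂⟩, hmem _ hV₃.nonempty⟩,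
    of_le @Flat _ inf_le_right hF, ?_⟩
  haveI : GeometricallyIrreducible ((i ≫ q) ∣_ (V₁ ⊓ V₂ ⊓ V₃)) :=
    of_le @GeometricallyIrreducible _ (inf_le_left.trans inf_le_left) hI
  haveI : GeometricallyReduced ((i ≫ q) ∣_ (V₁ ⊓ V₂ ⊓ V₃)) :=
    of_le @GeometricallyReduced _ (inf_le_left.trans inf_le_right) hR
  exact GeometricallyIntegral.of_geometricallyReduced_of_geometricallyIrreducible _

/-- The open sets over which all components are good. -/
theorem exists_opens_all {X S : Scheme.{u}} (q : X ⟶ S) [IsIntegral S] [LocallyOfFiniteType q] [QuasiCompact q]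
    [Flat q] [AlgebraicGeometry.IsNoetherian X] [GeometricallyReduced (q.fiberToSpecResidueField (genericPoint S))]
    (hcomp : ∀ (T : Set ↥(q.fiber (genericPoint S))) (hT : T ∈ irreducibleComponents ↥(q.fiber (genericPoint S))),
      GeometricallyIrreducible ((Scheme.IdealSheafData.vanishingIdeal (⟨T, isClosed_of_mem_irreducibleComponents T hT⟩ : Closeds _)).subschemeι ≫
          q.fiberToSpecResidueField (genericPoint S))) :
    ∃ O : S.Opens, genericPoint S ∈ O ∧ ∀ T ∈ irreducibleComponents ↥X, ∃ (Z : Scheme.{u}) (i : Z ⟶ X),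
      IsClosedImmersion i ∧ IsReduced Z ∧ Set.range i = T ∧
        Flat ((i ≫ q) ∣_ O) ∧ GeometricallyIntegral ((i ≫ q) ∣_ O) := by
  classical
  have hfin : (irreducibleComponents ↥X).Finite := NoetherianSpace.finite_irreducibleComponents
  let Zc : irreducibleComponents ↥X → X.IdealSheafData := fun T =>
    Scheme.IdealSheafData.vanishingIdeal (⟨T.1, isClosed_of_mem_irreducibleComponents _ T.2⟩ : Closeds ↥X)
  have hred : ∀ T, IsReduced (Zc T).subscheme := fun T => H17.isReduced_vanishingIdeal_subscheme _
  have hrg : ∀ T, Set.range (Zc T).subschemeι = T.1 := fun T => H17.range_vanishingIdeal_subschemeι _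
  choose O hηO hF hG using fun T : irreducibleComponents ↥X =>
    haveI := hred T
    exists_opens_good q hcomp (Zc T).subschemeι (by rw [hrg T]; exact T.2)
  haveI := hfin.fintype
  refine ⟨Finset.univ.inf O, ?_, fun T hT => ?_⟩
  · show genericPoint S ∈ ((Finset.univ.inf O : S.Opens) : Set S)
    rw [TopologicalSpace.Opens.coe_finset_inf, Finset.inf_set_eq_iInter]
    simp only [Set.mem_iInter]
    exact fun T _ => hηO T
  · exact ⟨_, (Zc ⟨T, hT⟩).subschemeι, inferInstance, hred _, hrg _,
      of_le @Flat _ (Finset.inf_le (Finset.mem_univ _)) (hF _),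
      of_le @GeometricallyIntegral _ (Finset.inf_le (Finset.mem_univ _)) (hG _)⟩

end Groth.Agent.H8Norm.SpreadGeomInt
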