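import Groth.Agent.H8Norm.GeomNormalModel
import Groth.Agent.H8Norm.SpreadGeomInt
import Groth.Agent.S4827
import Groth.Agent.S0591
import Groth.Agent.S9187
import Groth.Agent.S9218
import Groth.Agent.H18PBC.SubalgSystem
import Groth.Agent.H17.GenFinite
import Groth.Agent.H17.ConsPropBasic
import Groth.Agent.H12AlgSp.LocPCancel

/-!
# A finite flat cover with a finite geometrically normal model
-/

set_option autoImplicit false
set_option linter.style.haveILetI false
set_option backward.isDefEq.respectTransparency false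

universe u

open CategoryTheory CategoryTheory.Limits AlgebraicGeometry TopologicalSpace Topology Opposite
open Groth.Agent.H18PBC

namespace Groth.Agent.H8Norm.NormalCover

/-- Shrinking the base of a generically finite morphism between integral schemes. -/
theorem exists_good_base {T S : Scheme.{u}} [IsIntegral T] [IsIntegral S] [AlgebraicGeometry.IsNoetherian S]
    (h : T ⟶ S) [LocallyOfFiniteType h] {W : S.Opens} (hW : IsFinite (h ∣_ W)) (hηW : genericPoint S ∈ W)
    (hgen : h (genericPoint T) = genericPoint S) (hfib : ∀ t : T, h t = genericPoint S → t = genericPoint T)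
    (O : T.Opens) (hO : genericPoint T ∈ O) :
    ∃ V : S.Opens, genericPoint S ∈ V ∧ IsFinite (h ∣_ V) ∧ Flat (h ∣_ V) ∧ Surjective (h ∣_ V) ∧
      h ⁻¹ᵁ V ≤ O ∧ IsIntegral (h ⁻¹ᵁ V).toScheme := by
  haveI := hW
  let C : Set W.toScheme := (h ∣_ W) '' ((h ⁻¹ᵁ W).ι ⁻¹' ((O : Set T)ᶜ))
  have hC : IsClosed C := (h ∣_ W).isClosedMap _ (O.2.isClosed_compl.preimage (h ⁻¹ᵁ W).ι.continuous)
  let Vc : W.toScheme.Opens := ⟨Cᶜ, hC.isOpen_compl⟩
  have hηVc : (⟨genericPoint S, hηW⟩ : W.toScheme) ∈ Vc := by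
    rintro ⟨⟨y, hy⟩, hyO, he⟩
    have h1 : h y = genericPoint S := by
      have := congrArg W.ι he
      rw [← Scheme.Hom.comp_apply, morphismRestrict_ι, Scheme.Hom.comp_apply] at this
      exact this
    exact hyO (show y ∈ O from hfib y h1 ▸ hO)
  haveI : IsReduced W.toScheme := isReduced_of_isOpenImmersion W.ι
  obtain ⟨U, hU, hF, -⟩ := H7Flat.exists_dense_flatLFP (h ∣_ W)
  let V : S.Opens := W.ι ''ᵁ (Vc ⊓ U)
  have hηV : genericPoint S ∈ V := by
    obtain ⟨v, hv⟩ := hU.inter_open_nonempty _ Vc.2 ⟨_, hηVc⟩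
    exact (genericPoint_specializes _).mem_open V.2 ⟨v, hv, rfl⟩
  have hVW : V ≤ W := by rintro _ ⟨v, -, rfl⟩; exact v.2
  have hηT : genericPoint T ∈ h ⁻¹ᵁ V := show h (genericPoint T) ∈ V by rw [hgen]; exact hηV
  haveI : IsFinite (h ∣_ V) := SpreadGeomInt.of_le @IsFinite _ hVW hW
  haveI : Nonempty (h ⁻¹ᵁ V).toScheme := ⟨⟨_, hηT⟩⟩
  refine ⟨V, hηV, inferInstance,
    ((MorphismProperty.arrow_mk_iso_iff @Flat (morphismRestrictRestrict h W _)).1
      (SpreadGeomInt.of_le @Flat _ inf_le_right hF)), ⟨fun v => ?_⟩, ?_, isIntegral_of_isOpenImmersion (h ⁻¹ᵁ V).ι⟩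
  · refine Specializes.mem_closed (x := (⟨genericPoint S, hηV⟩ : V.toScheme)) ?_
      (h ∣_ V).isClosedMap.isClosed_range
      ⟨⟨_, hηT⟩, V.ι.isOpenEmbedding.injective (by
        rw [← Scheme.Hom.comp_apply, morphismRestrict_ι, Scheme.Hom.comp_apply]; exact hgen)⟩
    exact V.ι.isOpenEmbedding.isInducing.specializes_iff.1 (genericPoint_specializes _)
  · intro y hy
    by_contra hyO
    obtain ⟨v, ⟨hvc, -⟩, hv⟩ := id hy
    exact hvc ⟨⟨y, show h y ∈ W from hVW hy⟩, hyO, W.ι.isOpenEmbedding.injective (by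
      rw [← Scheme.Hom.comp_apply, morphismRestrict_ι, Scheme.Hom.comp_apply]; exact hv.symm)⟩

/-- A nonzero algebraic ideal meets the base. -/
theorem eq_bot_of_comap {R A : Type u} [CommRing R] [CommRing A] [IsDomain A] [Algebra R A]
    (halg : ∀ a : A, IsAlgebraic R a) (P : Ideal A) (hP : P.comap (algebraMap R A) = ⊥) : P = ⊥ := by
  refine (Submodule.eq_bot_iff P).2 fun a ha => ?_
  by_contra h0
  exact Ideal.comap_ne_bot_of_algebraic_mem h0 ha (halg a) hP

/-- The geometric part: a geometrically integral and normal fibre spreads. -/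
theorem exists_opens_normal {Y T : Scheme.{u}} (q : Y ⟶ T) [IsIntegral T] [AlgebraicGeometry.IsNoetherian T]
    [LocallyOfFiniteType q] [QuasiCompact q]
    (hint : GeometricallyIntegral (q.fiberToSpecResidueField (genericPoint T)))
    (hnorm : ∀ (K : Type u) [Field K] [Algebra (IsLocalRing.ResidueField (T.presheaf.stalk (genericPoint T))) K],
      Pi1.IsNormalScheme (FBase.bc (q.fiberToSpecResidueField (genericPoint T)) K)) :
    ∃ O : T.Opens, genericPoint T ∈ O ∧ Flat (q ∣_ O) ∧ GeometricallyIntegral (q ∣_ O) ∧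
      ∀ (Ω : Type u) [Field Ω] (σ : Spec (CommRingCat.of Ω) ⟶ (O : Scheme.{u})),
        Pi1.IsNormalScheme (pullback (q ∣_ O) σ) := by
  haveI := hint
  haveI : IsLocallyNoetherian Y := LocallyOfFiniteType.isLocallyNoetherian q
  haveI : LocallyOfFinitePresentation q := H12AlgSp.lfp_of_lft_of_isLocallyNoetherian q
  haveI : QuasiSeparated q := inferInstance
  obtain ⟨V₁, hV₁, hI⟩ := Groth.Agent.S0419.result q inferInstance
  obtain ⟨V₂, hV₂, hR⟩ := Groth.Agent.S0434.result q inferInstance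
  obtain ⟨V₃, hV₃, hF, -⟩ := H7Flat.exists_dense_flatLFP q
  have hE := (Groth.Agent.S4827.result q).isConstructible
  have hmem : ∀ V : T.Opens, (V : Set T).Nonempty → genericPoint T ∈ V := fun V ⟨v, hv⟩ =>
    (genericPoint_specializes v).mem_open V.2 hv
  obtain ⟨V₄', hV₄, ⟨z, hz, -⟩, hV₄E⟩ := H28Top.IsConstructible.exists_isOpen_inter_subset hE
    (IrreducibleSpace.isIrreducible_univ T) (by
      rw [Set.inter_univ, ← (genericPoint_spec T).def]
      exact closure_mono (Set.singleton_subset_iff.2 fun K _ _ x' => hnorm K x'))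
  let V₄ : T.Opens := ⟨V₄', hV₄⟩
  let O := V₁ ⊓ V₂ ⊓ V₃ ⊓ V₄
  have hO₃ : O ≤ V₃ := inf_le_left.trans inf_le_right
  haveI : GeometricallyIrreducible (q ∣_ O) :=
    SpreadGeomInt.of_le @GeometricallyIrreducible _ (inf_le_left.trans (inf_le_left.trans inf_le_left)) hI
  haveI : GeometricallyReduced (q ∣_ O) :=
    SpreadGeomInt.of_le @GeometricallyReduced _ (inf_le_left.trans (inf_le_left.trans inf_le_right)) hR
  refine ⟨O, ⟨⟨⟨hmem _ hV₁, hmem _ hV₂⟩, hmem _ hV₃.nonempty⟩, hmem V₄ ⟨z, hz⟩⟩,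
    SpreadGeomInt.of_le @Flat _ hO₃ hF, GeometricallyIntegral.of_geometricallyReduced_of_geometricallyIrreducible _, ?_⟩
  intro Ω _ σ
  obtain ⟨⟨t, φ⟩, ht⟩ : ∃ z, (Scheme.SpecToEquivOfField Ω T).symm z = σ ≫ O.ι :=
    ⟨_, (Scheme.SpecToEquivOfField Ω T).symm_apply_apply _⟩
  change Spec.map φ ≫ T.fromSpecResidueField t = σ ≫ O.ι at ht
  have htO : t ∈ V₄ := by
    have h1 : (σ ≫ O.ι) (IsLocalRing.closedPoint Ω) = t := by
      rw [← ht, Scheme.Hom.comp_apply]
      exact Scheme.fromSpecResidueField_apply t _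
    rw [← h1, Scheme.Hom.comp_apply]
    exact (σ (IsLocalRing.closedPoint Ω)).2.2
  letI : Algebra (IsLocalRing.ResidueField (T.presheaf.stalk t)) Ω := φ.hom.toAlgebra
  have hn : Pi1.IsNormalScheme (FBase.bc (q.fiberToSpecResidueField t) Ω) := fun x' => hV₄E ⟨htO, trivial⟩ Ω x'
  have h1 : IsPullback ((q ⁻¹ᵁ O).ι) (q ∣_ O) q O.ι := (isPullback_morphismRestrict q O).flip
  have hbig : IsPullback (pullback.fst (q ∣_ O) σ ≫ (q ⁻¹ᵁ O).ι) (pullback.snd (q ∣_ O) σ) q (σ ≫ O.ι) :=
    (IsPullback.of_hasPullback (q ∣_ O) σ).paste_horiz h1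
  have hbig' : IsPullback (pullback.fst (q.fiberToSpecResidueField t) (Spec.map φ) ≫ q.fiberι t)
      (pullback.snd (q.fiberToSpecResidueField t) (Spec.map φ)) q (σ ≫ O.ι) := by
    rw [← ht]
    exact (IsPullback.of_hasPullback _ (Spec.map φ)).paste_horiz (IsPullback.of_hasPullback q (T.fromSpecResidueField t))
  exact H22Alg.NormalProd.isNormalScheme_of_isOpenImmersion (hbig.isoIsPullback _ _ hbig').hom hn

set_option maxHeartbeats 1600000 in
/-- The main statement. -/
theorem main {X S : Scheme.{u}} [AlgebraicGeometry.IsNoetherian S] [IsIntegral S]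
    (f : X ⟶ S) [Flat f] [GeometricallyIntegral f] [LocallyOfFiniteType f] [QuasiCompact f] :
    ∃ (U : S.Opens) (S' : Scheme.{u}) (h : S' ⟶ (U : Scheme.{u})) (X' : Scheme.{u}) (q : X' ⟶ S')
      (g : X' ⟶ pullback f (h ≫ U.ι)),
      (U : Set S).Nonempty ∧ IsIntegral S' ∧ IsFinite h ∧ Flat h ∧ Surjective h ∧
      Flat q ∧ GeometricallyIntegral q ∧
      (∀ (Ω : Type u) [Field Ω] [IsAlgClosed Ω] (σ : Spec (CommRingCat.of Ω) ⟶ S'), Pi1.IsNormalScheme (pullback q σ)) ∧
      IsFinite g ∧ Surjective g ∧ g ≫ pullback.snd f (h ≫ U.ι) = q := by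
  classical
  haveI : AlgebraicGeometry.IsNoetherian X := H17.ConsProp.isNoetherian_of_finiteType f
  obtain ⟨_, ⟨Va', hVa', rfl⟩, hηVa, -⟩ :=
    S.isBasis_affineOpens.exists_subset_of_mem_open (Set.mem_univ (genericPoint S)) isOpen_univ
  let Va : S.Opens := Va'
  have hVa : IsAffineOpen Va := hVa'
  haveI : Nonempty Va := ⟨⟨_, hηVa⟩⟩
  let R := Γ(S, Va)
  haveI : IsNoetherianRing R := IsLocallyNoetherian.component_noetherian ⟨Va, hVa⟩
  let K := FractionRing R
  let L := AlgebraicClosure K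
  have halgL : ∀ x : L, IsAlgebraic R x := fun x =>
    (IsFractionRing.isAlgebraic_iff R K L).2 (Algebra.IsAlgebraic.isAlgebraic x)
  let D := SubalgSystem.specSystem R L
  let cc := SubalgSystem.specCone R L
  let b : ∀ i : (Finset L)ᵒᵖ, D.obj i ⟶ S := fun i =>
    Spec.map (CommRingCat.ofHom (algebraMap R (Algebra.adjoin R (i.unop : Set L)))) ≫ hVa.fromSpec
  let σ : cc.pt ⟶ S := Spec.map (CommRingCat.ofHom (algebraMap R L)) ≫ hVa.fromSpec
  have hb : ∀ i, cc.π.app i ≫ b i = σ := fun i => by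
    show Spec.map _ ≫ Spec.map _ ≫ hVa.fromSpec = _
    rw [← Spec.map_comp_assoc]
    rfl
  have hbD : ∀ {i j : (Finset L)ᵒᵖ} (φ : i ⟶ j), D.map φ ≫ b j = b i := fun {i j} φ => by
    show Spec.map _ ≫ Spec.map _ ≫ hVa.fromSpec = _
    rw [← Spec.map_comp_assoc]
    rfl
  haveI hDN : ∀ i, AlgebraicGeometry.IsNoetherian (D.obj i) := fun i => by
    haveI : Algebra.FiniteType R (Algebra.adjoin R (i.unop : Set L)) :=
      (Subalgebra.fg_iff_finiteType _).1 (Subalgebra.fg_adjoin_finset _)
    haveI : IsNoetherianRing (Algebra.adjoin R (i.unop : Set L)) := Algebra.FiniteType.isNoetherianRing R _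
    haveI : IsNoetherianRing (CommRingCat.of (Algebra.adjoin R (i.unop : Set L))) := ‹IsNoetherianRing (Algebra.adjoin R (i.unop : Set L))›
    exact inferInstanceAs (AlgebraicGeometry.IsNoetherian (Spec (CommRingCat.of (Algebra.adjoin R (i.unop : Set L)))))
  -- normalization of the geometric generic fibre
  let Xb := pullback f σ
  let pb : Xb ⟶ cc.pt := pullback.snd f σ
  haveI : IsIntegral Xb := GeometricallyIntegral.geometrically_isIntegral (f := f) σ _ _ (.of_hasPullback _ _)
  obtain ⟨N, ν, hνfin, hνsurj, hNint, hNnorm⟩ := GeomNormalModel.exists_normalization (k := L) pb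
  haveI : IsLocallyNoetherian cc.pt := inferInstanceAs (IsLocallyNoetherian (Spec (CommRingCat.of L)))
  haveI : CompactSpace ↥cc.pt := inferInstanceAs (CompactSpace ↥(Spec (CommRingCat.of L)))
  haveI : AlgebraicGeometry.IsNoetherian cc.pt := {}
  haveI : AlgebraicGeometry.IsNoetherian Xb := H17.ConsProp.isNoetherian_of_finiteType pb
  haveI : AlgebraicGeometry.IsNoetherian N := H17.ConsProp.isNoetherian_of_finiteType ν
  haveI : LocallyOfFinitePresentation (ν ≫ pb) := H12AlgSp.lfp_of_lft_of_isLocallyNoetherian _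
  -- descend the scheme
  obtain ⟨i, Ni, fi, g₀, hfi, hfiqc, hfiqs, hg₀⟩ :=
    Groth.Agent.S0591.result D cc (SubalgSystem.isLimitSpecCone R L) N (ν ≫ pb)
  haveI : AlgebraicGeometry.IsNoetherian Ni := H17.ConsProp.isNoetherian_of_finiteType fi
  let Xi := pullback f (b i)
  let yi : Xi ⟶ D.obj i := pullback.snd f (b i)
  haveI : AlgebraicGeometry.IsNoetherian Xi := H17.ConsProp.isNoetherian_of_finiteType yi
  haveI : LocallyOfFinitePresentation yi := H12AlgSp.lfp_of_lft_of_isLocallyNoetherian _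
  let qY : Xb ⟶ Xi := pullback.lift (pullback.fst f σ) (pb ≫ cc.π.app i)
    (by rw [Category.assoc, hb, pullback.condition])
  have hY : IsPullback qY pb yi (cc.π.app i) :=
    IsPullback.of_right (h₁₂ := pullback.fst f (b i)) (h₂₂ := b i) (v₁₃ := f)
      (by rw [pullback.lift_fst, hb]; exact IsPullback.of_hasPullback f σ) (pullback.lift_snd _ _ _)
      (IsPullback.of_hasPullback f (b i))
  -- descend the morphism
  obtain ⟨j, φ, fj, sX, sY, hfj, hsX₁, hsX₂, hsY₁, hsY₂, hcomm⟩ :=
    Groth.Agent.S9218.result D cc (SubalgSystem.isLimitSpecCone R L) i fi yi g₀ (ν ≫ pb) hg₀ qY pb hY ν rfl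
  have hcw : cc.π.app j ≫ D.map φ = cc.π.app i := cc.w φ
  have hY' : IsPullback sY pb (pullback.snd yi (D.map φ)) (cc.π.app j) :=
    IsPullback.of_right (h₁₂ := pullback.fst yi (D.map φ)) (h₂₂ := D.map φ) (v₁₃ := yi)
      (by rw [hsY₁, hcw]; exact hY) hsY₂ (IsPullback.of_hasPullback _ _)
  have hX' : IsPullback sX (ν ≫ pb) (pullback.snd fi (D.map φ)) (cc.π.app j) :=
    IsPullback.of_right (h₁₂ := pullback.fst fi (D.map φ)) (h₂₂ := D.map φ) (v₁₃ := fi)
      (by rw [hsX₁, hcw]; exact hg₀) hsX₂ (IsPullback.of_hasPullback _ _)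
  have hXf : IsPullback sX ν fj sY :=
    IsPullback.of_bot (v₁₁ := ν) (v₂₁ := pb) (v₁₂ := fj) (v₂₂ := pullback.snd yi (D.map φ))
      (h₃₁ := cc.π.app j) (by rw [hfj]; exact hX') hcomm hY'
  haveI : AlgebraicGeometry.IsNoetherian (pullback fi (D.map φ)) :=
    H17.ConsProp.isNoetherian_of_finiteType (pullback.snd fi (D.map φ))
  haveI : AlgebraicGeometry.IsNoetherian (pullback yi (D.map φ)) :=
    H17.ConsProp.isNoetherian_of_finiteType (pullback.snd yi (D.map φ))
  haveI : LocallyOfFiniteType (fj ≫ pullback.snd yi (D.map φ)) := by rw [hfj]; infer_instance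
  haveI : LocallyOfFiniteType fj := locallyOfFiniteType_of_comp fj (pullback.snd yi (D.map φ))
  haveI := hνfin
  -- descend finiteness
  obtain ⟨k, ψ, Xk, Yk, fk, gk, pY, pX, hYk, hXk, hfk⟩ :=
    Groth.Agent.S9187.result D cc (SubalgSystem.isLimitSpecCone R L) j fj (pullback.snd yi (D.map φ)) ν pb sY sX hY' hXf
  let T := D.obj k
  let toX : Yk ⟶ X := pY ≫ pullback.fst yi (D.map φ) ≫ pullback.fst f (b i)
  have hYT : IsPullback toX gk f (b k) := by
    have := hYk.paste_horiz ((IsPullback.of_hasPullback yi (D.map φ)).paste_horiz (IsPullback.of_hasPullback f (b i)))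
    rwa [hbD, hbD] at this
  have hXT : IsPullback pX (fk ≫ gk) (fj ≫ pullback.snd yi (D.map φ)) (D.map ψ) := hXk.paste_vert hYk
  have hcwk : cc.π.app k ≫ D.map ψ = cc.π.app j := cc.w ψ
  let sN : N ⟶ Xk := hXT.lift sX ((ν ≫ pb) ≫ cc.π.app k) (by rw [hfj, hsX₂, Category.assoc, Category.assoc, Category.assoc, hcwk])
  have hN : IsPullback sN (ν ≫ pb) (fk ≫ gk) (cc.π.app k) :=
    IsPullback.of_right (h₁₂ := pX) (h₂₂ := D.map ψ) (v₁₃ := fj ≫ pullback.snd yi (D.map φ))
      (by rw [hXT.lift_fst, hcwk, hfj]; exact hX') (hXT.lift_snd _ _ _) hXT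
  let sP : Xb ⟶ Yk := hYT.lift (pullback.fst f σ) (pb ≫ cc.π.app k) (by rw [Category.assoc, hb, pullback.condition])
  have hP : IsPullback sP pb gk (cc.π.app k) :=
    IsPullback.of_right (h₁₂ := toX) (h₂₂ := b k) (v₁₃ := f)
      (by rw [hYT.lift_fst, hb]; exact IsPullback.of_hasPullback f σ) (hYT.lift_snd _ _ _) hYT
  have hsN : sN ≫ fk = ν ≫ sP := by
    refine hYk.hom_ext ?_ ?_
    · rw [Category.assoc, ← hXk.w, ← Category.assoc, hXT.lift_fst, hcomm, Category.assoc]
      congr 1
      refine pullback.hom_ext ?_ ?_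
      · rw [hsY₁, Category.assoc]
        refine pullback.hom_ext ?_ ?_
        · rw [pullback.lift_fst, Category.assoc, Category.assoc, hYT.lift_fst]
        · rw [pullback.lift_snd, Category.assoc, Category.assoc, pullback.condition, ← Category.assoc pY,
            hYk.w, Category.assoc, hYT.lift_snd_assoc, Category.assoc, ← Category.assoc (cc.π.app k), hcwk, hcw]
      · rw [hsY₂, Category.assoc, hYk.w, hYT.lift_snd_assoc, Category.assoc, hcwk]
    · rw [Category.assoc, hXT.lift_snd, Category.assoc, Category.assoc, hYT.lift_snd]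
  haveI := hfk
  -- the generic point of the new base
  haveI : IsIntegral T := inferInstanceAs (IsIntegral (Spec (CommRingCat.of (Algebra.adjoin R (k.unop : Set L)))))
  let A := Algebra.adjoin R (k.unop : Set L)
  have halgA : ∀ a : A, IsAlgebraic R a := fun a => (isAlgebraic_algHom_iff A.val Subtype.val_injective).1 (halgL _)
  have hetaT : genericPoint T = (⟨⊥, Ideal.isPrime_bot⟩ : PrimeSpectrum A) :=
    genericPoint_eq_bot_of_affine (CommRingCat.of A)
  have hπgen : ∀ p : cc.pt, cc.π.app k p = genericPoint T := by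
    intro p
    rw [hetaT]
    refine PrimeSpectrum.ext ?_
    show Ideal.comap A.val.toRingHom p.asIdeal = ⊥
    have key : ∀ P : PrimeSpectrum L, Ideal.comap A.val.toRingHom P.asIdeal = ⊥ := fun P => by
      have hp : P.asIdeal = ⊥ := by
        rcases Ideal.eq_bot_or_top P.asIdeal with h | h
        · exact h
        · exact absurd h P.isPrime.ne_top
      rw [hp, ← RingHom.ker_eq_comap_bot, ← RingHom.injective_iff_ker_eq_bot]
      exact Subtype.val_injective
    exact key p
  let botS : Spec Γ(S, Va) := (⟨⊥, Ideal.isPrime_bot⟩ : PrimeSpectrum Γ(S, Va))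
  have hηS : hVa.fromSpec botS = genericPoint S := by
    rw [← genericPoint_eq_of_isOpenImmersion hVa.fromSpec, genericPoint_eq_bot_of_affine Γ(S, Va)]
    rfl
  have hgen : b k (genericPoint T) = genericPoint S := by
    rw [Scheme.Hom.comp_apply, hetaT, ← hηS]
    congr 1
    refine PrimeSpectrum.ext ?_
    show Ideal.comap (algebraMap R A) ⊥ = ⊥
    rw [← RingHom.ker_eq_comap_bot, ← RingHom.injective_iff_ker_eq_bot]
    intro x y hxy
    exact IsFractionRing.injective R K ((algebraMap K L).injective (by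
      rw [← IsScalarTower.algebraMap_apply, ← IsScalarTower.algebraMap_apply]
      exact congrArg Subtype.val hxy))
  have hfib : ∀ t : T, b k t = genericPoint S → t = genericPoint T := by
    intro t ht
    rw [hetaT]
    refine PrimeSpectrum.ext (eq_bot_of_comap halgA (t : PrimeSpectrum A).asIdeal ?_)
    rw [Scheme.Hom.comp_apply, ← hηS] at ht
    exact congrArg PrimeSpectrum.asIdeal (hVa.fromSpec.isOpenEmbedding.injective ht)
  -- the generic fibre
  have hint' : GeometricallyIntegral ((fk ≫ gk).fiberToSpecResidueField (genericPoint T)) ∧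
      ∀ (K' : Type u) [Field K'] [Algebra (IsLocalRing.ResidueField (T.presheaf.stalk (genericPoint T))) K'],
        Pi1.IsNormalScheme (FBase.bc ((fk ≫ gk).fiberToSpecResidueField (genericPoint T)) K') := by
    obtain ⟨⟨t, χ⟩, hχ⟩ : ∃ z, (Scheme.SpecToEquivOfField L T).symm z = cc.π.app k :=
      ⟨_, (Scheme.SpecToEquivOfField L T).symm_apply_apply _⟩
    change Spec.map χ ≫ T.fromSpecResidueField t = cc.π.app k at hχ
    obtain rfl : t = genericPoint T := by
      rw [← hπgen (IsLocalRing.closedPoint L), ← hχ, Scheme.Hom.comp_apply]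
      exact (Scheme.fromSpecResidueField_apply t _).symm
    letI : Algebra (IsLocalRing.ResidueField (T.presheaf.stalk (genericPoint T))) L := χ.hom.toAlgebra
    let a : N ⟶ (fk ≫ gk).fiber (genericPoint T) :=
      pullback.lift sN ((ν ≫ pb) ≫ Spec.map χ) (by rw [Category.assoc, hχ, hN.w])
    have hsq : IsPullback a (ν ≫ pb) ((fk ≫ gk).fiberToSpecResidueField (genericPoint T)) (Spec.map χ) :=
      IsPullback.of_right (h₁₂ := (fk ≫ gk).fiberι (genericPoint T)) (h₂₂ := T.fromSpecResidueField (genericPoint T))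
        (v₁₃ := fk ≫ gk)
        (by rw [show a ≫ (fk ≫ gk).fiberι _ = sN from pullback.lift_fst _ _ _, hχ]; exact hN)
        (pullback.lift_snd _ _ _) (IsPullback.of_hasPullback _ _)
    exact GeomNormalModel.descend (k := IsLocalRing.ResidueField (T.presheaf.stalk (genericPoint T))) (Ω := L) _ hsq hNnorm
  haveI : IsLocallyNoetherian T := inferInstance
  haveI : IsAffine T := inferInstanceAs (IsAffine (Spec (CommRingCat.of (Algebra.adjoin R (k.unop : Set L)))))
  haveI : LocallyOfFiniteType gk := MorphismProperty.of_isPullback hYT inferInstance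
  haveI : QuasiCompact gk := MorphismProperty.of_isPullback hYT inferInstance
  haveI : Flat gk := MorphismProperty.of_isPullback hYT inferInstance
  haveI : GeometricallyIntegral gk := MorphismProperty.of_isPullback hYT inferInstance
  obtain ⟨O, hηO, hOflat, hOint, hOnorm⟩ := exists_opens_normal (fk ≫ gk) hint'.1 hint'.2
  -- the finite base change
  haveI : LocallyOfFiniteType (b k) := by
    haveI : LocallyOfFiniteType (Spec.map (CommRingCat.ofHom (algebraMap R A))) := by
      rw [HasRingHomProperty.Spec_iff (P := @LocallyOfFiniteType)]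
      exact RingHom.finiteType_algebraMap.2 ((Subalgebra.fg_iff_finiteType _).1 (Subalgebra.fg_adjoin_finset _))
    infer_instance
  have htop : b k ⁻¹ᵁ Va = ⊤ := by
    refine eq_top_iff.2 fun t _ => ?_
    exact hVa.range_fromSpec.le ⟨_, rfl⟩
  have hfibset : (b k).base ⁻¹' {genericPoint S} = {genericPoint T} := by
    ext t; exact ⟨hfib t, fun h => (show t = genericPoint T from h) ▸ hgen⟩
  obtain ⟨r, hηr, hWfin⟩ := H17.GenFinite.exists_isFinite_nhd (b k) (η := genericPoint S)
    (H8Props.mem_genericPoints_iff.2 fun y hy => (hy.antisymm (genericPoint_specializes y)).eq) hVa hηVa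
    (by rw [htop]; exact isCompact_univ) (by rw [hfibset]; exact Set.finite_singleton _) (fun _ => ⊤)
    (fun _ _ => ⟨isAffineOpen_top _, trivial, htop.ge⟩) (by rw [hfibset]; exact Set.pairwiseDisjoint_singleton _ _)
  obtain ⟨V, hηV, hVfin, hVflat, hVsurj, hVO, hVint⟩ :=
    exists_good_base (b k) hWfin hηr hgen hfib O hηO
  let U' := b k ⁻¹ᵁ V
  let c : U'.toScheme ⟶ S := (b k ∣_ V) ≫ V.ι
  have hc : c = U'.ι ≫ b k := morphismRestrict_ι _ _
  let m : pullback f c ⟶ Yk :=
    hYT.lift (pullback.fst f c) (pullback.snd f c ≫ U'.ι) (by rw [pullback.condition, hc, Category.assoc])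
  have hm : IsPullback m (pullback.snd f c) gk U'.ι :=
    IsPullback.of_right (h₁₂ := toX) (h₂₂ := b k) (v₁₃ := f)
      (by rw [hYT.lift_fst, ← hc]; exact IsPullback.of_hasPullback f c) (hYT.lift_snd _ _ _) hYT
  let q := (fk ≫ gk) ∣_ U'
  let g : ((fk ≫ gk) ⁻¹ᵁ U').toScheme ⟶ pullback f c :=
    hm.lift (((fk ≫ gk) ⁻¹ᵁ U').ι ≫ fk) q (by rw [morphismRestrict_ι, Category.assoc])
  have hg : IsPullback ((fk ≫ gk) ⁻¹ᵁ U').ι g fk m :=
    IsPullback.of_bot (v₂₁ := pullback.snd f c) (v₂₂ := gk) (h₃₁ := U'.ι)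
      (by rw [hm.lift_snd]; exact (isPullback_morphismRestrict _ _).flip) (hm.lift_fst _ _ _).symm hm
  haveI : IsFinite g := MorphismProperty.of_isPullback hg hfk
  haveI hqflat : Flat q := SpreadGeomInt.of_le @Flat _ hVO hOflat
  haveI hqint : GeometricallyIntegral q := SpreadGeomInt.of_le @GeometricallyIntegral _ hVO hOint
  have hsurj : Surjective g := by
    haveI : IsIntegral U'.toScheme := hVint
    haveI : Flat (pullback.snd f c) := inferInstance
    haveI : GeometricallyIntegral (pullback.snd f c) := inferInstance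
    haveI : LocallyOfFiniteType U'.ι := inferInstance
    haveI : IsLocallyNoetherian U'.toScheme := LocallyOfFiniteType.isLocallyNoetherian U'.ι
    haveI : CompactSpace ↥U'.toScheme := isCompact_iff_compactSpace.1 (NoetherianSpace.isCompact _)
    haveI : IrreducibleSpace ↥(pullback f c) := by
      haveI : UniversallyOpen (pullback.snd f c) := by
        haveI : LocallyOfFinitePresentation (pullback.snd f c) := H12AlgSp.lfp_of_lft_of_isLocallyNoetherian _
        infer_instance
      exact GeometricallyIrreducible.irreducibleSpace (pullback.snd f c) (pullback.snd f c).isOpenMap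
    let ξ := genericPoint ↥(pullback f c)
    have hξ : pullback.snd f c ξ = genericPoint U'.toScheme := by
      have h1 := H8Props.flat_map_genericPoints (pullback.snd f c)
        (η := ξ) (H8Props.mem_genericPoints_iff.2 fun y hy => (hy.antisymm (genericPoint_specializes y)).eq)
      rw [H8Props.mem_genericPoints_iff] at h1
      exact (h1 _ (genericPoint_specializes _)).symm
    haveI : Nonempty U'.toScheme := ⟨genericPoint U'.toScheme⟩
    have hy : gk (m ξ) = genericPoint T := by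
      rw [← Scheme.Hom.comp_apply, hm.w, Scheme.Hom.comp_apply, hξ, genericPoint_eq_of_isOpenImmersion U'.ι]
    obtain ⟨z, hz⟩ : m ξ ∈ Set.range sP := by
      obtain ⟨z, hz, -⟩ := Scheme.Pullback.exists_preimage_pullback (f := gk) (g := cc.π.app k) (m ξ)
        (IsLocalRing.closedPoint L) (hy.trans (hπgen _).symm)
      exact ⟨hP.isoPullback.inv z, by rw [← Scheme.Hom.comp_apply, hP.isoPullback_inv_fst]; exact hz⟩
    obtain ⟨w, rfl⟩ := hνsurj.surj z
    have hx : fk (sN w) = m ξ := by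
      rw [← hz, ← Scheme.Hom.comp_apply, hsN, Scheme.Hom.comp_apply]
    obtain ⟨w', -, hw'⟩ : ∃ w', ((fk ≫ gk) ⁻¹ᵁ U').ι w' = sN w ∧ g w' = ξ := by
      obtain ⟨w', h1, h2⟩ := Scheme.Pullback.exists_preimage_pullback (f := fk) (g := m) (sN w) ξ hx
      refine ⟨hg.isoPullback.inv w', ?_, ?_⟩
      · rw [← Scheme.Hom.comp_apply, hg.isoPullback_inv_fst]; exact h1
      · rw [← Scheme.Hom.comp_apply, hg.isoPullback_inv_snd]; exact h2
    exact ⟨fun v => (genericPoint_specializes v).mem_closed g.isClosedMap.isClosed_range ⟨w', hw'⟩⟩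
  refine ⟨V, U'.toScheme, b k ∣_ V, _, q, g, ⟨_, hηV⟩, hVint, hVfin, hVflat, hVsurj, hqflat, hqint, ?_,
    inferInstance, hsurj, hm.lift_snd _ _ _⟩
  intro Ω _ _ σ'
  let j₀ : U'.toScheme ⟶ O.toScheme := T.homOfLE hVO
  have hre : IsPullback (Xk.homOfLE ((fk ≫ gk).preimage_mono hVO)) q ((fk ≫ gk) ∣_ O) j₀ :=
    IsPullback.of_right (h₁₂ := ((fk ≫ gk) ⁻¹ᵁ O).ι) (h₂₂ := O.ι) (v₁₃ := fk ≫ gk)
      (by rw [Scheme.homOfLE_ι, Scheme.homOfLE_ι]; exact (isPullback_morphismRestrict _ _).flip)
      (by rw [← cancel_mono O.ι, Category.assoc, morphismRestrict_ι, Scheme.homOfLE_ι_assoc, Category.assoc, Scheme.homOfLE_ι, morphismRestrict_ι]) (isPullback_morphismRestrict _ _).flip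
  have hbig : IsPullback _ (pullback.snd q σ') ((fk ≫ gk) ∣_ O) (σ' ≫ j₀) :=
    (IsPullback.of_hasPullback q σ').paste_horiz hre
  exact H22Alg.NormalProd.isNormalScheme_of_isOpenImmersion hbig.isoPullback.hom (hOnorm Ω (σ' ≫ j₀))

end Groth.Agent.H8Norm.NormalCover
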