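import Groth.Agent.S1356
import Groth.Agent.H17.ConsPropBasic
import Groth.Agent.H06Norm.Criterion
import Groth.Agent.S7862
import Groth.Agent.S9413
import Groth.Agent.H22Alg.NormalProd
import Groth.Prelude.Def_EGA4b

/-!
# Normal morphisms: geometric fibres are normal, connected ones are integral
-/

set_option autoImplicit false
set_option linter.style.haveILetI false
set_option backward.isDefEq.respectTransparency false

universe u

open CategoryTheory CategoryTheory.Limits AlgebraicGeometry TopologicalSpace Topology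
open scoped TensorProduct

namespace Groth.Agent.H8Norm.NormalMorphismFibres

theorem isNormalRing_field (K : Type u) [Field K] : EGA4.IsNormalRing K :=
  H22Alg.NormalProd.isNormalRing_of_isNormalScheme_spec
    (H06Norm.isNormalScheme_Spec_isField (CommRingCat.of K) (Field.toIsField K))

/-- A normal algebra has normal base changes to fields. -/
theorem isNormalRing_tensor_field {A B : Type u} [CommRing A] [CommRing B] [Algebra A B]
    (hn : EGA4.IsNormalHom A B) (K : Type u) [Field K] [Algebra A K] : EGA4.IsNormalRing (K ⊗[A] B) := by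
  let p : Ideal A := RingHom.ker (algebraMap A K)
  haveI : p.IsPrime := RingHom.ker_isPrime _
  let ι : p.ResidueField →+* K :=
    Ideal.ResidueField.lift p (algebraMap A K) le_rfl
      (fun a ha => isUnit_iff_ne_zero.2 fun h0 => ha (RingHom.mem_ker.2 h0))
  letI : Algebra p.ResidueField K := ι.toAlgebra
  haveI : IsScalarTower A p.ResidueField K := IsScalarTower.of_algebraMap_eq fun a => by
    show algebraMap A K a = ι (algebraMap A p.ResidueField a)
    simp [ι]
  let e : (p.Fiber B) ⊗[p.ResidueField] K ≃+* K ⊗[A] B :=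
    (Algebra.TensorProduct.comm p.ResidueField (p.Fiber B) K).toRingEquiv.trans
      (Algebra.TensorProduct.cancelBaseChange A p.ResidueField p.ResidueField K B).toRingEquiv
  exact H05EGA4.isNormalRing_of_ringEquiv e
    (Groth.Agent.S9413.result p.ResidueField (p.Fiber B) K (hn.2 p) (isNormalRing_field K))

variable {Y S : Scheme.{u}} (h : Y ⟶ S)

/-- Fibres over field-valued points of a normal morphism are normal. -/
theorem isNormalScheme_pullback
    (hn : ∀ (U : Y.Opens) (V : S.Opens) (hU : IsAffineOpen U) (hV : IsAffineOpen V) (hUV : U ≤ h ⁻¹ᵁ V),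
      letI := (h.appLE V U hUV).hom.toAlgebra
      EGA4.IsNormalHom Γ(S, V) Γ(Y, U))
    {K : Type u} [Field K] (a : Spec (CommRingCat.of K) ⟶ S) : Pi1.IsNormalScheme (pullback h a) := by
  intro z
  obtain ⟨V, hV, haV, -⟩ := exists_isAffineOpen_mem_and_subset (X := S)
    (x := a (pullback.snd h a z)) (U := ⊤) trivial
  obtain ⟨U, hU, hzU, hUV⟩ := exists_isAffineOpen_mem_and_subset (X := Y) (x := pullback.fst h a z) (U := h ⁻¹ᵁ V) (by
    show h (pullback.fst h a z) ∈ V
    rw [← Scheme.Hom.comp_apply, pullback.condition, Scheme.Hom.comp_apply]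
    exact haV)
  have hra : Set.range a ⊆ Set.range hV.fromSpec := by
    rintro _ ⟨p, rfl⟩
    rw [hV.range_fromSpec, Subsingleton.elim (α := PrimeSpectrum K) p (pullback.snd h a z)]
    exact haV
  obtain ⟨χ, hχ⟩ := Spec.map_surjective (IsOpenImmersion.lift hV.fromSpec a hra)
  have ha : Spec.map χ ≫ hV.fromSpec = a := by rw [hχ]; exact IsOpenImmersion.lift_fac _ _ _
  letI : Algebra Γ(S, V) Γ(Y, U) := (h.appLE V U hUV).hom.toAlgebra
  letI : Algebra Γ(S, V) K := χ.hom.toAlgebra
  let m₁ := Spec.map (CommRingCat.ofHom (algebraMap Γ(S, V) Γ(Y, U)))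
  let m₂ := Spec.map (CommRingCat.ofHom (algebraMap Γ(S, V) K))
  have hm₁ : m₁ ≫ hV.fromSpec = hU.fromSpec ≫ h := hV.SpecMap_appLE_fromSpec h hU hUV
  let j : pullback m₂ m₁ ⟶ pullback h a :=
    (pullbackSymmetry m₂ m₁).hom ≫
      pullback.map m₁ m₂ h a hU.fromSpec (𝟙 _) hV.fromSpec hm₁ (by rw [Category.id_comp]; exact ha)
  haveI : IsOpenImmersion j := by dsimp only [j]; infer_instance
  obtain ⟨w, rfl⟩ : z ∈ Set.range j := by
    obtain ⟨w, hw⟩ : z ∈ Set.range (pullback.map m₁ m₂ h a hU.fromSpec (𝟙 _) hV.fromSpec hm₁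
        (by rw [Category.id_comp]; exact ha)) := by
      rw [Scheme.Pullback.range_map]
      exact ⟨hU.range_fromSpec.ge hzU, ⟨_, rfl⟩⟩
    exact ⟨(pullbackSymmetry m₂ m₁).inv w, by
      rw [← hw, ← Scheme.Hom.comp_apply, Iso.inv_hom_id_assoc]⟩
  have hN : Pi1.IsNormalScheme (pullback m₂ m₁) :=
    H22Alg.NormalProd.isNormalScheme_of_isOpenImmersion (pullbackSpecIso Γ(S, V) K Γ(Y, U)).hom
      (H22Alg.NormalProd.isNormalScheme_spec (isNormalRing_tensor_field (hn U V hU hV hUV) K))
  let e := (asIso (j.stalkMap w)).commRingCatIsoToRingEquiv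
  obtain ⟨h1, h2⟩ := hN w
  exact ⟨haveI := h1; e.toMulEquiv.isDomain _, haveI := h2; IsIntegrallyClosed.of_equiv e.symm⟩

theorem flat_of_isNormalHom
    (hn : ∀ (U : Y.Opens) (V : S.Opens) (hU : IsAffineOpen U) (hV : IsAffineOpen V) (hUV : U ≤ h ⁻¹ᵁ V),
      letI := (h.appLE V U hUV).hom.toAlgebra
      EGA4.IsNormalHom Γ(S, V) Γ(Y, U)) : Flat h := by
  rw [HasRingHomProperty.iff_appLE (P := @Flat)]
  intro V U hUV
  letI := (h.appLE V U hUV).hom.toAlgebra
  exact (hn U.1 V.1 U.2 V.2 hUV).1

/-- The main statement. -/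
theorem main [LocallyOfFinitePresentation h] [QuasiCompact h] [QuasiSeparated h]
    (hn : ∀ (U : Y.Opens) (V : S.Opens) (hU : IsAffineOpen U) (hV : IsAffineOpen V) (hUV : U ≤ h ⁻¹ᵁ V),
      letI := (h.appLE V U hUV).hom.toAlgebra
      EGA4.IsNormalHom Γ(S, V) Γ(Y, U))
    (s : S) (T : (h.fiber s).Opens) (hT : GeometricallyIrreducible (T.ι ≫ h.fiberToSpecResidueField s)) :
    ∃ (S' : Scheme.{u}) (g : S' ⟶ S) (s' : S'), IsAffine S' ∧ Hens2.IsEtaleNbhd g s' s ∧
      ∃ V : (pullback h g).Opens, IsCompact (V : Set ↑(pullback h g)) ∧ GeometricallyIntegral (V.ι ≫ pullback.snd h g) ∧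
        ∀ y' : ↑(pullback h g), pullback.snd h g y' = s' → (y' ∈ V ↔ pullback.fst h g y' ∈ (h.fiberι s) '' (T : Set ↑(h.fiber s))) := by
  haveI := flat_of_isNormalHom h hn
  haveI : GeometricallyReduced h := by
    refine ⟨fun K _ a Z fst snd hsq => ?_⟩
    haveI : IsReduced (pullback h a) := H06Norm.isReduced_of_isNormalScheme (isNormalScheme_pullback h hn a)
    exact isReduced_of_isOpenImmersion hsq.isoPullback.hom
  haveI := hT
  haveI : GeometricallyConnected (T.ι ≫ h.fiberToSpecResidueField s) := by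
    refine ⟨fun K _ a Z fst snd hsq => ?_⟩
    haveI : IrreducibleSpace Z := GeometricallyIrreducible.geometrically_irreducibleSpace (f := T.ι ≫ h.fiberToSpecResidueField s) a fst snd hsq
    exact inferInstanceAs (ConnectedSpace Z)
  obtain ⟨S', g, s', haff, hnb, V, hVc, hVconn, hV⟩ := Groth.Agent.S1356.result h s T ‹_›
  refine ⟨S', g, s', haff, hnb, V, hVc, ⟨fun K _ a Z fst snd hsq => ?_⟩, hV⟩
  haveI := hVconn
  haveI : ConnectedSpace Z := GeometricallyConnected.geometrically_connectedSpace (f := V.ι ≫ pullback.snd h g) a fst snd hsq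
  let m : Z ⟶ pullback h (a ≫ g) :=
    pullback.lift (fst ≫ V.ι ≫ pullback.fst h g) snd
      (by rw [Category.assoc, Category.assoc, pullback.condition, reassoc_of% hsq.w])
  haveI : IsOpenImmersion m := by
    let e := (pullbackLeftPullbackSndIso h g a)
    let m' : pullback (V.ι ≫ pullback.snd h g) a ⟶ pullback (pullback.snd h g) a :=
      pullback.map _ _ _ _ V.ι (𝟙 _) (𝟙 _) (by simp) (by simp)
    haveI : IsOpenImmersion m' := by dsimp only [m']; infer_instance
    have : m = hsq.isoPullback.hom ≫ m' ≫ e.hom := by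
      refine pullback.hom_ext ?_ ?_ <;> simp [m, m', e]
    rw [this]
    infer_instance
  have hN := H22Alg.NormalProd.isNormalScheme_of_isOpenImmersion m (isNormalScheme_pullback h hn (a ≫ g))
  haveI : LocallyOfFiniteType snd := MorphismProperty.of_isPullback hsq inferInstance
  haveI : QuasiCompact (V.ι ≫ pullback.snd h g) := by
    haveI : CompactSpace V.toScheme := isCompact_iff_compactSpace.1 hVc
    haveI := haff
    exact (quasiCompact_iff_compactSpace (V.ι ≫ pullback.snd h g)).2 inferInstance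
  haveI : QuasiCompact snd := MorphismProperty.of_isPullback hsq inferInstance
  haveI : IsNoetherian Z := H17.ConsProp.isNoetherian_of_finiteType snd
  exact Groth.Agent.S7862.isIntegral_of_connected Z fun z => (hN z).1

end Groth.Agent.H8Norm.NormalMorphismFibres
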