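import Groth.Agent.H8Props.KoszImm.Regular
import Groth.Agent.H29Slice.QRegular
import Groth.Agent.H8Props.PseudoCoh.TorDim
import Groth.Agent.S2200
import Groth.Agent.H8Props.KoszImm.SyntomicDescent
import Groth.Agent.H8Props.KoszImm.LCI

/-!
# Regular sequences cutting out a quotient of finite tor dimension: both steps of a local complete
intersection over a perfect intermediate step are regular
-/

set_option autoImplicit false
set_option linter.style.haveILetI false
set_option backward.isDefEq.respectTransparency false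

universe u

open IsLocalRing RingTheory.Sequence TensorProduct
open scoped Pointwise
open Groth.Agent.H8Props.KoszImm

namespace Groth.Agent.H8Norm.PerfectPair

/-- Finite tor dimension of a surjection localizes. -/
theorem hasFiniteTorDim_localization {B C : Type u} [CommRing B] [CommRing C] (β : B →+* C)
    (hβ : Function.Surjective β) (hfd : letI := β.toAlgebra; DRing.HasFiniteTorDim B C)
    (Lq : Type u) [CommRing Lq] [Algebra B Lq] (M : Submonoid B) [IsLocalization M Lq] :
    DRing.HasFiniteTorDim Lq (Lq ⧸ (RingHom.ker β).map (algebraMap B Lq)) := by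
  letI := β.toAlgebra
  obtain ⟨d, hd⟩ := hfd
  haveI : Module.Flat B Lq := IsLocalization.flat Lq M
  have h1 : DRing.HasTorDimLE B d (B ⧸ RingHom.ker β) :=
    H8Props.PseudoCoh.hasTorDimLE_of_equiv
      (Ideal.quotientKerAlgEquivOfSurjective (f := Algebra.ofId B C) hβ).toLinearEquiv.symm hd
  exact ⟨d, H8Props.PseudoCoh.hasTorDimLE_of_equiv
    (Algebra.TensorProduct.quotIdealMapEquivTensorQuot Lq (RingHom.ker β)).toLinearEquiv.symm
    (H8Props.PseudoCoh.hasTorDimLE_baseChange (B := Lq) h1)⟩

/-- The local statement: a regular ideal and a smaller ideal with quotient of finite tor dimension. -/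
theorem exists_regular_pair {L Lq : Type u} [CommRing L] [IsLocalRing L] [IsNoetherianRing L] [CommRing Lq]
    (π : L →+* Lq) (hπ : Function.Surjective π) (fs : List L) (hle : RingHom.ker π ≤ Ideal.ofList fs)
    (hfm : ∀ a ∈ fs, a ∈ maximalIdeal L) (hwr : IsWeaklyRegular L fs) (K : Ideal Lq)
    (hK : K = (Ideal.ofList fs).map π) (hfd : DRing.HasFiniteTorDim Lq (Lq ⧸ K)) :
    ∃ (gs : List L) (hs : List Lq), Ideal.ofList gs = RingHom.ker π ∧ Ideal.ofList hs = K ∧
      IsWeaklyRegular L gs ∧ IsWeaklyRegular Lq hs := by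
  let J := Ideal.ofList fs
  have hJ : J ≠ ⊤ := ne_top_of_le_ne_top (maximalIdeal.isMaximal L).ne_top (Ideal.span_le.2 fun a ha => hfm a ha)
  have hreg : RingTheory.Sequence.IsRegular L fs := ⟨hwr, fun h => hJ (by
    rw [smul_eq_mul, Ideal.mul_top] at h
    exact h.symm)⟩
  let e : L ⧸ RingHom.ker π ≃+* Lq := RingHom.quotientKerEquivOfSurjective hπ
  letI : Algebra (L ⧸ RingHom.ker π) (L ⧸ J) := (Ideal.Quotient.factor hle).toAlgebra
  haveI : IsScalarTower L (L ⧸ RingHom.ker π) (L ⧸ J) := .of_algebraMap_eq fun _ => rfl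
  letI : Algebra (L ⧸ RingHom.ker π) Lq := e.toRingHom.toAlgebra
  haveI : Module.Flat (L ⧸ RingHom.ker π) Lq :=
    Module.Flat.of_linearEquiv (LinearEquiv.ofBijective (Algebra.linearMap _ Lq) e.bijective).symm
  obtain ⟨d, hd⟩ := hfd
  have hd' := H8Props.PseudoCoh.hasTorDimLE_restrictScalars (A := L ⧸ RingHom.ker π) hd
  have hθle : J ≤ K.comap π := hK ▸ Ideal.le_comap_map
  let θ : L ⧸ J →+* Lq ⧸ K := Ideal.quotientMap K π hθle
  have hθ : Function.Bijective θ := by
    refine ⟨Ideal.quotientMap_injective' ?_, Ideal.quotientMap_surjective hπ⟩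
    rw [hK, Ideal.comap_map_of_surjective' π hπ, sup_eq_left.mpr hle]
  let eθ : (L ⧸ J) ≃ₗ[L ⧸ RingHom.ker π] (Lq ⧸ K) :=
    { (RingEquiv.ofBijective θ hθ).toAddEquiv with
      map_smul' := fun w z => by
        obtain ⟨w, rfl⟩ := Ideal.Quotient.mk_surjective w
        obtain ⟨z, rfl⟩ := Ideal.Quotient.mk_surjective z
        show Ideal.Quotient.mk K (π (w * z)) = Ideal.Quotient.mk K (π w * π z)
        rw [map_mul] }
  obtain ⟨⟨gs, hgs, hgr⟩, hs, hhs, hhr⟩ := Groth.Agent.S2200.result (RingHom.ker π) J hle hJ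
    ⟨d, H8Props.PseudoCoh.hasTorDimLE_of_equiv eθ.symm hd'⟩ ⟨fs, rfl, hreg⟩
  refine ⟨gs, hs.map (algebraMap _ Lq), hgs, ?_, hgr.toIsWeaklyRegular, ?_⟩
  · rw [← Ideal.map_ofList, hhs, Ideal.map_map, hK]
    exact congrArg (J.map ·) (RingHom.ext fun a => rfl)
  · rw [isWeaklyRegular_map_algebraMap_iff]
    exact (LinearEquiv.isWeaklyRegular_congr (LinearEquiv.ofBijective (Algebra.linearMap _ Lq) e.bijective) hs).1
      hhr.toIsWeaklyRegular

/-- Both steps of a Koszul regular ideal through a quotient of finite tor dimension are Koszul regular. -/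
theorem krAt_pair {P B C : Type u} [CommRing P] [IsNoetherianRing P] [CommRing B]
    [CommRing C] (α : P →+* B) (hα : Function.Surjective α) (β : B →+* C) (hβ : Function.Surjective β)
    (hfd : letI := β.toAlgebra; DRing.HasFiniteTorDim B C)
    (h : LCI.IsKoszulRegularIdeal (RingHom.ker (β.comp α))) (q : PrimeSpectrum B)
    (hq : RingHom.ker β ≤ q.asIdeal) :
    KRAt (RingHom.ker α) (q.asIdeal.comap α) ∧ KRAt (RingHom.ker β) q.asIdeal := by
  classical
  haveI : IsNoetherianRing B := isNoetherianRing_of_surjective P B α hα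
  let Q := q.asIdeal.comap α
  let I := RingHom.ker (β.comp α)
  have hIQ : I ≤ Q := fun a ha => hq ha
  obtain ⟨t₀, ht₀, f, hfI, hf, hIf⟩ :=
    ((isKoszulRegularIdeal_iff I).1 h ⟨Q, inferInstance⟩ hIQ).exists_chart
  let L := Localization.AtPrime Q
  let Lq := Localization.AtPrime q.asIdeal
  let π : L →+* Lq := Localization.localRingHom Q q.asIdeal α rfl
  have hT : Submonoid.map α Q.primeCompl = q.asIdeal.primeCompl := by
    ext z
    constructor
    · rintro ⟨a, ha, rfl⟩; exact ha
    · intro hz
      obtain ⟨a, rfl⟩ := hα z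
      exact ⟨a, hz, rfl⟩
  haveI : IsLocalization (Submonoid.map α Q.primeCompl) Lq := by rw [hT]; infer_instance
  have hπ : Function.Surjective π := IsLocalization.map_surjective_of_surjective _ _ _ hα
  have hker : RingHom.ker π = (RingHom.ker α).map (algebraMap P L) :=
    IsLocalization.ker_map (S := L) Lq α hT
  have hπc : π.comp (algebraMap P L) = (algebraMap B Lq).comp α := IsLocalization.map_comp _
  -- the regular sequence in the local ring
  have hfQ : ∀ a ∈ f, algebraMap P L a ∈ maximalIdeal L := fun a ha =>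
    (IsLocalization.AtPrime.to_map_mem_maximal_iff L Q a).2 (hIQ (hfI a ha))
  have hu : IsUnit (algebraMap P L t₀) := IsLocalization.map_units L (⟨t₀, ht₀⟩ : Q.primeCompl)
  letI : Algebra (Localization.Away t₀) L := (IsLocalization.Away.lift t₀ hu).toAlgebra
  haveI : IsScalarTower P (Localization.Away t₀) L :=
    IsScalarTower.of_algebraMap_eq fun a => (IsLocalization.Away.lift_eq t₀ hu a).symm
  haveI : Module.Flat P L := IsLocalization.flat L Q.primeCompl
  haveI : Module.Flat (Localization.Away t₀) L :=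
    (Module.flat_iff_of_isLocalization (Localization.Away t₀) (Submonoid.powers t₀) L).2 inferInstance
  have hmap : (f.map (algebraMap P (Localization.Away t₀))).map (algebraMap (Localization.Away t₀) L) =
      f.map (algebraMap P L) := by
    rw [List.map_map, ← RingHom.coe_comp, ← IsScalarTower.algebraMap_eq]
  have hfL : LCI.IsKoszulRegularSeq L (f.map (algebraMap P L)) :=
    hmap ▸ H17.KoszulBC.isKoszulRegularSeq_map L hf
  have hIL : I.map (algebraMap P L) = Ideal.ofList (f.map (algebraMap P L)) := by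
    rw [IsScalarTower.algebraMap_eq P (Localization.Away t₀) L, ← Ideal.map_map, hIf, Ideal.map_ofList,
      hmap, ← IsScalarTower.algebraMap_eq]
  have hwr : IsWeaklyRegular L (f.map (algebraMap P L)) := by
    rw [← List.ofFn_get (l := f.map (algebraMap P L))]
    refine H29Slice.isWeaklyRegular_of_isQuasiRegular L _ (fun i => ?_)
      (H17.RegDescent.quasi_of_seq (k := RegImm.Kind.koszul) (by decide) hfL)
    obtain ⟨a, ha, he⟩ := List.mem_map.1 (List.get_mem (f.map (algebraMap P L)) i)
    rw [← he]
    exact maximalIdeal_le_jacobson _ (hfQ a ha)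
  obtain ⟨gs, hs, hgJ, hsI, hgr, hsr⟩ := exists_regular_pair π hπ (f.map (algebraMap P L))
    (by
      rw [hker, ← hIL]
      refine Ideal.map_mono fun a (ha : α a = 0) => ?_
      show β (α a) = 0
      rw [ha, map_zero])
    (fun a ha => by obtain ⟨a, ha', rfl⟩ := List.mem_map.1 ha; exact hfQ a ha') hwr
    ((RingHom.ker β).map (algebraMap B Lq))
    (by
      have e1 : RingHom.ker β = I.map α := by
        rw [show I = (RingHom.ker β).comap α from (RingHom.comap_ker β α).symm,
          Ideal.map_comap_of_surjective α hα]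
      rw [e1, Ideal.map_map, ← hπc, ← Ideal.map_map, hIL])
    (hasFiniteTorDim_localization β hβ hfd Lq q.asIdeal.primeCompl)
  refine ⟨?_, ?_⟩
  · obtain ⟨t, ht, b, hb⟩ := H13CInt.exists_away_isWeaklyRegular Q (RingHom.ker α) gs.get
      (by rw [List.ofFn_get]; exact hgr)
      (by
        rw [← hker, ← hgJ]
        exact congrArg Ideal.span (Set.ext fun z => by simp [List.mem_iff_get]))
    obtain ⟨h1, h2⟩ := hb (Localization.Away t)
    exact ⟨t, ht, List.ofFn (algebraMap P (Localization.Away t) ∘ b),
      H29Slice.isKoszulRegular_of_isWeaklyRegular h2,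
      h1.trans (congrArg Ideal.span (Set.ext fun z => List.mem_ofFn.symm))⟩
  · have hr : IsWeaklyRegular Lq hs := hsr
    have hI' : (RingHom.ker β).map (algebraMap B Lq) = Ideal.ofList hs := hsI.symm
    obtain ⟨t, ht, b, hb⟩ := H13CInt.exists_away_isWeaklyRegular q.asIdeal (RingHom.ker β) hs.get
      (by rw [List.ofFn_get]; exact hr)
      (by rw [hI']; exact congrArg Ideal.span (Set.ext fun z => List.mem_iff_get))
    obtain ⟨h1, h2⟩ := hb (Localization.Away t)
    exact ⟨t, ht, List.ofFn (algebraMap B (Localization.Away t) ∘ b),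
      H29Slice.isKoszulRegular_of_isWeaklyRegular h2,
      h1.trans (congrArg Ideal.span (Set.ext fun z => List.mem_ofFn.symm))⟩

open AlgebraicGeometry CategoryTheory in
/-- A point of the closed subscheme at which the kernel of a presentation is Koszul-regular is Koszul. -/
theorem isKoszulAt_Spec_of_krAt {R P B : Type u} [CommRing R] [CommRing P] [CommRing B] [Algebra R P]
    [Algebra.Smooth R P] [Algebra R B] [Algebra.FiniteType R B] (α : P →ₐ[R] B) (hα : Function.Surjective α)
    (z : Spec (CommRingCat.of B))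
    (h : H8Props.KoszImm.KRAt (RingHom.ker α.toRingHom) (z.asIdeal.comap α.toRingHom)) :
    Synt.IsKoszulAt (Spec.map (CommRingCat.ofHom (algebraMap R B))) z := by
  haveI : IsClosedImmersion (Spec.map (CommRingCat.ofHom α.toRingHom)) :=
    IsClosedImmersion.spec_of_surjective _ hα
  haveI : Smooth (Spec.map (CommRingCat.ofHom (algebraMap R P))) :=
    (HasRingHomProperty.Spec_iff (P := @Smooth)).2 (RingHom.smooth_algebraMap.2 inferInstance)
  haveI : LocallyOfFiniteType (Spec.map (CommRingCat.ofHom (algebraMap R B))) :=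
    (HasRingHomProperty.Spec_iff (P := @LocallyOfFiniteType)).2 (RingHom.finiteType_algebraMap.2 inferInstance)
  refine H8Props.KoszImm.isKoszulAt_of_regAt _ (Spec.map (CommRingCat.ofHom α.toRingHom))
    (Spec.map (CommRingCat.ofHom (algebraMap R P))) ?_ z
    ((H8Props.KoszImm.regAt_Spec_iff (CommRingCat.ofHom α.toRingHom) hα z).2 h)
  rw [← Spec.map_comp, ← CommRingCat.ofHom_comp]
  congr 2
  exact α.comp_algebraMap

end Groth.Agent.H8Norm.PerfectPair
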