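import Groth.Agent.H1WE.StrictHensAgree
import Groth.Agent.H1WE.Contractible
import Groth.Agent.H06EGA14.UnibranchEquiv
import Groth.Agent.H25Div.LocalSpec
import Groth.Agent.S0538
import Groth.Agent.S0540
import Groth.Agent.H05EGA4.CodepthLocal
import Groth.Agent.S2135
import Mathlib.RingTheory.Spectrum.Prime.Topology

/-!
# Geometric unibranchness through punctured strictly henselian spectra
-/

set_option autoImplicit false
set_option linter.style.haveILetI false
set_option backward.isDefEq.respectTransparency false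
universe u

open CategoryTheory AlgebraicGeometry TopologicalSpace IsLocalRing

namespace Groth.Agent.H8Norm.PuncturedUnibranch

/-- The localization of a strict henselization at a prime has a unique minimal prime when the base
localization is geometrically unibranch. -/
theorem hasUniqueMinimalPrime_atPrime {A S : Type u} [CommRing A] [IsLocalRing A] [CommRing S] [IsLocalRing S]
    [Algebra A S] [IsLocalHom (algebraMap A S)] [Hensel.IsStrictHenselization A S]
    (p : Ideal A) [p.IsPrime] (q : Ideal S) [q.IsPrime] (hq : q.comap (algebraMap A S) = p)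
    (hU : CAlg2.IsGeomUnibranch (Localization.AtPrime p)) :
    CAlgX.HasUniqueMinimalPrime (Localization.AtPrime q) := by
  let B := Localization.AtPrime q
  let φ := Localization.localRingHom p q (algebraMap A S) hq.symm
  letI : Algebra (Localization.AtPrime p) B := φ.toAlgebra
  haveI : IsScalarTower A (Localization.AtPrime p) B := IsScalarTower.of_algebraMap_eq fun a => by
    show algebraMap A B a = φ (algebraMap A _ a)
    rw [Localization.localRingHom_to_map, ← IsScalarTower.algebraMap_apply]
  haveI : IsLocalHom (algebraMap (Localization.AtPrime p) B) :=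
    inferInstanceAs (IsLocalHom (Localization.localRingHom p q (algebraMap A S) hq.symm))
  haveI : Algebra.WeaklyEtale A S := Groth.Agent.S0736.result A S (Groth.Agent.S12237.result A S)
  haveI : Algebra.WeaklyEtale S B := H1WE.weaklyEtale_of_isLocalization q.primeCompl B
  haveI : Algebra.WeaklyEtale A B := Algebra.WeaklyEtale.trans A S B
  haveI : Algebra.WeaklyEtale A (Localization.AtPrime p) :=
    H1WE.weaklyEtale_of_isLocalization p.primeCompl (Localization.AtPrime p)
  haveI : Algebra.WeaklyEtale (Localization.AtPrime p) B :=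
    Groth.Agent.S7127.result A (Localization.AtPrime p) B
  obtain ⟨R, _, _, _, _, hR⟩ := Groth.Agent.S0537.result B
  haveI := hR
  letI : Algebra (Localization.AtPrime p) R :=
    ((algebraMap B R).comp (algebraMap (Localization.AtPrime p) B)).toAlgebra
  haveI : IsScalarTower (Localization.AtPrime p) B R := IsScalarTower.of_algebraMap_eq' rfl
  haveI : IsLocalHom (algebraMap (Localization.AtPrime p) R) :=
    RingHom.isLocalHom_comp (algebraMap B R) (algebraMap (Localization.AtPrime p) B)
  haveI := H1WE.isStrictHenselization_of_weaklyEtale (Localization.AtPrime p) B R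
  obtain ⟨P, hP, huniq⟩ := (Groth.Agent.S2135.result (A := Localization.AtPrime p) (Ash := R)).1 hU
  haveI : Module.FaithfullyFlat B R := Groth.Agent.S0539.result B R
  have key : ∀ Q ∈ minimalPrimes B, Q = P.comap (algebraMap B R) := fun Q hQ => by
    haveI : Q.IsPrime := hQ.1.1
    obtain ⟨Q', hQ'⟩ := PrimeSpectrum.comap_surjective_of_faithfullyFlat (A := B) (B := R) ⟨Q, inferInstance⟩
    obtain ⟨M, hM, hMle⟩ := Ideal.exists_minimalPrimes_le (bot_le : (⊥ : Ideal R) ≤ Q'.asIdeal)
    rw [huniq M hM] at hMle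
    haveI := hP.1.1
    refine le_antisymm (hQ.2 ⟨inferInstance, bot_le⟩ ?_) ?_
    · exact (Ideal.comap_mono hMle).trans (le_of_eq (congrArg PrimeSpectrum.asIdeal hQ'))
    · exact (Ideal.comap_mono hMle).trans (le_of_eq (congrArg PrimeSpectrum.asIdeal hQ'))
  obtain ⟨Q, hQ⟩ := Ideal.nonempty_minimalPrimes (I := (⊥ : Ideal B)) bot_ne_top
  exact ⟨Q, hQ, fun Q' hQ' => (key Q' hQ').trans (key Q hQ).symm⟩

/-- The punctured strictly henselian spectrum of a geometrically unibranch ring is connected. -/
theorem connectedSpace_of_unique {S : Type u} [CommRing S] [IsLocalRing S] (h : CAlgX.HasUniqueMinimalPrime S)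
    (q : PrimeSpectrum S) (hq : q ≠ closedPoint S) :
    ConnectedSpace ↥({closedPoint S}ᶜ : Set (PrimeSpectrum S)) := by
  obtain ⟨P, hP, huniq⟩ := h
  haveI := hP.1.1
  let x : PrimeSpectrum S := ⟨P, inferInstance⟩
  have hle : ∀ z : PrimeSpectrum S, P ≤ z.asIdeal := fun z => by
    obtain ⟨M, hM, hMle⟩ := Ideal.exists_minimalPrimes_le (bot_le : (⊥ : Ideal S) ≤ z.asIdeal)
    exact huniq M hM ▸ hMle
  have hx : x ≠ closedPoint S := fun h => hq (PrimeSpectrum.ext (le_antisymm
    (le_maximalIdeal q.2.ne_top) ((congrArg PrimeSpectrum.asIdeal h).ge.trans (hle q))))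
  refine isConnected_iff_connectedSpace.1 ⟨⟨x, hx⟩, isPreconnected_singleton.subset_closure
    (Set.singleton_subset_iff.2 hx) fun z _ => ?_⟩
  exact ((PrimeSpectrum.le_iff_specializes x z).1 (hle z)).mem_closure

/-- The converse, given the proper localizations. -/
theorem hasUniqueMinimalPrime_of_connected {A S : Type u} [CommRing A] [IsLocalRing A] [IsNoetherianRing A]
    [CommRing S] [IsLocalRing S] [Algebra A S] [IsLocalHom (algebraMap A S)] [Hensel.IsStrictHenselization A S]
    (hloc : ∀ (p : Ideal A) [p.IsPrime], p ≠ maximalIdeal A → CAlg2.IsGeomUnibranch (Localization.AtPrime p))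
    (hconn : ConnectedSpace ↥({closedPoint S}ᶜ : Set (PrimeSpectrum S))) :
    CAlgX.HasUniqueMinimalPrime S := by
  haveI : IsNoetherianRing S := (Groth.Agent.S0540.result A S).1 inferInstance
  obtain ⟨P₁, hP₁⟩ := Ideal.nonempty_minimalPrimes (I := (⊥ : Ideal S)) bot_ne_top
  refine ⟨P₁, hP₁, fun P₂ hP₂ => ?_⟩
  by_contra hne
  haveI := hP₁.1.1
  haveI := hP₂.1.1
  have hnotmax : ∀ P P' : Ideal S, P ∈ minimalPrimes S → P' ∈ minimalPrimes S → P' ≠ P → P ≠ maximalIdeal S :=
    fun P P' hP hP' h he => h (le_antisymm (he ▸ le_maximalIdeal hP'.1.1.ne_top)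
      (hP.2 ⟨hP'.1.1, bot_le⟩ (he ▸ le_maximalIdeal hP'.1.1.ne_top)))
  let U : Set (PrimeSpectrum S) := {closedPoint S}ᶜ
  have hmem : ∀ (P : Ideal S) [P.IsPrime] , P ≠ maximalIdeal S → (⟨P, ‹_›⟩ : PrimeSpectrum S) ∈ U :=
    fun P _ hP h => hP (congrArg PrimeSpectrum.asIdeal h)
  let others : Set (Ideal S) := minimalPrimes S \ {P₁}
  have hfin : others.Finite := (minimalPrimes.finite_of_isNoetherianRing S).sdiff
  obtain ⟨q, hqU, hq₁, hq₂⟩ := isPreconnected_closed_iff.1 (isConnected_iff_connectedSpace.2 hconn).isPreconnected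
    (PrimeSpectrum.zeroLocus (P₁ : Set S)) (⋃ P ∈ others, PrimeSpectrum.zeroLocus ((P : Ideal S) : Set S))
    (PrimeSpectrum.isClosed_zeroLocus _) (hfin.isClosed_biUnion fun _ _ => PrimeSpectrum.isClosed_zeroLocus _)
    (fun z _ => by
      obtain ⟨M, hM, hMle⟩ := Ideal.exists_minimalPrimes_le (bot_le : (⊥ : Ideal S) ≤ z.asIdeal)
      by_cases h : M = P₁
      · exact Or.inl (h ▸ hMle)
      · exact Or.inr (Set.mem_iUnion₂.2 ⟨M, ⟨hM, h⟩, hMle⟩))
    ⟨⟨P₁, inferInstance⟩, hmem P₁ (hnotmax P₁ P₂ hP₁ hP₂ hne), Set.Subset.rfl⟩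
    ⟨⟨P₂, inferInstance⟩, hmem P₂ (hnotmax P₂ P₁ hP₂ hP₁ (Ne.symm hne)),
      Set.mem_iUnion₂.2 ⟨P₂, ⟨hP₂, hne⟩, Set.Subset.rfl⟩⟩
  obtain ⟨P, ⟨hP, hPne⟩, hPq⟩ := Set.mem_iUnion₂.1 hq₂
  haveI := hP.1.1
  haveI := q.2
  let p := q.asIdeal.comap (algebraMap A S)
  have hp : p ≠ maximalIdeal A := fun he => hqU (PrimeSpectrum.ext (le_antisymm (le_maximalIdeal q.2.ne_top) (by
    show maximalIdeal S ≤ q.asIdeal
    rw [← Groth.Agent.S0538.result A S, Ideal.map_le_iff_le_comap, ← he])))
  obtain ⟨M, -, hM⟩ := hasUniqueMinimalPrime_atPrime p q.asIdeal rfl (hloc p hp)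
  have key : ∀ (Q : Ideal S) [Q.IsPrime], Q ∈ minimalPrimes S → Q ≤ q.asIdeal →
      Q = M.comap (algebraMap S (Localization.AtPrime q.asIdeal)) := fun Q _ hQ hle => by
    have hd : Disjoint (q.asIdeal.primeCompl : Set S) Q := Set.disjoint_left.2 fun s hs hsQ => hs (hle hsQ)
    have h1 : (Q.map (algebraMap S (Localization.AtPrime q.asIdeal))) ∈ minimalPrimes (Localization.AtPrime q.asIdeal) := by
      haveI : (Q.map (algebraMap S (Localization.AtPrime q.asIdeal))).IsPrime :=
        IsLocalization.isPrime_of_isPrime_disjoint q.asIdeal.primeCompl _ Q inferInstance hd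
      refine ⟨⟨inferInstance, bot_le⟩, fun N hN hNQ => ?_⟩
      haveI := hN.1
      have h2 := hQ.2 ⟨inferInstance, bot_le⟩ ((Ideal.comap_mono hNQ).trans
        (IsLocalization.under_map_of_isPrime_disjoint q.asIdeal.primeCompl _ ‹Q.IsPrime› hd).le)
      exact Ideal.map_le_iff_le_comap.2 h2
    rw [← hM _ h1]
    exact (IsLocalization.under_map_of_isPrime_disjoint q.asIdeal.primeCompl _ ‹Q.IsPrime› hd).symm
  exact hPne ((key P hP hPq).trans (key P₁ hP₁ hq₁).symm)

/-- The scheme statement. -/
theorem iff_connected (X : Scheme.{u}) [IsLocallyNoetherian X] :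
    (∀ x : X, CAlg2.IsGeomUnibranch (X.presheaf.stalk x)) ↔
      ∀ (x : X), closure ({x} : Set X) ∉ irreducibleComponents X →
        ∀ (Ash : Type u) [CommRing Ash] [IsLocalRing Ash] [Algebra (X.presheaf.stalk x) Ash]
          [IsLocalHom (algebraMap (X.presheaf.stalk x) Ash)]
          [Hensel.IsStrictHenselization (X.presheaf.stalk x) Ash],
          ConnectedSpace ↥({IsLocalRing.closedPoint Ash}ᶜ : Set (PrimeSpectrum Ash)) := by
  constructor
  · intro h x hx S _ _ _ _ _
    have hmax : ¬ Maximal IsIrreducible (closure ({x} : Set X)) := hx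
    obtain ⟨C, hC, hxC⟩ : ∃ C ∈ irreducibleComponents X, closure ({x} : Set X) ⊆ C :=
      exists_mem_irreducibleComponents_subset_of_isIrreducible _ isIrreducible_singleton.closure
    let y := hC.1.genericPoint
    have hy : y ⤳ x := hC.1.isGenericPoint_genericPoint (isClosed_of_mem_irreducibleComponents C hC)
      |>.specializes (hxC (subset_closure rfl))
    have hyx : y ≠ x := fun he => hx (by
      have := hC.1.isGenericPoint_genericPoint (isClosed_of_mem_irreducibleComponents C hC)
      rw [← he, show closure ({y} : Set X) = C from this.def]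
      exact hC)
    obtain ⟨z, hz⟩ : y ∈ Set.range (X.fromSpecStalk x) := by rw [Scheme.range_fromSpecStalk]; exact hy
    haveI : Module.FaithfullyFlat (X.presheaf.stalk x) S := Groth.Agent.S0539.result _ S
    obtain ⟨q, hq⟩ := PrimeSpectrum.comap_surjective_of_faithfullyFlat (A := X.presheaf.stalk x) (B := S) z
    refine connectedSpace_of_unique ((Groth.Agent.S2135.result (Ash := S)).1 (h x)) q fun he => hyx ?_
    have hz' : z = closedPoint (X.presheaf.stalk x) := by
      rw [← hq, he]
      exact IsLocalRing.comap_closedPoint (algebraMap (X.presheaf.stalk x) S)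
    rw [← hz, hz', Scheme.fromSpecStalk_closedPoint]
  · intro h
    suffices key : ∀ (n : ℕ) (x : X), ringKrullDim (X.presheaf.stalk x) ≤ n →
        CAlg2.IsGeomUnibranch (X.presheaf.stalk x) by
      intro x
      obtain ⟨n, hn⟩ := H05EGA4.exists_nat_ringKrullDim (X.presheaf.stalk x)
      exact key n x hn.le
    intro n
    induction n using Nat.strong_induction_on with
    | _ n ih =>
      intro x hn
      obtain ⟨S, _, _, _, _, hS⟩ := Groth.Agent.S0537.result (X.presheaf.stalk x)
      haveI := hS
      haveI : IsNoetherianRing S := (Groth.Agent.S0540.result (X.presheaf.stalk x) S).1 inferInstance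
      rw [Groth.Agent.S2135.result (Ash := S)]
      have hloc : ∀ (p : Ideal (X.presheaf.stalk x)) [p.IsPrime], p ≠ maximalIdeal (X.presheaf.stalk x) →
          CAlg2.IsGeomUnibranch (Localization.AtPrime p) := fun p _ hp => by
        let z : Spec (X.presheaf.stalk x) := ⟨p, inferInstance⟩
        haveI := H25Div.isIso_stalkMap_fromSpecStalk x z
        let e : X.presheaf.stalk (X.fromSpecStalk x z) ≃+* Localization.AtPrime p :=
          (asIso ((X.fromSpecStalk x).stalkMap z)).commRingCatIsoToRingEquiv.trans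
            (StructureSheaf.stalkIso (X.presheaf.stalk x) z).symm.toRingEquiv
        have hlt : ringKrullDim (Localization.AtPrime p) < ringKrullDim (X.presheaf.stalk x) := by
          rw [IsLocalization.AtPrime.ringKrullDim_eq_height p, ← IsLocalRing.maximalIdeal_height_eq_ringKrullDim]
          exact WithBot.coe_lt_coe.2 (Ideal.height_strict_mono_of_isPrime (lt_of_le_of_ne (le_maximalIdeal ‹p.IsPrime›.ne_top) hp))
        obtain ⟨k, hk⟩ : ∃ k : ℕ, ringKrullDim (Localization.AtPrime p) = k := H05EGA4.exists_nat_ringKrullDim _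
        have hkn : k < n := by exact_mod_cast hk ▸ hlt.trans_le hn
        exact H06EGA14.isGeomUnibranch_of_ringEquiv e
          (ih k hkn (X.fromSpecStalk x z) (by rw [ringKrullDim_eq_of_ringEquiv e, hk]))
      by_cases hx : closure ({x} : Set X) ∈ irreducibleComponents X
      · obtain ⟨P, hP⟩ := Ideal.nonempty_minimalPrimes (I := (⊥ : Ideal S)) bot_ne_top
        refine ⟨P, hP, fun P' hP' => ?_⟩
        have hsing : ∀ z : Spec (X.presheaf.stalk x), z = closedPoint (X.presheaf.stalk x) := fun z => by
          have h1 : X.fromSpecStalk x z ⤳ x := (Scheme.range_fromSpecStalk).le ⟨z, rfl⟩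
          refine (X.fromSpecStalk x).isEmbedding.injective ?_
          rw [Scheme.fromSpecStalk_closedPoint]
          refine (h1.antisymm (specializes_iff_mem_closure.2 ?_)).eq
          exact hx.2 isIrreducible_singleton.closure
            (closure_minimal (Set.singleton_subset_iff.2 h1.mem_closure) isClosed_closure) (subset_closure rfl)
        have hall : ∀ Q : Ideal S, Q.IsPrime → Q = maximalIdeal S := fun Q hQ => by
          have := congrArg PrimeSpectrum.asIdeal (hsing ⟨Q.comap (algebraMap (X.presheaf.stalk x) S), inferInstance⟩)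
          refine le_antisymm (le_maximalIdeal hQ.ne_top) ?_
          rw [← Groth.Agent.S0538.result (X.presheaf.stalk x) S, Ideal.map_le_iff_le_comap]
          exact this.ge
        rw [hall P' hP'.1.1, hall P hP.1.1]
      · exact hasUniqueMinimalPrime_of_connected hloc (h x hx S)

end Groth.Agent.H8Norm.PuncturedUnibranch
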