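import Groth.Agent.H8Props.PushoutProps.BaseChange
import Groth.Agent.H8Props.FlatKernel
import Groth.Agent.H28Pinch.BaseChange
import Groth.Agent.H28Pinch.Glued
import Groth.Agent.H7Flat.AdaptedPairs

/-!
# Pushouts along closed immersions and finite flat maps, relative to a base
-/

set_option autoImplicit false
set_option linter.style.haveILetI false
set_option backward.isDefEq.respectTransparency false

universe u

open CategoryTheory Limits AlgebraicGeometry TopologicalSpace Opposite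

namespace Groth.Agent.H8Norm.PushoutFlat

open Groth.Agent.H7Flat Groth.Agent.H28Pinch

/-- A fibre product of flat algebras over a flat algebra along a surjection is flat. -/
theorem ringSq_flat {A R A' B C : Type u} [CommRing A] [CommRing R] [CommRing A'] [CommRing B] [CommRing C]
    {pa : R →+* A'} {pb : R →+* B} {p : A' →+* C} {q : B →+* C} (h : RingSq pa pb p q) (φ : A →+* R)
    (hA : (pa.comp φ).Flat) (hB : (pb.comp φ).Flat) (hC : (p.comp (pa.comp φ)).Flat) : φ.Flat := by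
  letI := φ.toAlgebra
  letI := (pa.comp φ).toAlgebra
  letI := (pb.comp φ).toAlgebra
  letI := (p.comp (pa.comp φ)).toAlgebra
  haveI : Module.Flat A A' := hA
  haveI : Module.Flat A B := hB
  haveI : Module.Flat A C := hC
  let aa : R →ₐ[A] A' := { pa with commutes' := fun _ => rfl }
  let bb : R →ₐ[A] B := { pb with commutes' := fun _ => rfl }
  let pp : A' →ₐ[A] C := { p with commutes' := fun _ => rfl }
  let qq : B →ₐ[A] C := { q with commutes' := fun z => (h.comm (φ z)).symm }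
  let g : R →ₗ[A] A' × B := aa.toLinearMap.prod bb.toLinearMap
  let f : A' × B →ₗ[A] C := pp.toLinearMap ∘ₗ LinearMap.fst A A' B - qq.toLinearMap ∘ₗ LinearMap.snd A A' B
  have hg : Function.Injective g := fun z z' e => h.ext z z' (congrArg Prod.fst e) (congrArg Prod.snd e)
  have hex : Function.Exact g f := fun w => by
    constructor
    · intro hw
      obtain ⟨z, h1, h2⟩ := h.exists_lift w.1 w.2 (sub_eq_zero.mp hw)
      exact ⟨z, Prod.ext h1 h2⟩
    · rintro ⟨z, rfl⟩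
      exact sub_eq_zero.mpr (h.comm z)
  have hf : Function.Surjective f := fun c => by
    obtain ⟨x, hx⟩ := h.surj c
    refine ⟨(x, 0), ?_⟩
    show p x - q 0 = c
    rw [map_zero, sub_zero, hx]
  exact H8Props.flat_of_exact g f hg hex hf

variable {S X Y Y' P : Scheme.{u}} (i : Y ⟶ X) [IsClosedImmersion i] (h : Y ⟶ Y') (a : X ⟶ P) (b : Y' ⟶ P)

theorem flat_chart_comp {hcov : ∀ y : Y', ∃ π : AP i h, y ∈ π.V} (e : glued i h ≅ P) (sP : P ⟶ S)
    [Flat ((inX hcov ≫ e.hom) ≫ sP)] [Flat ((inY hcov ≫ e.hom) ≫ sP)]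
    [Flat (i ≫ (inX hcov ≫ e.hom) ≫ sP)] (π : AP i h) : Flat (chart i h π ≫ e.hom ≫ sP) := by
  have local_ : ∀ r : PrimeSpectrum π.R, ∃ (C : Scheme.{u}) (α : C ⟶ Spec (CommRingCat.of π.R)),
      IsOpenImmersion α ∧ r ∈ Set.range α ∧ Flat (α ≫ chart i h π ≫ e.hom ≫ sP) := by
    intro r
    let m : Spec (CommRingCat.of π.R) ⟶ S := chart i h π ≫ e.hom ≫ sP
    obtain ⟨V, hV, hrV, -⟩ := exists_isAffineOpen_mem_and_subset (X := S) (x := m r) (U := ⊤) trivial
    have hma : sm π.pa ≫ m = π.hU.fromSpec ≫ (inX hcov ≫ e.hom) ≫ sP := by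
      simp only [m, Category.assoc]
      rw [← Category.assoc, ← fromSpec_inX hcov π, Category.assoc]
    have hmb : sm π.pb ≫ m = π.hV.fromSpec ≫ (inY hcov ≫ e.hom) ≫ sP := by
      simp only [m, Category.assoc]
      rw [← Category.assoc, ← fromSpec_inY hcov π, Category.assoc]
    obtain ⟨ε, hε, h1, h2⟩ := π.exists_basic_of_opens
      (((inX hcov ≫ e.hom) ≫ sP) ⁻¹ᵁ V) (((inY hcov ≫ e.hom) ≫ sP) ⁻¹ᵁ V)
      (fun z _ => by
        show ((inX hcov ≫ e.hom) ≫ sP) (i z) ∈ V ↔ ((inY hcov ≫ e.hom) ≫ sP) (h z) ∈ V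
        rw [← Scheme.Hom.comp_apply, ← Scheme.Hom.comp_apply, ← Category.assoc, ← Category.assoc,
          ← Category.assoc, inX_comm hcov]
        simp only [Category.assoc]) r (by
      obtain ⟨β, hβ⟩ | ⟨α, hα, -⟩ := π.ringSq.exists_preimage r
      · refine .inr ⟨β, ?_, hβ⟩
        show ((inY hcov ≫ e.hom) ≫ sP) (π.hV.fromSpec β) ∈ V
        rw [← Scheme.Hom.comp_apply, ← hmb, Scheme.Hom.comp_apply]
        show m (PrimeSpectrum.comap π.pb β) ∈ V
        rw [hβ]
        exact hrV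
      · refine .inl ⟨α, ?_, hα⟩
        show ((inX hcov ≫ e.hom) ≫ sP) (π.hU.fromSpec α) ∈ V
        rw [← Scheme.Hom.comp_apply, ← hma, Scheme.Hom.comp_apply]
        show m (PrimeSpectrum.comap π.pa α) ∈ V
        rw [hα]
        exact hrV)
    let π₀ := π.basic ε
    refine ⟨_, sm (AP.res (π.basic_le ε)), π.isOpenImmersion_res_basic ε, (π.range_res_basic ε).ge hε, ?_⟩
    rw [← Category.assoc, chart_res i h (π.basic_le ε)]
    let m₀ : Spec (CommRingCat.of π₀.R) ⟶ S := chart i h π₀ ≫ e.hom ≫ sP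
    have hma₀ : sm π₀.pa ≫ m₀ = π₀.hU.fromSpec ≫ (inX hcov ≫ e.hom) ≫ sP := by
      simp only [m₀, Category.assoc]
      rw [← Category.assoc, ← fromSpec_inX hcov π₀, Category.assoc]
    have hmb₀ : sm π₀.pb ≫ m₀ = π₀.hV.fromSpec ≫ (inY hcov ≫ e.hom) ≫ sP := by
      simp only [m₀, Category.assoc]
      rw [← Category.assoc, ← fromSpec_inY hcov π₀, Category.assoc]
    have hrange : Set.range m₀ ⊆ Set.range hV.fromSpec := by
      rw [hV.range_fromSpec]
      rintro _ ⟨x, rfl⟩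
      obtain ⟨β, hβ⟩ | ⟨α, hα, -⟩ := π₀.ringSq.exists_preimage x
      · rw [← hβ, show m₀ (PrimeSpectrum.comap π₀.pb β) = (sm π₀.pb ≫ m₀) β from rfl, hmb₀]
        exact h2 (π₀.hV.range_fromSpec.le ⟨β, rfl⟩)
      · rw [← hα, show m₀ (PrimeSpectrum.comap π₀.pa α) = (sm π₀.pa ≫ m₀) α from rfl, hma₀]
        exact h1 (π₀.hU.range_fromSpec.le ⟨α, rfl⟩)
    obtain ⟨φ, hφ⟩ : ∃ φ : Γ(S, V) ⟶ CommRingCat.of π₀.R, Spec.map φ ≫ hV.fromSpec = m₀ := by
      refine ⟨Spec.preimage (IsOpenImmersion.lift hV.fromSpec m₀ hrange), ?_⟩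
      rw [Spec.map_preimage, IsOpenImmersion.lift_fac]
    have key : ∀ {T : Type u} [CommRing T] (u : π₀.R →+* T) {W : Scheme.{u}}
        (o : Spec (CommRingCat.of T) ⟶ W) [IsOpenImmersion o] (k : W ⟶ S) [Flat k],
        sm u ≫ m₀ = o ≫ k → (u.comp φ.hom).Flat := by
      intro T _ u W o _ k _ he
      haveI : Flat (Spec.map (CommRingCat.ofHom (u.comp φ.hom)) ≫ hV.fromSpec) := by
        have e1 : Spec.map (CommRingCat.ofHom (u.comp φ.hom)) = sm u ≫ Spec.map φ := by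
          rw [sm, ← Spec.map_comp]; rfl
        rw [e1, Category.assoc, hφ, he]
        infer_instance
      haveI : Flat (Spec.map (CommRingCat.ofHom (u.comp φ.hom))) := flat_of_comp_openImmersion _ hV.fromSpec
      exact (HasRingHomProperty.Spec_iff (P := @Flat)).mp ‹Flat (Spec.map (CommRingCat.ofHom (u.comp φ.hom)))›
    have hA : (π₀.pa.comp φ.hom).Flat := key π₀.pa π₀.hU.fromSpec _ hma₀
    have hB : (π₀.pb.comp φ.hom).Flat := key π₀.pb π₀.hV.fromSpec _ hmb₀
    have hC : (π₀.p.comp (π₀.pa.comp φ.hom)).Flat := by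
      have := key (π₀.p.comp π₀.pa) π₀.hW.fromSpec (i ≫ (inX hcov ≫ e.hom) ≫ sP) (by
        rw [sm_comp, Category.assoc, hma₀, ← Category.assoc, π₀.fromSpec_p, Category.assoc])
      rwa [RingHom.comp_assoc] at this
    haveI : Flat (Spec.map φ) := (HasRingHomProperty.Spec_iff (P := @Flat)).mpr
      (ringSq_flat π₀.ringSq φ.hom hA hB hC)
    show Flat m₀
    rw [← hφ]
    infer_instance
  choose C α hα hr hfl using local_
  exact IsZariskiLocalAtSource.of_openCover (Scheme.Cover.mkOfCovers (PrimeSpectrum π.R) C α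
    (fun r => ⟨r, hr r⟩) hα) hfl

theorem flat_of_isPushout [IsAffineHom a] (hP : IsPushout i h a b)
    (hcov : ∀ y : Y', ∃ π : AP i h, y ∈ π.V)
    (sP : P ⟶ S) [Flat (a ≫ sP)] [Flat (b ≫ sP)] [Flat (i ≫ a ≫ sP)] : Flat sP := by
  obtain ⟨e, ha, hb⟩ := exists_iso_glued a b hP hcov
  subst ha hb
  rw [← MorphismProperty.cancel_left_of_respectsIso @Flat e.hom sP]
  exact IsZariskiLocalAtSource.of_openCover (Scheme.IsLocallyDirected.openCover (chartFunctor i h))
    fun π => flat_chart_comp i h e sP π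

theorem main {S X Y Y' P T XT YT Y'T PT : Scheme.{u}}
    (i : Y ⟶ X) [IsClosedImmersion i] (h : Y ⟶ Y') [IsFinite h] [Flat h] [Surjective h]
    (q : X ⟶ P) [IsAffineHom q] (j : Y' ⟶ P) (hP : IsPushout i h q j)
    (sP : P ⟶ S) [Flat (q ≫ sP)] [Flat (j ≫ sP)] (g : T ⟶ S)
    (pP : PT ⟶ P) (sPT : PT ⟶ T) (hPT : IsPullback pP sPT sP g)
    (pX : XT ⟶ X) (qT : XT ⟶ PT) (hXT : IsPullback pX qT q pP)
    (pY' : Y'T ⟶ Y') (jT : Y'T ⟶ PT) (hY'T : IsPullback pY' jT j pP)
    (pY : YT ⟶ Y) (iT : YT ⟶ XT) (hYT : IsPullback pY iT i pX)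
    (hT : YT ⟶ Y'T) (hhT₁ : hT ≫ pY' = pY ≫ h) (hhT₂ : hT ≫ jT = iT ≫ qT) :
    Flat sP ∧ IsPushout iT hT qT jT := by
  have haff : ∀ y : Y', ∃ U : X.Opens, IsAffineOpen U ∧ h ⁻¹' {y} ⊆ i ⁻¹' (U : Set X) := fun y => by
    obtain ⟨W, hW, hyW, -⟩ := exists_isAffineOpen_mem_and_subset (X := P) (x := j y) (U := ⊤) trivial
    refine ⟨q ⁻¹ᵁ W, hW.preimage q, fun z hz => ?_⟩
    show q (i z) ∈ W
    rw [← Scheme.Hom.comp_apply, hP.w, Scheme.Hom.comp_apply, show h z = y from hz]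
    exact hyW
  have hcov : ∀ y : Y', ∃ π : AP i h, y ∈ π.V := exists_adapted_pair i h haff
  haveI hmflat : Flat (i ≫ q ≫ sP) := by rw [hP.w_assoc]; infer_instance
  refine ⟨flat_of_isPushout i h q j hP hcov sP, ?_⟩
  obtain ⟨e, he1, he2⟩ := exists_iso_glued q j hP hcov
  haveI hj : IsClosedImmersion j := by
    rw [← he2]
    haveI := inY_isClosedImmersion hcov
    infer_instance
  have hbc := H8Props.PushoutProps.isPushout_baseChange_corner (ι := i) (ξ := h) (a := q) (b := j)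
    hP sP (i ≫ q ≫ sP) rfl g
  have hX' : IsPullback pX (qT ≫ sPT) (q ≫ sP) g := hXT.paste_vert hPT
  have hY'' : IsPullback pY' (jT ≫ sPT) (j ≫ sP) g := hY'T.paste_vert hPT
  have hY : IsPullback pY (iT ≫ qT ≫ sPT) (i ≫ q ≫ sP) g := hYT.paste_vert hX'
  refine hbc.of_iso hY.isoPullback.symm hX'.isoPullback.symm hY''.isoPullback.symm hPT.isoPullback.symm ?_ ?_ ?_ ?_
  · rw [← cancel_epi hY.isoPullback.hom, ← cancel_mono hX'.isoPullback.hom]
    refine pullback.hom_ext ?_ ?_ <;> simp [hYT.w]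
  · rw [← cancel_epi hY.isoPullback.hom, ← cancel_mono hY''.isoPullback.hom]
    refine pullback.hom_ext ?_ ?_
    · simp [hhT₁]
    · simp [reassoc_of% hhT₂]
  · rw [← cancel_epi hX'.isoPullback.hom, ← cancel_mono hPT.isoPullback.hom]
    refine pullback.hom_ext ?_ ?_ <;> simp [hXT.w]
  · rw [← cancel_epi hY''.isoPullback.hom, ← cancel_mono hPT.isoPullback.hom]
    refine pullback.hom_ext ?_ ?_ <;> simp [hY'T.w]

end Groth.Agent.H8Norm.PushoutFlat
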