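import Groth.Agent.H8Norm.AssSpecAlg
import Groth.Agent.H8Props.FlatGen.Basic
import Groth.Agent.H8Props.RelAssBC.Scheme
import Groth.Agent.H06Geom.NoEmbedded
import Groth.Agent.H8Props.FieldDimFibre
import Groth.Agent.H06EGA14.FibreDims
import Groth.Agent.H06EGA14.MaximalPoint

/-!
# Relative associated points: specialization and base change of the base
-/

set_option autoImplicit false
set_option linter.style.haveILetI false
universe u

open CategoryTheory CategoryTheory.Limits AlgebraicGeometry TopologicalSpace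

namespace Groth.Agent.H8Norm

open H8Props.FieldDim

variable {X S : Scheme.{u}} (f : X ⟶ S) [LocallyOfFiniteType f]

/-- A relative associated point specializing to a point `x` of flatness specializes to a relative
associated point in the fibre of `x` which still specializes to `x`. -/
theorem exists_relAss_between (F : X.Modules) (hF : Coh.IsQCoh F) (hFt : CohB1.IsFT F) {y x : X}
    (hy : y ∈ MoreMor.relAss f F) (hyx : y ⤳ x) (hfl : FlatMod.IsFlatOverAt f F x) :
    ∃ z ∈ MoreMor.relAss f F, y ⤳ z ∧ z ⤳ x ∧ f z = f x := by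
  obtain ⟨V, hV, U, hU, hUV, hxU⟩ := H8Props.FlatGen.exists_chart f x
  have hyU : y ∈ U := hyx.mem_open U.2 hxU
  rw [H8Props.FlatLocus.isFlatOverAt_iff_localizedModule f F hF hV hU hUV ⟨x, hxU⟩] at hfl
  letI := Module.compHom Γ(F, U) (f.appLE V U hUV).hom
  letI := (f.appLE V U hUV).hom.toAlgebra
  haveI : IsScalarTower Γ(S, V) Γ(X, U) Γ(F, U) := .of_algebraMap_smul fun _ _ => rfl
  haveI : Algebra.FiniteType Γ(S, V) Γ(X, U) :=
    RingHom.finiteType_algebraMap.mp (show (algebraMap Γ(S, V) Γ(X, U)).FiniteType from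
      f.finiteType_appLE hV hU hUV)
  haveI : F.IsQuasicoherent := hF
  haveI : Module.Finite Γ(X, U) Γ(F, U) := H10Coh.finite_sections F hFt hU
  haveI hover : ∀ z : U, (hU.primeIdealOf z).asIdeal.LiesOver (hV.primeIdealOf ⟨f z.1, hUV z.2⟩).asIdeal :=
    fun z => ⟨(congrArg PrimeSpectrum.asIdeal (IsAffineOpen.comap_primeIdealOf_appLE (f := f) V hV U hU hUV z.2)).symm⟩
  haveI := hover ⟨x, hxU⟩
  haveI := hover ⟨y, hyU⟩
  have hass := (H7Flat.Chain.RelAss.mem_relAss_iff f F hF hV hU hUV ⟨y, hyU⟩ rfl).mp hy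
  obtain ⟨q, hq, hyq, hqx, hqo, hqass⟩ := exists_assoc_specialization_le Γ(F, U)
    (hV.primeIdealOf ⟨f x, hUV hxU⟩).asIdeal (hV.primeIdealOf ⟨f y, hUV hyU⟩).asIdeal
    (hU.primeIdealOf ⟨y, hyU⟩).asIdeal hass (hU.primeIdealOf ⟨x, hxU⟩).asIdeal
    (H8Props.FlatGen.primeIdealOf_le hU (y := ⟨y, hyU⟩) (x := ⟨x, hxU⟩) hyx) hfl
  let z : U := ⟨hU.fromSpec ⟨q, hq⟩, hU.range_fromSpec.subset ⟨_, rfl⟩⟩
  have hz : hU.primeIdealOf z = ⟨q, hq⟩ :=
    hU.fromSpec.isOpenEmbedding.injective (hU.fromSpec_primeIdealOf z)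
  have hpz : hV.primeIdealOf ⟨f z.1, hUV z.2⟩ = hV.primeIdealOf ⟨f x, hUV hxU⟩ := by
    rw [← IsAffineOpen.comap_primeIdealOf_appLE (f := f) V hV U hU hUV z.2, hz]
    exact PrimeSpectrum.ext hqo.over.symm
  refine ⟨z.1, ?_, ?_, ?_, ?_⟩
  · refine (H7Flat.Chain.RelAss.mem_relAss_iff f F hF hV hU hUV z rfl).mpr ?_
    rw [hpz, hz]
    exact hqass
  · have h2 := Specializes.map ((PrimeSpectrum.le_iff_specializes (hU.primeIdealOf ⟨y, hyU⟩) ⟨q, hq⟩).1 hyq)
      hU.fromSpec.continuous
    rwa [hU.fromSpec_primeIdealOf ⟨y, hyU⟩] at h2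
  · have h2 := Specializes.map ((PrimeSpectrum.le_iff_specializes ⟨q, hq⟩ (hU.primeIdealOf ⟨x, hxU⟩)).1 hqx)
      hU.fromSpec.continuous
    rwa [hU.fromSpec_primeIdealOf ⟨x, hxU⟩] at h2
  · have := congrArg hV.fromSpec hpz
    rwa [hV.fromSpec_primeIdealOf, hV.fromSpec_primeIdealOf] at this

variable {X' S' : Scheme.{u}} {g : S' ⟶ S} {f' : X' ⟶ S'} {g' : X' ⟶ X}

set_option backward.isDefEq.respectTransparency false in
/-- Relative associated points of a base change are maximal among the points of their fibre with the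
same image. -/
theorem relAss_maximal_over (hc : IsPullback g' f' f g) (F : X.Modules) (x' : X')
    (hx : x' ∈ MoreMor.relAss f' ((Scheme.Modules.pullback g').obj F))
    (z : X') (hz : z ⤳ x') (hzf : f' z = f' x') (hzg : g' z = g' x') : z = x' := by
  let c := f' x'
  haveI := locallyOfFiniteType_fiberToSpec f (g c)
  have hm := isPullback_fiberToSpecResidueField_of_isPullback hc c
  let m : f'.fiber c ⟶ f.fiber (g c) := pullback.map f' (S'.fromSpecResidueField c) f (S.fromSpecResidueField (g c)) g'
    (Spec.map (g.residueFieldMap c)) g hc.w.symm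
    (Scheme.Hom.SpecMap_residueFieldMap_fromSpecResidueField g c).symm
  have hm' : IsPullback m (f'.fiberToSpecResidueField c) (f.fiberToSpecResidueField (g c))
      (Spec.map (g.residueFieldMap c)) := hm
  haveI : Flat (Spec.map (g.residueFieldMap c)) := H17.AssTensorS.flat_specMap_residueFieldMap g c
  haveI : Flat m := MorphismProperty.of_isPullback (P := @Flat) hm'.flip inferInstance
  haveI : IsLocallyNoetherian (f.fiber (g c)) :=
    LocallyOfFiniteType.isLocallyNoetherian (f.fiberToSpecResidueField (g c))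
  have hι : m ≫ f.fiberι (g c) = f'.fiberι c ≫ g' := pullback.lift_fst _ _ _
  have hιp : ∀ p, f.fiberι (g c) (m p) = g' (f'.fiberι c p) := fun p => congr($hι p)
  let w : f'.fiber c := f'.asFiber x'
  have hw : f'.fiberι c w = x' := f'.fiberι_asFiber x'
  obtain ⟨w₂, hw₂⟩ : z ∈ Set.range (f'.fiberι c) := by
    rw [f'.range_fiberι]
    exact hzf
  let M := (Scheme.Modules.pullback (f.fiberι (g c))).obj F
  have e : (Scheme.Modules.pullback (f'.fiberι c)).obj ((Scheme.Modules.pullback g').obj F) ≅
      (Scheme.Modules.pullback m).obj M :=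
    (Scheme.Modules.pullbackComp (f'.fiberι c) g').app F ≪≫
      (Scheme.Modules.pullbackCongr hι.symm).app F ≪≫
      ((Scheme.Modules.pullbackComp m (f.fiberι (g c))).app F).symm
  have hwA : w ∈ AssSch.Ass ((Scheme.Modules.pullback m).obj M) := by
    rw [← H17.AssTensorS.ass_congr e, H17.AssFlat.mem_ass_fibre_iff, hw]
    exact hx
  obtain ⟨u, -, v, hv, hvw⟩ := (H17.AssTensorS.mem_ass_flat_pullback_iff m M (fun _ => inferInstance) w).1 hwA
  -- the fibre of `m` has no embedded points
  have hne : AssSch.NoEmbedded (Coh.structureModule (m.fiber u)) := by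
    have hsq : IsPullback (m.fiberToSpecResidueField u) (m.fiberι u ≫ f'.fiberToSpecResidueField c)
        ((f.fiber (g c)).fromSpecResidueField u ≫ f.fiberToSpecResidueField (g c))
        (Spec.map (g.residueFieldMap c)) :=
      (IsPullback.of_hasPullback m ((f.fiber (g c)).fromSpecResidueField u)).flip.paste_vert hm'
    exact H17.AssFields.noEmbedded_of_iso hsq.isoPullback
      (H17.AssFields.noEmbedded_pullback_fields _ _ _ _)
  have hu : m w = u := by
    rw [← hvw]
    exact (m.range_fiberι u).subset (Set.mem_range_self v)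
  have hu₂ : m w₂ = u := by
    rw [← hu]
    apply (f.fiberι (g c)).isEmbedding.injective
    rw [hιp, hιp, hw₂, hw, hzg]
  obtain ⟨v₂, hv₂⟩ : w₂ ∈ Set.range (m.fiberι u) := by rw [m.range_fiberι]; exact hu₂
  have hsp : w₂ ⤳ w := (f'.fiberι c).isEmbedding.isInducing.specializes_iff.1 (by rwa [hw₂, hw])
  have hspv : v₂ ⤳ v := (m.fiberι u).isEmbedding.isInducing.specializes_iff.1 (by rwa [hv₂, hvw])
  obtain ⟨v₃, hv₃, hv₃'⟩ := H8Props.exists_genericPoints_specializes v₂
  obtain rfl := hne v hv v₃ (H17.AssPts.genericPoint_mem_ass hv₃) (hv₃'.trans hspv)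
  have : v₂ = v := (hspv.antisymm hv₃').eq
  rw [← hw₂, ← hv₂, this, hvw, hw]

set_option backward.isDefEq.respectTransparency false in
/-- Conversely, a point over a relative associated point which is maximal among the points of its fibre
with the same image is a relative associated point of the base change. -/
theorem relAss_of_maximal_over (hc : IsPullback g' f' f g) (F : X.Modules) (x' : X')
    (hx : g' x' ∈ MoreMor.relAss f F)
    (hmax : ∀ z : X', z ⤳ x' → f' z = f' x' → g' z = g' x' → z = x') :
    x' ∈ MoreMor.relAss f' ((Scheme.Modules.pullback g').obj F) := by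
  let c := f' x'
  haveI := locallyOfFiniteType_fiberToSpec f (g c)
  let m : f'.fiber c ⟶ f.fiber (g c) := pullback.map f' (S'.fromSpecResidueField c) f (S.fromSpecResidueField (g c)) g'
    (Spec.map (g.residueFieldMap c)) g hc.w.symm
    (Scheme.Hom.SpecMap_residueFieldMap_fromSpecResidueField g c).symm
  have hm' : IsPullback m (f'.fiberToSpecResidueField c) (f.fiberToSpecResidueField (g c))
      (Spec.map (g.residueFieldMap c)) := isPullback_fiberToSpecResidueField_of_isPullback hc c
  haveI : Flat (Spec.map (g.residueFieldMap c)) := H17.AssTensorS.flat_specMap_residueFieldMap g c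
  haveI : Flat m := MorphismProperty.of_isPullback (P := @Flat) hm'.flip inferInstance
  haveI : IsLocallyNoetherian (f.fiber (g c)) :=
    LocallyOfFiniteType.isLocallyNoetherian (f.fiberToSpecResidueField (g c))
  have hι : m ≫ f.fiberι (g c) = f'.fiberι c ≫ g' := pullback.lift_fst _ _ _
  have hιp : ∀ p, f.fiberι (g c) (m p) = g' (f'.fiberι c p) := fun p => congr($hι p)
  haveI : LocallyOfFiniteType f' := MorphismProperty.of_isPullback hc ‹_›
  haveI := locallyOfFiniteType_fiberToSpec f' c
  haveI : IsLocallyNoetherian (f'.fiber c) :=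
    LocallyOfFiniteType.isLocallyNoetherian (f'.fiberToSpecResidueField c)
  let w : f'.fiber c := f'.asFiber x'
  have hw : f'.fiberι c w = x' := f'.fiberι_asFiber x'
  let M := (Scheme.Modules.pullback (f.fiberι (g c))).obj F
  have e : (Scheme.Modules.pullback (f'.fiberι c)).obj ((Scheme.Modules.pullback g').obj F) ≅
      (Scheme.Modules.pullback m).obj M :=
    (Scheme.Modules.pullbackComp (f'.fiberι c) g').app F ≪≫
      (Scheme.Modules.pullbackCongr hι.symm).app F ≪≫
      ((Scheme.Modules.pullbackComp m (f.fiberι (g c))).app F).symm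
  suffices hwA : w ∈ AssSch.Ass ((Scheme.Modules.pullback m).obj M) by
    rw [← H17.AssTensorS.ass_congr e, H17.AssFlat.mem_ass_fibre_iff, hw] at hwA
    exact hwA
  refine (H17.AssTensorS.mem_ass_flat_pullback_iff m M (fun _ => inferInstance) w).2 ?_
  obtain ⟨v, hv⟩ : w ∈ Set.range (m.fiberι (m w)) := by rw [m.range_fiberι]; rfl
  refine ⟨m w, ?_, v, ?_, hv⟩
  · rw [H17.AssFlat.mem_ass_fibre_iff, hιp, hw]
    exact hx
  · obtain ⟨v₃, hv₃, hv₃'⟩ := H8Props.exists_genericPoints_specializes v
    suffices v₃ = v from this ▸ H17.AssPts.genericPoint_mem_ass hv₃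
    apply (m.fiberι (m w)).isEmbedding.injective
    rw [hv]
    apply (f'.fiberι c).isEmbedding.injective
    rw [hw]
    have h1 : m.fiberι (m w) v₃ ⤳ w := by
      have := hv₃'.map (m.fiberι (m w)).continuous
      rwa [hv] at this
    refine hmax _ (hw ▸ h1.map (f'.fiberι c).continuous) ((f'.range_fiberι c).subset (Set.mem_range_self _)) ?_
    rw [← hιp, show m (m.fiberι (m w) v₃) = m w from (m.range_fiberι (m w)).subset (Set.mem_range_self _), hιp, hw]

set_option backward.isDefEq.respectTransparency false in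
/-- A point maximal among the points of its fibre with the same image keeps the dimension of its closure. -/
theorem cdim_asFiber_of_maximal_over (hc : IsPullback g' f' f g) (x' : X')
    (hmax : ∀ z : X', z ⤳ x' → f' z = f' x' → g' z = g' x' → z = x') :
    cdim (f'.asFiber x') = cdim (f.asFiber (g' x')) := by
  let c := f' x'
  haveI := locallyOfFiniteType_fiberToSpec f (g c)
  let m : f'.fiber c ⟶ f.fiber (g c) := pullback.map f' (S'.fromSpecResidueField c) f (S.fromSpecResidueField (g c)) g'
    (Spec.map (g.residueFieldMap c)) g hc.w.symm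
    (Scheme.Hom.SpecMap_residueFieldMap_fromSpecResidueField g c).symm
  letI := (g.residueFieldMap c).hom.toAlgebra
  have hb := baseChange_point (k := S.residueField (g c)) (f.fiberToSpecResidueField (g c))
    (K := S'.residueField c) _ _ (isPullback_fiberToSpecResidueField_of_isPullback hc c)
  have hι : m ≫ f.fiberι (g c) = f'.fiberι c ≫ g' := pullback.lift_fst _ _ _
  have hιp : ∀ p, f.fiberι (g c) (m p) = g' (f'.fiberι c p) := fun p => congr($hι p)
  have hfx : f (g' x') = g c := by rw [← Scheme.Hom.comp_apply, hc.w, Scheme.Hom.comp_apply]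
  let w : f'.fiber c := f'.asFiber x'
  have hw : f'.fiberι c w = x' := f'.fiberι_asFiber x'
  obtain ⟨w', h1, h2, h3⟩ := (hb w).2 (m w) specializes_rfl
  have hw' : w' = w := by
    apply (f'.fiberι c).isEmbedding.injective
    rw [hw]
    refine hmax _ (hw ▸ h1.map (f'.fiberι c).continuous) ((f'.range_fiberι c).subset (Set.mem_range_self w')) ?_
    rw [← hιp, show m w' = m w from h2, hιp, hw]
  rw [hw'] at h3
  refine h3.trans ?_
  have hmw : f.fiberι (g c) (m w) = g' x' := by
    rw [hιp, hw]
  rw [H17.DimIneq.cdim_eq_dim_inter, ← H06EGA14.dim_inter_eq_cdim f (g' x') hfx]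
  rw [hmw]

end Groth.Agent.H8Norm
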