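import Groth.Prelude.Def_FlatCA
import Groth.Agent.H02CA.FibreAss
import Mathlib.RingTheory.Filtration
import Mathlib.RingTheory.Smooth.Flat

/-!
# Universal injectivity into the completion along a section

For a flat algebra with integral fibres over a Noetherian ring, an element which is `1` along a section
is a non zero divisor on every base change to a finite module.
-/

set_option autoImplicit false
set_option linter.style.haveILetI false
set_option backward.isDefEq.respectTransparency false

universe u

open TensorProduct AlgebraicGeometry CategoryTheory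

namespace Groth.Agent.H8Norm.RetractionUnivInj

variable {A B : Type u} [CommRing A] [CommRing B] [Algebra A B]

/-- The fibre rings of a map with geometrically integral fibres are domains. -/
theorem isDomain_tensor (hfib : FlatCA.GeomIntegralFibres A B) (K : Type u) [Field K] [Algebra A K] :
    IsDomain (B ⊗[A] K) := by
  let g := Spec.map (CommRingCat.ofHom (algebraMap A B))
  let b := Spec.map (CommRingCat.ofHom (algebraMap A K))
  haveI : IsIntegral (Limits.pullback g b) :=
    pullback_of_geometrically (GeometricallyIntegral.geometrically_isIntegral (f := g)) K b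
  haveI : Nonempty ↥(Spec (CommRingCat.of (B ⊗[A] K))) :=
    Nonempty.map (pullbackSpecIso A B K).hom inferInstance
  haveI : IsIntegral (Spec (CommRingCat.of (B ⊗[A] K))) :=
    isIntegral_of_isOpenImmersion (pullbackSpecIso A B K).inv
  exact (affine_isIntegral_iff (CommRingCat.of (B ⊗[A] K))).1 ‹_›

/-- An element equal to `1` along the section is a non zero divisor on every finite base change. -/
theorem eq_zero_of_smul_eq_zero [IsNoetherianRing A] [Module.Flat A B] (hfib : FlatCA.GeomIntegralFibres A B)
    (u : B →ₐ[A] A) (M : Type u) [AddCommGroup M] [Module A M] [Module.Finite A M] {s : B} (hs : u s = 1)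
    (x : B ⊗[A] M) (hx : s • x = 0) : x = 0 := by
  revert x
  refine IsNoetherianRing.induction_on_isQuotientEquivQuotientPrime A ‹Module.Finite A M›
    (motive := fun M' _ _ _ => ∀ x : B ⊗[A] M', s • x = 0 → x = 0) ?_ ?_ ?_
  · intro M' _ _ _ _ x _
    exact Subsingleton.elim _ _
  · intro M' _ _ _ p e x hx
    haveI : p.1.IsPrime := p.2
    let K := p.1.ResidueField
    let ι : M' →ₗ[A] K := (IsScalarTower.toAlgHom A (A ⧸ p.1) K).toLinearMap.comp e.toLinearMap
    have hι : Function.Injective ι :=
      (Ideal.injective_algebraMap_quotient_residueField p.1).comp e.injective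
    let F : B ⊗[A] M' →ₗ[B] B ⊗[A] K := AlgebraTensorModule.map LinearMap.id ι
    have hF : Function.Injective F :=
      Module.Flat.lTensor_preserves_injective_linearMap (M := B) ι hι
    haveI := isDomain_tensor hfib K
    let ev : B ⊗[A] K →ₐ[A] K :=
      Algebra.TensorProduct.lift ((Algebra.ofId A K).comp u) (AlgHom.id A K) (fun _ _ => Commute.all _ _)
    have hne : (s ⊗ₜ[A] (1 : K)) ≠ 0 := fun h => by
      have := congrArg ev h
      rw [map_zero, Algebra.TensorProduct.lift_tmul, AlgHom.comp_apply, hs, map_one, AlgHom.id_apply,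
        one_mul] at this
      exact one_ne_zero this
    refine hF ((mul_eq_zero.1 (?_ : (s ⊗ₜ[A] (1 : K)) * F x = 0)).resolve_left hne |>.trans (map_zero F).symm)
    rw [show (s ⊗ₜ[A] (1 : K)) * F x = s • F x from (Algebra.smul_def s (F x)).symm, ← map_smul, hx, map_zero]
  · intro A' _ _ _ B' _ _ _ C' _ _ _ f g hf hg hfg hA hC x hx
    let F : B ⊗[A] A' →ₗ[B] B ⊗[A] B' := AlgebraTensorModule.map LinearMap.id f
    let G : B ⊗[A] B' →ₗ[B] B ⊗[A] C' := AlgebraTensorModule.map LinearMap.id g
    have hF : Function.Injective F := Module.Flat.lTensor_preserves_injective_linearMap (M := B) f hf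
    have hFG : Function.Exact F G := Module.Flat.lTensor_exact (M := B) hfg
    obtain ⟨y, rfl⟩ := (hFG x).1 (hC _ (by rw [← map_smul, hx, map_zero]))
    rw [← map_smul, map_eq_zero_iff F hF] at hx
    rw [hA y hx, map_zero]

/-- The map to a completion along a section is universally injective. -/
theorem univInj [IsNoetherianRing A] [Module.Flat A B] [Algebra.FiniteType A B]
    (hfib : FlatCA.GeomIntegralFibres A B) (u : B →ₐ[A] A)
    (Bh : Type u) [CommRing Bh] [Algebra B Bh] [Algebra A Bh] [IsScalarTower A B Bh]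
    (hq : ∀ n : ℕ, Function.Bijective (Ideal.quotientMap ((RingHom.ker u ^ n).map (algebraMap B Bh))
      (algebraMap B Bh) Ideal.le_comap_map)) :
    FlatCA.UnivInj A (IsScalarTower.toAlgHom A B Bh).toLinearMap := by
  haveI : IsNoetherianRing B := Algebra.FiniteType.isNoetherianRing A B
  set f := (IsScalarTower.toAlgHom A B Bh).toLinearMap
  set I : Ideal B := RingHom.ker u
  intro Q _ _
  rw [LinearMap.lTensor_inj_iff_rTensor_inj, injective_iff_map_eq_zero]
  intro z hz
  obtain ⟨P, hP, hzP⟩ :=
    exists_finite_submodule_right_of_setFinite ({z} : Set (B ⊗[A] Q)) (Set.finite_singleton z)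
  obtain ⟨t, ht⟩ := hzP (Set.mem_singleton z)
  have ht' : LinearMap.lTensor B P.subtype t = z := ht
  have hnat : ∀ {M N : Type u} [AddCommGroup M] [Module A M] [AddCommGroup N] [Module A N]
      (φ : M →ₗ[A] N) (w : B ⊗[A] M),
      f.rTensor N (φ.lTensor B w) = φ.lTensor Bh (f.rTensor M w) := by
    intro M N _ _ _ _ φ w
    rw [← LinearMap.comp_apply, ← LinearMap.comp_apply, LinearMap.rTensor_comp_lTensor,
      LinearMap.lTensor_comp_rTensor]
  obtain ⟨P', hPP', hP', h0⟩ := Groth.Agent.H02CA.FibreAss.exists_fg_lTensor_eq_zero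
    (N := Bh) (Module.Finite.iff_fg.mp hP) (t := f.rTensor P t) (by rw [← hnat, ht', hz])
  rw [← hnat] at h0
  set t' := LinearMap.lTensor B (Submodule.inclusion hPP') t with ht'def
  haveI : Module.Finite A P' := Module.Finite.iff_fg.mpr hP'
  have hlevel : ∀ n : ℕ, t' ∈ I ^ n • (⊤ : Submodule B (B ⊗[A] P')) := by
    intro n
    let ψ : (B ⧸ I ^ n) →ₐ[A] Bh ⧸ (I ^ n).map (algebraMap B Bh) :=
      Ideal.quotientMapₐ _ (IsScalarTower.toAlgHom A B Bh) Ideal.le_comap_map
    let r : Bh →ₗ[A] B ⧸ I ^ n :=
      (AlgEquiv.ofBijective ψ (hq n)).symm.toLinearMap.comp (Ideal.Quotient.mkₐ A _).toLinearMap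
    have hr : r.comp f = (Ideal.Quotient.mkₐ A (I ^ n)).toLinearMap := by
      refine LinearMap.ext fun b => ?_
      exact (AlgEquiv.ofBijective ψ (hq n)).symm_apply_apply (Ideal.Quotient.mk (I ^ n) b)
    have h1 : (Ideal.Quotient.mkₐ A (I ^ n)).toLinearMap.rTensor P' t' = 0 := by
      rw [← hr, LinearMap.rTensor_comp_apply, h0, map_zero]
    have hex : Function.Exact ((I ^ n).restrictScalars A).subtype (Ideal.Quotient.mkₐ A (I ^ n)).toLinearMap := by
      intro b
      refine Ideal.Quotient.eq_zero_iff_mem.trans ?_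
      exact ⟨fun h => ⟨⟨b, h⟩, rfl⟩, by rintro ⟨⟨c, hc⟩, rfl⟩; exact hc⟩
    obtain ⟨w, hw⟩ := (rTensor_exact P' hex Ideal.Quotient.mk_surjective t').mp h1
    rw [← hw]
    clear hw
    induction w using TensorProduct.induction_on with
    | zero => simp
    | tmul a b =>
      rw [LinearMap.rTensor_tmul]
      have : (a : B) • ((1 : B) ⊗ₜ[A] b) ∈ I ^ n • (⊤ : Submodule B (B ⊗[A] P')) :=
        Submodule.smul_mem_smul a.2 trivial
      rwa [smul_tmul', smul_eq_mul, mul_one] at this
    | add x y hx hy => rw [map_add]; exact add_mem hx hy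
  obtain ⟨⟨r, hr⟩, hrt⟩ := (I.mem_iInf_smul_pow_eq_bot_iff t').mp ((Submodule.mem_iInf _).mpr hlevel)
  have hz0 : t' = 0 := eq_zero_of_smul_eq_zero hfib u P' (s := 1 - r)
    (by rw [map_sub, map_one, show u r = 0 from hr, sub_zero]) t'
    (by
      have h : r • t' = t' := hrt
      refine (sub_smul (1 : B) r t').trans ?_
      rw [one_smul, h, sub_self])
  rw [← ht', ← Submodule.subtype_comp_inclusion P P' hPP', LinearMap.lTensor_comp_apply, ← ht'def,
    hz0, map_zero]

end Groth.Agent.H8Norm.RetractionUnivInj
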