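import Mathlib
import Groth.Prelude.Def_Curv2
import Groth.Prelude.Def_Pi1
import Groth.Agent.H17.NormalizationUP
import Groth.Agent.H28Neron.NormalSmooth
import Groth.Agent.H22Alg.FlatSurj

/-! Normalization of integral schemes commutes with smooth morphisms. -/

set_option autoImplicit false
universe u
open CategoryTheory CategoryTheory.Limits AlgebraicGeometry TopologicalSpace

namespace Groth.Agent.H8Norm

/-- A flat morphism is injective on local rings. -/
theorem injective_stalkMap_of_flat {X Y : Scheme.{u}} (f : X ⟶ Y) [Flat f] (x : X) :
    Function.Injective (f.stalkMap x).hom := by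
  have hfl : (f.stalkMap x).hom.Flat := Flat.stalkMap f x
  letI := (f.stalkMap x).hom.toAlgebra
  haveI : Module.Flat (Y.presheaf.stalk (f x)) (X.presheaf.stalk x) := hfl
  haveI : IsLocalHom (algebraMap (Y.presheaf.stalk (f x)) (X.presheaf.stalk x)) :=
    inferInstanceAs (IsLocalHom (f.stalkMap x).hom)
  haveI := Module.FaithfullyFlat.of_flat_of_isLocalHom (A := Y.presheaf.stalk (f x)) (B := X.presheaf.stalk x)
  exact FaithfulSMul.algebraMap_injective (Y.presheaf.stalk (f x)) (X.presheaf.stalk x)

/-- A flat morphism of integral schemes preserves generic points. -/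
theorem map_genericPoint_of_flat {X Y : Scheme.{u}} (f : X ⟶ Y) [Flat f] [IsIntegral X] [IsIntegral Y] :
    f (genericPoint X) = genericPoint Y := by
  have h : genericPoint Y ⤳ f (genericPoint X) := (genericPoint_spec Y).specializes trivial
  obtain ⟨x, hx, hxy⟩ := Flat.generalizingMap f h
  have : x = genericPoint X := (hx.antisymm ((genericPoint_spec X).specializes trivial)).eq
  rw [← this]
  exact hxy

/-- The spectrum of the function field is normal. -/
theorem isNormalScheme_of_functionField (X : Scheme.{u}) [IsIntegral X] :
    Pi1.IsNormalScheme (Spec (X.presheaf.stalk (genericPoint X))) := by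
  intro z
  let K : CommRingCat := X.presheaf.stalk (genericPoint X)
  have hK : IsField K := (show Field X.functionField from inferInstance).toIsField
  letI : Field K := hK.toField
  let e := IsLocalization.atUnits K (PrimeSpectrum.asIdeal z).primeCompl
    (S := (Spec.structureSheaf K).presheaf.stalk z) (by
      intro a ha
      exact IsUnit.mk0 a fun h => ha (by simp [h]))
  exact ⟨e.symm.toMulEquiv.isDomain _, IsIntegrallyClosed.of_equiv e.toRingEquiv⟩

/-- Maps from the generic point to the normalization are unique. -/
theorem hom_ext_generic {X : Scheme.{u}} [IsIntegral X]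
    [QuasiCompact (X.fromSpecStalk (genericPoint X))] [QuasiSeparated (X.fromSpecStalk (genericPoint X))]
    (h₁ h₂ : Spec (X.presheaf.stalk (genericPoint X)) ⟶ Curv2.normalization X)
    (e₁ : h₁ ≫ Curv2.normalizationι X = X.fromSpecStalk (genericPoint X))
    (e₂ : h₂ ≫ Curv2.normalizationι X = X.fromSpecStalk (genericPoint X)) : h₁ = h₂ := by
  haveI := H22Alg.flat_fromSpecStalk X (genericPoint X)
  exact H17.NormalizationUP.hom_ext _ (isNormalScheme_of_functionField X)
    (injective_stalkMap_of_flat _) _ _ e₁ e₂

/-- An endomorphism of the normalization over the scheme is the identity. -/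
theorem endo_eq_id {X : Scheme.{u}} [IsIntegral X]
    [QuasiCompact (X.fromSpecStalk (genericPoint X))] [QuasiSeparated (X.fromSpecStalk (genericPoint X))]
    (θ : Curv2.normalization X ⟶ Curv2.normalization X)
    (h : θ ≫ Curv2.normalizationι X = Curv2.normalizationι X) : θ = 𝟙 _ := by
  haveI : IsAffineHom (Curv2.normalizationι X) :=
    inferInstanceAs (IsAffineHom (X.fromSpecStalk (genericPoint X)).fromNormalization)
  refine Scheme.Hom.normalization.hom_ext (X.fromSpecStalk (genericPoint X)) θ (𝟙 _)
    (Curv2.normalizationι X) ?_ h (Category.id_comp _)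
  refine hom_ext_generic _ _ ?_ ?_
  · exact (Category.assoc _ _ _).trans ((congrArg ((X.fromSpecStalk (genericPoint X)).toNormalization ≫ ·) h).trans
      (X.fromSpecStalk (genericPoint X)).toNormalization_fromNormalization)
  · exact (congrArg (· ≫ _) (Category.comp_id (X.fromSpecStalk (genericPoint X)).toNormalization)).trans
      (X.fromSpecStalk (genericPoint X)).toNormalization_fromNormalization

set_option maxHeartbeats 800000 in
/-- The normalization of `X` is the base change of the normalization of `Y` along a smooth `f : X ⟶ Y`. -/
theorem exists_iso {X Y : Scheme.{u}} (f : X ⟶ Y) [Smooth f] [IsIntegral X] [IsIntegral Y]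
    [QuasiCompact (X.fromSpecStalk (genericPoint X))] [QuasiSeparated (X.fromSpecStalk (genericPoint X))]
    [QuasiCompact (Y.fromSpecStalk (genericPoint Y))] [QuasiSeparated (Y.fromSpecStalk (genericPoint Y))] :
    ∃ e : Curv2.normalization X ≅ pullback f (Curv2.normalizationι Y),
      e.hom ≫ pullback.fst f (Curv2.normalizationι Y) = Curv2.normalizationι X := by
  haveI : Flat f := inferInstance
  set η := genericPoint X with hη
  set a := Y.fromSpecStalk (genericPoint Y) with ha
  set p : pullback a f ⟶ X := pullback.snd a f with hp
  -- the point of the generic fibre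
  have hgen := map_genericPoint_of_flat f
  let s : Spec (X.presheaf.stalk η) ⟶ Spec (Y.presheaf.stalk (genericPoint Y)) :=
    Spec.map ((Y.presheaf.stalkCongr (Inseparable.of_eq hgen.symm)).hom ≫ f.stalkMap η)
  have hs : s ≫ a = X.fromSpecStalk η ≫ f := by
    rw [← Scheme.SpecMap_stalkMap_fromSpecStalk]
    simp only [s, Spec.map_comp, Category.assoc]
    congr 1
    exact Scheme.SpecMap_stalkSpecializes_fromSpecStalk (Inseparable.of_eq hgen.symm).ge
  let j : Spec (X.presheaf.stalk η) ⟶ pullback a f := pullback.lift s (X.fromSpecStalk η) hs
  have hj : j ≫ p = X.fromSpecStalk η := pullback.lift_snd _ _ _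
  haveI : Flat a := H22Alg.flat_fromSpecStalk Y _
  haveI : Flat p := inferInstance
  haveI : IsLocallyNoetherian (Spec (Y.presheaf.stalk (genericPoint Y))) := by
    haveI : IsNoetherianRing (Y.presheaf.stalk (genericPoint Y)) := inferInstanceAs (IsNoetherianRing Y.functionField)
    infer_instance
  haveI : Smooth (pullback.fst a f) := inferInstance
  haveI : IsLocallyNoetherian (pullback a f) := LocallyOfFiniteType.isLocallyNoetherian (pullback.fst a f)
  have hW : Pi1.IsNormalScheme (pullback a f) :=
    H28Neron.isNormalScheme_of_smooth (pullback.fst a f) (isNormalScheme_of_functionField Y)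
  haveI : IsReduced (pullback a f) :=
    haveI : ∀ x, _root_.IsReduced ((pullback a f).presheaf.stalk x) := fun x =>
      haveI := (hW x).1; inferInstance
    isReduced_of_isReduced_stalk _
  haveI : IsPreimmersion p := inferInstance
  have hjd : IsDominant j := by
    refine ⟨fun w => ?_⟩
    have hz : ∃ z, X.fromSpecStalk η z = η := by
      exact ⟨IsLocalRing.closedPoint _, Scheme.fromSpecStalk_closedPoint⟩
    obtain ⟨z, hz⟩ := hz
    have h1 : p (j z) ⤳ p w := by
      rw [← Scheme.Hom.comp_apply, hj, hz]
      exact (genericPoint_spec X).specializes trivial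
    exact closure_mono (Set.singleton_subset_iff.2 (Set.mem_range_self z))
      ((p.isEmbedding.isInducing.specializes_iff).1 h1).mem_closure
  -- lift of the generic fibre to the normalization
  obtain ⟨k, hk, -⟩ := H17.NormalizationUP.existsUnique_lift X p hW (injective_stalkMap_of_flat p)
  let φ : Curv2.normalization X ⟶ p.normalization :=
    (X.fromSpecStalk η).normalizationDesc (j ≫ p.toNormalization) p.fromNormalization
      (by rw [Category.assoc, p.toNormalization_fromNormalization, hj])
  have hφι : φ ≫ p.fromNormalization = Curv2.normalizationι X := Scheme.Hom.normalizationDesc_comp ..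
  haveI : IsAffineHom (Curv2.normalizationι X) :=
    inferInstanceAs (IsAffineHom (X.fromSpecStalk η).fromNormalization)
  haveI : IsIntegralHom (Curv2.normalizationι X) :=
    inferInstanceAs (IsIntegralHom (X.fromSpecStalk η).fromNormalization)
  let ψ : p.normalization ⟶ Curv2.normalization X := p.normalizationDesc k (Curv2.normalizationι X) hk.symm
  have hψι : ψ ≫ Curv2.normalizationι X = p.fromNormalization := Scheme.Hom.normalizationDesc_comp ..
  have h1 : φ ≫ ψ = 𝟙 _ := endo_eq_id _ (by rw [Category.assoc, hψι, hφι])
  have h2 : ψ ≫ φ = 𝟙 _ := by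
    refine Scheme.Hom.normalization.hom_ext p _ _ p.fromNormalization ?_
      (by rw [Category.assoc, hφι, hψι]) (Category.id_comp _)
    rw [Scheme.Hom.toNormalization_normalizationDesc_assoc, Category.comp_id]
    refine ext_of_isDominant_of_isSeparated p.fromNormalization ?_ j ?_
    · rw [Category.assoc, hφι, hk, p.toNormalization_fromNormalization]
    · have h3 : j ≫ k = (X.fromSpecStalk η).toNormalization :=
        hom_ext_generic _ _ (by rw [Category.assoc, hk, hj])
          (X.fromSpecStalk η).toNormalization_fromNormalization
      rw [← Category.assoc, h3]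
      exact Scheme.Hom.toNormalization_normalizationDesc ..
  let e1 : Curv2.normalization X ≅ p.normalization := ⟨φ, ψ, h1, h2⟩
  refine ⟨e1 ≪≫ asIso (a.normalizationPullback f) ≪≫ pullbackSymmetry a.fromNormalization f, ?_⟩
  simp only [Iso.trans_hom, asIso_hom, Category.assoc]
  erw [pullbackSymmetry_hom_comp_fst, a.normalizationPullback_snd f]
  exact hφι

end Groth.Agent.H8Norm
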