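import Groth.Agent.H06Unram.AdaptedCoords
import Mathlib

/-!
# Coordinates adapted to a smooth closed subscheme
-/

set_option autoImplicit false
set_option linter.style.haveILetI false
set_option backward.isDefEq.respectTransparency false
set_option maxHeartbeats 800000

universe u

open CategoryTheory CategoryTheory.Limits AlgebraicGeometry TopologicalSpace MvPolynomial
open scoped TensorProduct

namespace Groth.Agent.H8Norm.SmoothCoords

/-- A minimal system of elements generating a finitely generated ideal near a prime. -/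
theorem exists_min_gens {B : Type u} [CommRing B] (J : Ideal B) (hJ : J.FG) (q : Ideal B) [q.IsPrime] :
    ∃ (r : ℕ) (g : Fin r → B), (∀ i, g i ∈ J) ∧
      J.map (algebraMap B (Localization.AtPrime q)) =
        Ideal.span (Set.range fun i => algebraMap B (Localization.AtPrime q) (g i)) ∧
      r = Module.finrank q.ResidueField (q.ResidueField ⊗[B] J) := by
  classical
  haveI : Module.Finite B J := Module.Finite.iff_fg.mpr hJ
  let e : J → q.ResidueField ⊗[B] J := fun m => 1 ⊗ₜ m
  have hspan : Submodule.span q.ResidueField (Set.range e) = ⊤ := by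
    refine eq_top_iff.mpr fun z _ => ?_
    induction z using TensorProduct.induction_on with
    | zero => exact zero_mem _
    | tmul c m =>
      rw [← mul_one c, ← smul_eq_mul, ← TensorProduct.smul_tmul']
      exact Submodule.smul_mem _ c (Submodule.subset_span ⟨m, rfl⟩)
    | add a b ha hb => exact add_mem (ha trivial) (hb trivial)
  obtain ⟨b, hbmem, hbspan, -⟩ := Submodule.exists_fun_fin_finrank_span_eq q.ResidueField (Set.range e)
  have hr : Module.finrank q.ResidueField (Submodule.span q.ResidueField (Set.range e)) =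
      Module.finrank q.ResidueField (q.ResidueField ⊗[B] J) := by rw [hspan, finrank_top]
  choose g hg using hbmem
  refine ⟨_, fun i => (g i : B), fun i => (g i).2, le_antisymm ?_ (Ideal.span_le.mpr ?_), hr⟩
  swap
  · rintro _ ⟨i, rfl⟩
    exact Ideal.mem_map_of_mem _ (g i).2
  let N : Submodule B J := Submodule.span B (Set.range g)
  have h0 : Subsingleton (q.ResidueField ⊗[B] (J ⧸ N)) := by
    let π : (q.ResidueField ⊗[B] J) →ₗ[q.ResidueField] q.ResidueField ⊗[B] (J ⧸ N) :=
      N.mkQ.baseChange q.ResidueField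
    have hπ : Function.Surjective π := LinearMap.lTensor_surjective _ N.mkQ_surjective
    have hzero : π = 0 := by
      refine LinearMap.ext_on (hbspan.trans hspan) ?_
      rintro _ ⟨i, rfl⟩
      rw [← hg i, LinearMap.zero_apply]
      show (1 : q.ResidueField) ⊗ₜ[B] N.mkQ (g i) = 0
      rw [Submodule.mkQ_apply, (Submodule.Quotient.mk_eq_zero N).mpr (Submodule.subset_span ⟨i, rfl⟩),
        TensorProduct.tmul_zero]
    refine subsingleton_of_forall_eq 0 fun z => ?_
    obtain ⟨y, rfl⟩ := hπ z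
    rw [hzero, LinearMap.zero_apply]
  have hq : (⟨q, inferInstance⟩ : PrimeSpectrum B) ∉ Module.support B (J ⧸ N) := by
    rw [Module.mem_support_iff_nontrivial_residueField_tensorProduct]
    exact not_nontrivial_iff_subsingleton.mpr h0
  rw [Module.notMem_support_iff'] at hq
  refine Ideal.map_le_iff_le_comap.mpr fun x hx => ?_
  obtain ⟨c, hc, hc0⟩ := hq (Submodule.Quotient.mk ⟨x, hx⟩)
  rw [← Submodule.Quotient.mk_smul, Submodule.Quotient.mk_eq_zero, Submodule.mem_span_range_iff_exists_fun] at hc0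
  obtain ⟨a, ha⟩ := hc0
  have hx' : c * x ∈ Ideal.span (Set.range fun i => (g i : B)) := by
    rw [show c * x = ∑ i, a i * (g i : B) by simpa using (congrArg Subtype.val ha).symm]
    exact sum_mem fun i _ => Ideal.mul_mem_left _ _ (Ideal.subset_span ⟨i, rfl⟩)
  have hu : IsUnit (algebraMap B (Localization.AtPrime q) c) := IsLocalization.map_units _ (⟨c, hc⟩ : q.primeCompl)
  have hmem := Ideal.mem_map_of_mem (algebraMap B (Localization.AtPrime q)) hx'
  rw [Ideal.map_span, ← Set.range_comp, map_mul] at hmem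
  exact (Ideal.unit_mul_mem_iff_mem _ hu).mp hmem

/-- Etale coordinates read in another model of the localization. -/
theorem etale_eval₂Hom {A B : Type u} [CommRing A] [CommRing B] [Algebra A B] {f : B}
    (T : Type u) [CommRing T] [Algebra B T] [IsLocalization.Away f T] {ι : Type u} {r m : ℕ}
    (k : ι ≃ Fin r ⊕ Fin m) (g : Fin r → B) (g' : Fin m → Localization.Away f)
    (het : (MvPolynomial.aeval (R := A)
      (Sum.elim (fun a => algebraMap B (Localization.Away f) (g a)) g')).toRingHom.Etale) :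
    (eval₂Hom ((algebraMap B T).comp (algebraMap A B)) fun j =>
      (IsLocalization.algEquiv (Submonoid.powers f) (Localization.Away f) T)
        (Sum.elim (fun a => algebraMap B (Localization.Away f) (g a)) g' (k j))).Etale := by
  let ψ := IsLocalization.algEquiv (Submonoid.powers f) (Localization.Away f) T
  have h1 : (eval₂Hom ((algebraMap B T).comp (algebraMap A B)) fun j =>
      ψ (Sum.elim (fun a => algebraMap B (Localization.Away f) (g a)) g' (k j))) =
      (ψ.toRingEquiv.toRingHom.comp (MvPolynomial.aeval (R := A)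
        (Sum.elim (fun a => algebraMap B (Localization.Away f) (g a)) g')).toRingHom).comp
          (MvPolynomial.renameEquiv A k).toRingEquiv.toRingHom := by
    refine MvPolynomial.ringHom_ext (fun a => ?_) fun j => by simp
    rw [eval₂Hom_C]
    show _ = ψ (aeval _ (rename k (C a)))
    rw [rename_C, aeval_C, IsScalarTower.algebraMap_apply A B (Localization.Away f), ψ.commutes]
    rfl
  rw [h1]
  exact RingHom.Etale.stableUnderComposition _ _
    (RingHom.Etale.of_bijective (MvPolynomial.renameEquiv A k).toRingEquiv.bijective)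
    (RingHom.Etale.stableUnderComposition _ _ het (RingHom.Etale.of_bijective ψ.toRingEquiv.bijective))

/-- The algebraic data on an affine chart. -/
theorem exists_chart {S X Y : Scheme.{u}} (pX : X ⟶ S) (pY : Y ⟶ S) [Smooth pX] [Smooth pY]
    (i : Y ⟶ X) [IsClosedImmersion i] (hw : i ≫ pX = pY) (y : Y) :
    ∃ (V : S.Opens) (_ : IsAffineOpen V) (U : X.Opens) (_ : IsAffineOpen U) (hUV : U ≤ pX ⁻¹ᵁ V) (m r : ℕ)
      (w : ULift.{u} (Fin m ⊕ Fin r) → Γ(X, U)),
      i y ∈ U ∧ (eval₂Hom (pX.appLE V U hUV).hom w).Etale ∧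
      RingHom.ker (i.app U).hom = Ideal.span (Set.range fun a : Fin r => w ⟨Sum.inr a⟩) := by
  classical
  obtain ⟨V, hV, hyV, -⟩ := exists_isAffineOpen_mem_and_subset (X := S) (x := pY y) (U := ⊤) trivial
  obtain ⟨W, hW, hyW, hWV⟩ := exists_isAffineOpen_mem_and_subset (X := X) (x := i y) (U := pX ⁻¹ᵁ V) (by
    show pX (i y) ∈ V
    rw [← Scheme.Hom.comp_apply, hw]; exact hyV)
  have hiW : IsAffineOpen (i ⁻¹ᵁ W) := hW.preimage i
  let A := Γ(S, V)
  let B := Γ(X, W)
  let C₀ := Γ(Y, i ⁻¹ᵁ W)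
  letI : Algebra A B := (pX.appLE V W hWV).hom.toAlgebra
  letI : Algebra B C₀ := (i.app W).hom.toAlgebra
  letI : Algebra A C₀ := ((i.app W).hom.comp (pX.appLE V W hWV).hom).toAlgebra
  haveI : IsScalarTower A B C₀ := IsScalarTower.of_algebraMap_eq fun _ => rfl
  haveI : Algebra.Smooth A B := pX.smooth_appLE hV hW hWV
  haveI : Algebra.Smooth A C₀ := by
    have h := (pY.smooth_appLE hV hiW (by rw [← hw]; exact fun z hz => hWV hz))
    have e : (pY.appLE V (i ⁻¹ᵁ W) (by rw [← hw]; exact fun z hz => hWV hz)).hom =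
        (i.app W).hom.comp (pX.appLE V W hWV).hom := by
      subst hw
      rw [← CommRingCat.hom_comp, Scheme.Hom.app_eq_appLE, Scheme.Hom.appLE_comp_appLE]
    rw [e] at h
    exact h
  have hsurj : Function.Surjective (algebraMap B C₀) := i.app_surjective W hW
  let φ : B →ₐ[A] C₀ := IsScalarTower.toAlgHom A B C₀
  let J : Ideal B := RingHom.ker (algebraMap B C₀)
  have hJ : J.FG := Algebra.FinitePresentation.ker_fG_of_surjective φ hsurj
  let e : (B ⧸ J) ≃ₐ[A] C₀ := Ideal.quotientKerAlgEquivOfSurjective (f := φ) hsurj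
  haveI : Algebra.Smooth A (B ⧸ J) := Algebra.Smooth.of_equiv e.symm
  let q : Ideal B := (hW.primeIdealOf ⟨i y, hyW⟩).asIdeal
  have hqy : q = (hiW.primeIdealOf ⟨y, hyW⟩).asIdeal.comap (algebraMap B C₀) := by
    have h := IsAffineOpen.comap_primeIdealOf_appLE (f := i) W hW (i ⁻¹ᵁ W) hiW le_rfl (x := y) hyW
    rw [← Scheme.Hom.app_eq_appLE] at h
    exact (congrArg PrimeSpectrum.asIdeal h).symm
  have hJq : J ≤ q := hqy ▸ Ideal.comap_mono bot_le
  haveI : (q.map (Ideal.Quotient.mk J)).IsPrime :=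
    Ideal.map_isPrime_of_surjective Ideal.Quotient.mk_surjective (by rw [Ideal.mk_ker]; exact hJq)
  have hQ : (q.map (Ideal.Quotient.mk J)).comap (Ideal.Quotient.mk J) = q := by
    rw [Ideal.comap_map_of_surjective' _ Ideal.Quotient.mk_surjective, Ideal.mk_ker, sup_eq_left.mpr hJq]
  obtain ⟨r, g, hgJ, hgen, hmin⟩ := exists_min_gens J hJ q
  obtain ⟨f, hf, m, g', het, hJf⟩ :=
    H06Unram.AdaptedCoords.exists_coordinates (A := A) hJ hJq hQ hgJ hgen hmin
  have hyU : i y ∈ X.basicOpen f := by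
    have hm : hW.primeIdealOf ⟨i y, hyW⟩ ∈ PrimeSpectrum.basicOpen f := hf
    rw [← hW.fromSpec_preimage_basicOpen f] at hm
    have hm' : hW.fromSpec (hW.primeIdealOf ⟨i y, hyW⟩) ∈ X.basicOpen f := hm
    rwa [hW.fromSpec_primeIdealOf] at hm'
  haveI : IsLocalization.Away f Γ(X, X.basicOpen f) := hW.isLocalization_basicOpen f
  let k : ULift.{u} (Fin m ⊕ Fin r) ≃ Fin r ⊕ Fin m := Equiv.ulift.trans (Equiv.sumComm _ _)
  let ψ := IsLocalization.algEquiv (Submonoid.powers f) (Localization.Away f) Γ(X, X.basicOpen f)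
  refine ⟨V, hV, X.basicOpen f, hW.basicOpen f, (X.basicOpen_le f).trans hWV, m, r,
    fun j => ψ (Sum.elim (fun a => algebraMap B (Localization.Away f) (g a)) g' (k j)), hyU, ?_, ?_⟩
  · have h := etale_eval₂Hom (A := A) Γ(X, X.basicOpen f) k g g' het
    have e2 : (algebraMap B Γ(X, X.basicOpen f)).comp (algebraMap A B) =
        (pX.appLE V (X.basicOpen f) ((X.basicOpen_le f).trans hWV)).hom := by
      show (pX.appLE V W hWV ≫ X.presheaf.map (homOfLE (X.basicOpen_le f)).op).hom = _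
      rw [Scheme.Hom.appLE_map]
    rw [e2] at h
    exact h
  · have h1 := i.ker.map_ideal_basicOpen ⟨W, hW⟩ f
    rw [i.ker_apply, i.ker_apply] at h1
    refine h1.symm.trans ?_
    have h2 := congrArg (Ideal.map ψ.toRingEquiv.toRingHom) hJf
    rw [Ideal.map_map, Ideal.map_span, ← Set.range_comp] at h2
    have e1 : ψ.toRingEquiv.toRingHom.comp (algebraMap B (Localization.Away f)) =
        algebraMap B Γ(X, X.basicOpen f) := ψ.toAlgHom.comp_algebraMap
    rw [e1] at h2
    exact h2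

/-- Coordinates vanishing on the coordinate subspace vanish on the fibre product. -/
theorem appTop_eq_zero {S U Z T : Scheme.{u}} {ι : Type u} (f : U ⟶ S) (v : ι → Γ(U, ⊤)) (g : Z ⟶ S)
    (z : ι → Γ(Z, ⊤)) (a : T ⟶ Z) (b : T ⟶ U)
    (h : a ≫ AffineSpace.homOfVector g z = b ≫ AffineSpace.homOfVector f v) (j : ι) (hj : z j = 0) :
    b.appTop (v j) = 0 := by
  have e := congrArg (fun φ => φ.appTop (AffineSpace.coord S j)) h
  simp only [Scheme.Hom.comp_appTop, CommRingCat.comp_apply, AffineSpace.homOfVector_appTop_coord, hj,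
    map_zero] at e
  exact e.symm

theorem exists_coordinates {S X Y : Scheme.{u}} (pX : X ⟶ S) (pY : Y ⟶ S) [Smooth pX] [Smooth pY]
    (i : Y ⟶ X) [IsClosedImmersion i] (hw : i ≫ pX = pY) (y : Y) :
    ∃ (U : X.Opens) (m n : ℕ) (π : (U : Scheme.{u}) ⟶ 𝔸(ULift.{u} (Fin m ⊕ Fin n); S)) (ρ : (↑(i ⁻¹ᵁ U) : Scheme.{u}) ⟶ 𝔸(ULift.{u} (Fin m); S)),
      i y ∈ U ∧ Etale π ∧ π ≫ (𝔸(ULift.{u} (Fin m ⊕ Fin n); S) ↘ S) = U.ι ≫ pX ∧
      IsPullback ρ (i ∣_ U)
        (AffineSpace.homOfVector (𝔸(ULift.{u} (Fin m); S) ↘ S)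
          (fun j : ULift.{u} (Fin m ⊕ Fin n) => Sum.elim (fun a => AffineSpace.coord S (ULift.up a)) (fun _ => 0) j.down))
        π := by
  classical
  obtain ⟨V, hV, U, hU, hUV, m, r, w, hyU, hΦ, hker⟩ := exists_chart pX pY i hw y
  let ι := ULift.{u} (Fin m ⊕ Fin r)
  let A := Γ(S, V)
  let Φ : MvPolynomial ι A →+* Γ(X, U) := eval₂Hom (pX.appLE V U hUV).hom w
  let v : ι → Γ(U, ⊤) := fun j => U.topIso.inv (w j)
  let π : (U : Scheme.{u}) ⟶ 𝔸(ι; S) := AffineSpace.homOfVector (U.ι ≫ pX) v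
  have hπ : π = U.toSpecΓ ≫ Spec.map (CommRingCat.ofHom Φ) ≫ (AffineSpace.SpecIso ι A).inv ≫
      AffineSpace.map ι hV.fromSpec := by
    refine AffineSpace.hom_ext ?_ fun j => ?_
    · rw [AffineSpace.homOfVector_over]
      simp only [Category.assoc, AffineSpace.map_over, AffineSpace.SpecIso_inv_over_assoc]
      rw [← Spec.map_comp_assoc, ← CommRingCat.ofHom_comp, eval₂Hom_comp_C, CommRingCat.ofHom_hom,
        IsAffineOpen.SpecMap_appLE_fromSpec pX hV hU, ← Category.assoc U.toSpecΓ, hU.toSpecΓ_fromSpec]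
    · rw [AffineSpace.homOfVector_appTop_coord]
      simp only [Scheme.Hom.comp_appTop, CommRingCat.comp_apply, AffineSpace.map_appTop_coord,
        AffineSpace.SpecIso_inv_appTop_coord]
      rw [← CommRingCat.comp_apply (Scheme.ΓSpecIso _).inv,
        ← Scheme.ΓSpecIso_inv_naturality, CommRingCat.comp_apply,
        Scheme.Opens.toSpecΓ_appTop, CommRingCat.comp_apply, Iso.inv_hom_id_apply]
      simp [v, Φ]
  haveI : IsOpenImmersion (AffineSpace.map ι hV.fromSpec) :=
    MorphismProperty.of_isPullback (AffineSpace.isPullback_map hV.fromSpec).flip inferInstance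
  haveI : Etale (Spec.map (CommRingCat.ofHom Φ)) := (HasRingHomProperty.Spec_iff (P := @Etale)).mpr hΦ
  haveI : IsIso U.toSpecΓ := by
    rw [← hU.isoSpec_hom]; infer_instance
  haveI hEt : Etale π := by rw [hπ]; infer_instance
  -- the closed subscheme
  let j₀ := i ∣_ U
  have hj : U.topIso.inv ≫ j₀.appTop = i.app U ≫ (i ⁻¹ᵁ U).topIso.inv := by
    simp [j₀, Scheme.Hom.app_eq_appLE, Scheme.Opens.topIso]
  have hv0 : ∀ a : Fin r, j₀.appTop (v ⟨Sum.inr a⟩) = 0 := fun a => by
    have hm : w ⟨Sum.inr a⟩ ∈ RingHom.ker (i.app U).hom := by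
      rw [hker]
      exact Ideal.subset_span ⟨a, rfl⟩
    show (U.topIso.inv ≫ j₀.appTop) (w ⟨Sum.inr a⟩) = 0
    rw [hj, CommRingCat.comp_apply, RingHom.mem_ker.mp hm, map_zero]
  let Zm := AffineSpace.homOfVector (𝔸(ULift.{u} (Fin m); S) ↘ S)
    (fun j : ι => Sum.elim (fun a => AffineSpace.coord S (ULift.up a)) (fun _ => 0) j.down)
  let rd : 𝔸(ι; S) ⟶ 𝔸(ULift.{u} (Fin m); S) := AffineSpace.reindex (fun a => ⟨Sum.inl a.down⟩) S
  have hZr : Zm ≫ rd = 𝟙 _ := by
    refine AffineSpace.hom_ext (by simp [Zm, rd]) fun a => ?_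
    simp [Zm, rd]
  let ρ := j₀ ≫ π ≫ rd
  have hsq : ρ ≫ Zm = j₀ ≫ π := by
    refine AffineSpace.hom_ext (by simp [ρ, rd, Zm]) ?_
    rintro ⟨a | a⟩
    · simp [ρ, rd, Zm, π]
    · simpa [ρ, rd, Zm, π] using (hv0 a).symm
  refine ⟨U, m, r, π, ρ, hyU, hEt, AffineSpace.homOfVector_over _ _, ?_⟩
  haveI : Mono Zm := by
    haveI : IsSplitMono Zm := IsSplitMono.mk' ⟨rd, hZr⟩
    infer_instance
  haveI : IsAffine U := hU
  haveI : IsClosedImmersion j₀ := inferInstanceAs (IsClosedImmersion (i ∣_ U))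
  haveI : IsAffine (i ⁻¹ᵁ U).toScheme := hU.preimage i
  have hkerj : RingHom.ker j₀.appTop.hom ≤ Ideal.span (Set.range fun a : Fin r => v ⟨Sum.inr a⟩) := by
    intro z hz
    obtain ⟨z, rfl⟩ := (ConcreteCategory.bijective_of_isIso U.topIso.inv).2 z
    have hz' : i.app U z = 0 := by
      refine (ConcreteCategory.bijective_of_isIso (i ⁻¹ᵁ U).topIso.inv).1 ?_
      rw [map_zero, ← CommRingCat.comp_apply, ← hj]
      exact hz
    have hz'' : z ∈ RingHom.ker (i.app U).hom := hz'
    rw [hker] at hz''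
    have := Ideal.mem_map_of_mem U.topIso.inv.hom hz''
    rw [Ideal.map_span, ← Set.range_comp] at this
    refine Ideal.span_mono ?_ this
    rintro _ ⟨a, rfl⟩
    exact ⟨a, rfl⟩
  refine ⟨⟨hsq⟩, ⟨PullbackCone.IsLimit.mk _ (fun s => IsClosedImmersion.lift j₀ s.snd ?_) (fun s => ?_)
    (fun s => IsClosedImmersion.lift_fac _ _ _) fun s c _ hc => ?_⟩⟩
  · refine Scheme.IdealSheafData.le_ofIdeals_iff.mpr fun O => ?_
    show j₀.ker.ideal O ≤ RingHom.ker (s.snd.app O.1).hom
    rw [← j₀.ker.map_ideal (U := O) (V := ⟨⊤, isAffineOpen_top _⟩) (show O.1 ≤ ⊤ from le_top), Ideal.map_le_iff_le_comap,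
      Scheme.Hom.ker_apply, RingHom.comap_ker, ← CommRingCat.hom_comp, Scheme.Hom.naturality,
      CommRingCat.hom_comp, ← RingHom.comap_ker]
    refine le_trans ?_ (Ideal.ker_le_comap _)
    show RingHom.ker j₀.appTop.hom ≤ RingHom.ker s.snd.appTop.hom
    refine hkerj.trans (Ideal.span_le.mpr ?_)
    rintro _ ⟨a, rfl⟩
    exact appTop_eq_zero (U.ι ≫ pX) v _ _ s.fst s.snd s.condition ⟨Sum.inr a⟩ rfl
  · rw [← cancel_mono Zm, Category.assoc, hsq, ← Category.assoc, IsClosedImmersion.lift_fac]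
    exact s.condition.symm
  · exact (cancel_mono j₀).mp (hc.trans (IsClosedImmersion.lift_fac _ _ _).symm)

end Groth.Agent.H8Norm.SmoothCoords
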