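import Groth.Agent.H13CI.BlowSmooth
import Groth.Agent.H13CI.ExcSmooth
import Groth.Agent.H13CI.Syntomic
import Groth.Agent.H8Props.AlgSpLci.Lci
import Groth.Agent.H13CInt.NormalFlatHironaka
import Groth.Agent.S1677

/-!
# Blowing up a smooth pair
-/

set_option autoImplicit false
set_option linter.style.haveILetI false
set_option backward.isDefEq.respectTransparency false

universe u

open CategoryTheory CategoryTheory.Limits AlgebraicGeometry TopologicalSpace

namespace Groth.Agent.H8Norm.SmoothPair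

open Groth.Agent.H13CInt.GrQR in
/-- The ideal of a quasi-regular sequence is normally flat. -/
theorem isNormallyFlat_of_quasiRegular {R : Type u} [CommRing R] {r : ℕ} (f : Fin r → R)
    (hq : CAlgX.IsQuasiRegular f) : EGA4.IsNormallyFlat (Ideal.span (Set.range f)) R := fun m => by
  classical
  let I := Ideal.span (Set.range f)
  let v : Idx r m → Gr I m R := fun d =>
    Submodule.Quotient.mk ⟨mon f d.1, by rw [Ideal.smul_eq_mul, Ideal.mul_top]; exact mon_mem f d⟩
  let ψ : (Idx r m → R ⧸ I) →ₗ[R ⧸ I] Gr I m R := Fintype.linearCombination (R ⧸ I) v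
  have key : ∀ (c : Idx r m → R) (h : ev f m c ∈ I ^ m • (⊤ : Submodule R R)),
      ψ (fun d => Ideal.Quotient.mk I (c d)) = Submodule.Quotient.mk ⟨ev f m c, h⟩ := fun c h => by
    rw [Fintype.linearCombination_apply]
    have : (⟨ev f m c, h⟩ : ↥(I ^ m • (⊤ : Submodule R R))) =
        ∑ d, c d • (⟨mon f d.1, by rw [Ideal.smul_eq_mul, Ideal.mul_top]; exact mon_mem f d⟩ :
          ↥(I ^ m • (⊤ : Submodule R R))) := by
      apply Subtype.ext
      simp [ev_apply, mul_comm]
    rw [this, ← Submodule.mkQ_apply, map_sum]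
    refine Finset.sum_congr rfl fun d _ => ?_
    rw [map_smul]
    rfl
  have hbij : Function.Bijective ψ := by
    refine ⟨(injective_iff_map_eq_zero _).2 fun w hw => funext fun d => ?_, fun z => ?_⟩
    · choose c hc using fun d => Ideal.Quotient.mk_surjective (w d)
      have hw' : w = fun d => Ideal.Quotient.mk I (c d) := funext fun d => (hc d).symm
      rw [hw', key c (ev_mem f c), mk_eq_zero_iff] at hw
      rw [hw', Pi.zero_apply, Ideal.Quotient.eq_zero_iff_mem]
      refine H13CInt.NFHiro.coeff_mem f hq c ?_ d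
      rwa [Ideal.smul_eq_mul, Ideal.mul_top] at hw
    · obtain ⟨⟨x, hx⟩, rfl⟩ := Submodule.Quotient.mk_surjective _ z
      obtain ⟨c, rfl⟩ := exists_ev f hx
      exact ⟨_, key c hx⟩
  exact Module.Flat.of_linearEquiv (LinearEquiv.ofBijective ψ hbij).symm

/-- The ideal of a regular closed immersion is normally flat at each point. -/
theorem isNormallyFlat_ker_stalkMap {Z X : Scheme.{u}} (i : Z ⟶ X) (hi : Mor2.IsRegularClosedImmersion i)
    (z : Z) : EGA4.IsNormallyFlat (RingHom.ker (i.stalkMap z).hom) ↑(X.presheaf.stalk (i z)) := by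
  haveI := hi.1
  obtain ⟨U, hU, hz, rs, hrs, hI⟩ := hi.2 z
  let γ := (X.presheaf.germ U (i z) hz).hom
  letI : Algebra Γ(X, U) (X.presheaf.stalk (i z)) := γ.toAlgebra
  haveI : IsLocalization.AtPrime (X.presheaf.stalk (i z)) (hU.primeIdealOf ⟨i z, hz⟩).asIdeal :=
    hU.isLocalization_stalk ⟨i z, hz⟩
  have hq := H29Slice.isQuasiRegular_localization (L := X.presheaf.stalk (i z))
    (hU.primeIdealOf ⟨i z, hz⟩).asIdeal.primeCompl
    (H06QR.Regular.isQuasiRegular_of_isWeaklyRegular rs.get (by rw [List.ofFn_get]; exact hrs.toIsWeaklyRegular))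
  have e : RingHom.ker (i.stalkMap z).hom = Ideal.span (Set.range fun k => γ (rs.get k)) := by
    rw [_root_.H13CInt.ker_stalkMap i z ⟨U, hU⟩ hz, hI, Ideal.ofList, Ideal.map_span]
    congr 1
    rw [← Set.range_list_get, ← Set.range_comp]
    rfl
  rw [e]
  exact isNormallyFlat_of_quasiRegular _ hq

theorem main {Z X X' S : Scheme.{u}} (q : X ⟶ S) [Smooth q] (i : Z ⟶ X) [IsClosedImmersion i]
    [Smooth (i ≫ q)] (b : X' ⟶ X) (hb : BlowUp.IsBlowUp b i.ker) :
    Smooth (b ≫ q) ∧ Smooth ((BlowUp.exceptional b i.ker).subschemeι ≫ b ≫ q) := by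
  let I := i.ker
  let j := I.subschemeι
  have hj : Smooth (j ≫ q) := by
    rw [← MorphismProperty.cancel_left_of_respectsIso @Smooth i.toImage, ← Category.assoc,
      show i.toImage ≫ j = i from i.toImage_imageι]
    infer_instance
  have hreg : Mor2.IsRegularClosedImmersion j :=
    S1677.result q j ((H13CI.isSyntomicMor_iff_isCIMorphism _).1
      (H8Props.AlgSpLci.isSyntomicMor_of_smooth _))
  have hjk : j.ker = I := Scheme.IdealSheafData.ker_subschemeι _
  let E := BlowUp.exceptional b I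
  have hle : j.ker ≤ (E.subschemeι ≫ b).ker := by
    rw [hjk, ← Scheme.IdealSheafData.map_ker, Scheme.IdealSheafData.ker_subschemeι]
    exact Scheme.IdealSheafData.le_map_iff_comap_le.2 le_rfl
  let f : E.subscheme ⟶ I.subscheme := IsClosedImmersion.lift j (E.subschemeι ≫ b) hle
  have hf : f ≫ j = E.subschemeι ≫ b := IsClosedImmersion.lift_fac _ _ _
  have hfs : Smooth f := by
    have key : ∀ (K : X.IdealSheafData) (hK : K = j.ker) (g : (BlowUp.exceptional b K).subscheme ⟶ I.subscheme),
        BlowUp.IsBlowUp b K → g ≫ j = (BlowUp.exceptional b K).subschemeι ≫ b → Smooth g := by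
      rintro _ rfl g hb' hg
      exact H13CI.ExcSmooth.smooth_exceptional j hreg b hb' g hg
    exact key I hjk.symm f hb hf
  haveI := hfs
  haveI := hj
  have hnf : ∀ y, EGA4.IsNormallyFlat (RingHom.ker (j.stalkMap y).hom) ↑(X.presheaf.stalk (j y)) :=
    fun y => isNormallyFlat_ker_stalkMap j hreg y
  have hE : Smooth (E.subschemeι ≫ b ≫ q) := by
    rw [← reassoc_of% hf]
    infer_instance
  refine ⟨?_, hE⟩
  obtain ⟨⟨hlfp, _, _⟩, -⟩ := H13CI.NormalFlat.main_scheme q I hnf b hb
  haveI := hlfp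
  rw [← Scheme.Hom.smoothLocus_eq_top_iff, eq_top_iff]
  intro x' _
  by_cases hx : x' ∈ E.support
  · obtain ⟨z, rfl⟩ : x' ∈ Set.range E.subschemeι := by
      rw [Scheme.IdealSheafData.range_subschemeι]; exact hx
    exact (H17.LocusBC.mem_smoothLocus_iff_exists _ _).mpr
      (H13CI.BlowSmooth.mem_smoothLocus q I hnf b hb f hf z ⟨⊤, trivial, inferInstance⟩)
  · let O : X.Opens := ⟨(I.support : Set X)ᶜ, I.support.isClosed.isOpen_compl⟩
    haveI : IsIso (b ∣_ O) := _root_.H29Blow.isIso_morphismRestrict hb O fun _ h => h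
    have hxO : x' ∈ b ⁻¹ᵁ O := fun h => hx (by
      rw [show E.support = (I.comap b).support from rfl, Scheme.IdealSheafData.support_comap]
      exact h)
    have hs : Smooth ((b ⁻¹ᵁ O).ι ≫ b ≫ q) := by
      rw [← morphismRestrict_ι_assoc]; infer_instance
    exact (H17.LocusBC.mem_smoothLocus_iff_exists _ _).mpr ⟨_, hxO, hs⟩

end Groth.Agent.H8Norm.SmoothPair
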