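import Groth.Agent.H4DR.TorAmp.AwayQuot
import Groth.Agent.H7Flat.GenericFreeness
import Groth.Agent.H12AlgSp.EtaleSourceAlg
import Mathlib.RingTheory.Extension.Presentation.Core

/-!
# Exactness of `P ⊗ N` in negative degrees descends along surjective finitely presented algebras
-/

set_option autoImplicit false
set_option linter.style.haveILetI false
set_option backward.isDefEq.respectTransparency false
set_option maxHeartbeats 1000000
set_option synthInstance.maxHeartbeats 400000

universe u

open CategoryTheory CategoryTheory.Limits MonoidalCategory TensorProduct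
open Groth.Agent.H4DR.TorAmp

attribute [local instance] HasDerivedCategory.standard

namespace Groth.Agent.H8Norm.TorDescent

variable {A : Type u} [CommRing A]

/-- `P ⊗ N` is exact in negative degrees. -/
def Ex (P : DRing.Cx A) (N : Type u) [AddCommGroup N] [Module A N] : Prop :=
  ∀ i : ℤ, i < 0 → ((tens (ModuleCat.of A N)).obj P).ExactAt i

theorem exactAt_iff (P : DRing.Cx A) (N : Type u) [AddCommGroup N] [Module A N] (i : ℤ) :
    ((tens (ModuleCat.of A N)).obj P).ExactAt i ↔
      Function.Exact ((P.d (i - 1) i).hom.lTensor N) ((P.d i (i + 1)).hom.lTensor N) := by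
  rw [HomologicalComplex.exactAt_iff' _ (i - 1) i (i + 1) (by simp) (by simp),
    ShortComplex.ShortExact.moduleCat_exact_iff_function_exact]
  refine (Function.Exact.iff_of_ladder_linearEquiv (f₁₂ := (P.d (i - 1) i).hom.lTensor N)
    (f₂₃ := (P.d i (i + 1)).hom.lTensor N) (g₁₂ := (P.d (i - 1) i).hom.rTensor N)
    (g₂₃ := (P.d i (i + 1)).hom.rTensor N)
    (e₁ := TensorProduct.comm A _ _) (e₂ := TensorProduct.comm A _ _) (e₃ := TensorProduct.comm A _ _) ?_ ?_)
  · exact TensorProduct.ext' fun _ _ => rfl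
  · exact TensorProduct.ext' fun _ _ => rfl

theorem Ex.congr {P : DRing.Cx A} {N N' : Type u} [AddCommGroup N] [Module A N] [AddCommGroup N']
    [Module A N'] (e : N ≃ₗ[A] N') (h : Ex P N) : Ex P N' := fun i hi => by
  refine (exactAt_iff P N' i).2 ((Function.Exact.iff_of_ladder_linearEquiv
    (e₁ := TensorProduct.congr e (LinearEquiv.refl A _)) (e₂ := TensorProduct.congr e (LinearEquiv.refl A _))
    (e₃ := TensorProduct.congr e (LinearEquiv.refl A _)) ?_ ?_).2 ((exactAt_iff P N i).1 (h i hi)))
  · exact TensorProduct.ext' fun _ _ => rfl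
  · exact TensorProduct.ext' fun _ _ => rfl

/-- Faithfully flat descent. -/
theorem ex_of_faithfullyFlat {A' B' : Type u} [CommRing A'] [CommRing B'] [Algebra A A'] [Algebra A' B']
    [Algebra A B'] [IsScalarTower A A' B'] [Module.FaithfullyFlat A' B'] {P : DRing.Cx A}
    (h : ∀ (V : Type u) [AddCommGroup V] [Module A V] [Module B' V] [IsScalarTower A B' V], Ex P V)
    (W : Type u) [AddCommGroup W] [Module A W] [Module A' W] [IsScalarTower A A' W] : Ex P W := by
  intro i hi
  rw [exactAt_iff]
  have hV := (exactAt_iff P (B' ⊗[A'] W) i).1 (h _ i hi)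
  refine Module.FaithfullyFlat.lTensor_reflects_exact A' B'
    (AlgebraTensorModule.lTensor A' W (P.d (i - 1) i).hom) (AlgebraTensorModule.lTensor A' W (P.d i (i + 1)).hom) ?_
  refine (Function.Exact.iff_of_ladder_linearEquiv
    (f₁₂ := ((AlgebraTensorModule.lTensor A' W (P.d (i - 1) i).hom).lTensor B').restrictScalars A)
    (f₂₃ := ((AlgebraTensorModule.lTensor A' W (P.d i (i + 1)).hom).lTensor B').restrictScalars A)
    (e₁ := ((AlgebraTensorModule.assoc A A' A' B' W _).restrictScalars A).symm)
    (e₂ := ((AlgebraTensorModule.assoc A A' A' B' W _).restrictScalars A).symm)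
    (e₃ := ((AlgebraTensorModule.assoc A A' A' B' W _).restrictScalars A).symm) ?_ ?_).1 hV
  all_goals
    refine LinearMap.ext fun z => ?_
    induction z using TensorProduct.induction_on with
    | zero => simp
    | add a b ha hb => rw [map_add, map_add, ha, hb]
    | tmul b w =>
      induction w using TensorProduct.induction_on with
      | zero => simp
      | add a c ha hc => rw [tmul_add, map_add, map_add, ha, hc]
      | tmul w p => simp

/-- A union of an increasing sequence. -/
theorem ex_of_union {P : DRing.Cx A} (hfl : DRing.TermwiseFlat P) {N : Type u} [AddCommGroup N] [Module A N]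
    (T : ℕ → Submodule A N) (hmono : Monotone T) (hcov : ∀ x, ∃ n, x ∈ T n) (h : ∀ n, Ex P (T n)) :
    Ex P N := by
  intro i hi
  rw [exactAt_iff]
  intro x
  constructor
  · intro hx
    have hr : ∀ {m n : ℕ}, m ≤ n →
        LinearMap.range ((T m).subtype.rTensor (P.X i)) ≤ LinearMap.range ((T n).subtype.rTensor (P.X i)) :=
      fun hmn => by
        rw [← Submodule.subtype_comp_inclusion _ _ (hmono hmn), LinearMap.rTensor_comp]
        exact LinearMap.range_comp_le_range _ _
    have hex : ∀ z : N ⊗[A] (P.X i), ∃ n, z ∈ LinearMap.range ((T n).subtype.rTensor (P.X i)) := by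
      intro z
      induction z using TensorProduct.induction_on with
      | zero => exact ⟨0, zero_mem _⟩
      | tmul y p =>
        obtain ⟨n, hn⟩ := hcov y
        exact ⟨n, ⟨(⟨y, hn⟩ : T n) ⊗ₜ p, rfl⟩⟩
      | add a b ha hb =>
        obtain ⟨m, hm⟩ := ha
        obtain ⟨n, hn⟩ := hb
        exact ⟨max m n, add_mem (hr (le_max_left m n) hm) (hr (le_max_right m n) hn)⟩
    obtain ⟨n, z, hz⟩ := hex x
    have h1 : (P.d i (i + 1)).hom.lTensor (T n) z = 0 := by
      haveI := hfl (i + 1)
      refine Module.Flat.rTensor_preserves_injective_linearMap (M := P.X (i + 1)) _ (T n).injective_subtype ?_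
      rw [map_zero, ← LinearMap.comp_apply, LinearMap.rTensor_comp_lTensor, ← LinearMap.lTensor_comp_rTensor,
        LinearMap.comp_apply, hz]
      exact hx
    obtain ⟨w, hw⟩ := ((exactAt_iff P (T n) i).1 (h n i hi) z).1 h1
    refine ⟨(T n).subtype.rTensor (P.X (i - 1)) w, ?_⟩
    rw [← hz, ← hw, ← LinearMap.comp_apply, LinearMap.lTensor_comp_rTensor, ← LinearMap.rTensor_comp_lTensor]
    rfl
  · rintro ⟨y, rfl⟩
    rw [← LinearMap.comp_apply, ← LinearMap.lTensor_comp, ← ModuleCat.hom_comp, P.d_comp_d]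
    simp

theorem ex_of_submodule {P : DRing.Cx A} (hfl : DRing.TermwiseFlat P) {N : Type u} [AddCommGroup N]
    [Module A N] (K : Submodule A N) (hK : Ex P K) (hQ : Ex P (N ⧸ K)) : Ex P N :=
  fun i hi => exactAt_tens_of_submodule hfl i (ModuleCat.of A N) K (hK i hi) (hQ i hi)

/-- Exactness in negative degrees only has to be tested on modules over a finitely presented algebra
with surjective spectrum map, stated through a model over a Noetherian ring. -/
theorem ex_of_model {A₀ : Type u} [CommRing A₀] [IsNoetherianRing A₀] [Algebra A₀ A] (B₀ : Type u)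
    [CommRing B₀] [Algebra A₀ B₀] [Algebra.FiniteType A₀ B₀]
    (hsurj : Function.Surjective (PrimeSpectrum.comap (algebraMap A (A ⊗[A₀] B₀))))
    {P : DRing.Cx A} (hfl : DRing.TermwiseFlat P)
    (hB : ∀ (V : Type u) [AddCommGroup V] [Module A V] [Module (A ⊗[A₀] B₀) V]
      [IsScalarTower A (A ⊗[A₀] B₀) V], Ex P V)
    (N : Type u) [AddCommGroup N] [Module A N] : Ex P N := by
  suffices key : ∀ (J : Ideal A₀) (M : Type u) [AddCommGroup M] [Module A M],
      (∀ a ∈ J, ∀ x : M, algebraMap A₀ A a • x = 0) → Ex P M from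
    key ⊥ N fun a ha x => by rw [(Submodule.mem_bot A₀).1 ha, map_zero, zero_smul]
  by_contra hcon
  obtain ⟨(J : Ideal A₀), hJ, hmax⟩ := set_has_maximal_iff_noetherian.mpr ‹IsNoetherianRing A₀›
    {J : Ideal A₀ | ¬ ∀ (M : Type u) [AddCommGroup M] [Module A M],
      (∀ a ∈ J, ∀ x : M, algebraMap A₀ A a • x = 0) → Ex P M}
    (by rw [Set.nonempty_def]; exact not_forall.mp hcon)
  have hgt : ∀ J', J < J' → ∀ (M : Type u) [AddCommGroup M] [Module A M],
      (∀ a ∈ J', ∀ x : M, algebraMap A₀ A a • x = 0) → Ex P M := fun J' hlt => by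
    by_contra h
    exact hmax J' h hlt
  refine hJ ?_
  intro M _ _ hM
  by_cases htop : J = ⊤
  · haveI : Subsingleton M := subsingleton_of_forall_eq 0 fun x => by
      have := hM 1 (htop ▸ Submodule.mem_top) x
      rwa [map_one, one_smul] at this
    intro i _
    rw [exactAt_iff]
    haveI : Subsingleton (M ⊗[A] (P.X i)) :=
      subsingleton_of_forall_eq 0 fun z => by
        induction z using TensorProduct.induction_on with
        | zero => rfl
        | tmul m p => rw [Subsingleton.elim m 0, zero_tmul]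
        | add a b ha hb => rw [ha, hb, add_zero]
    exact fun y => ⟨fun _ => ⟨0, Subsingleton.elim _ _⟩, fun _ => by rw [Subsingleton.elim y 0, map_zero]⟩
  by_cases hp : Ideal.IsPrime J
  swap
  · rw [Ideal.isPrime_iff] at hp
    push Not at hp
    obtain ⟨a, b, hab, ha, hb⟩ := hp htop
    let K : Submodule A M := LinearMap.range (LinearMap.lsmul A M (algebraMap A₀ A b))
    refine ex_of_submodule hfl K
      (hgt (J ⊔ Ideal.span {a}) (lt_of_le_of_ne le_sup_left fun e =>
        ha (e ▸ Ideal.mem_sup_right (Ideal.mem_span_singleton_self a))) _ ?_)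
      (hgt (J ⊔ Ideal.span {b}) (lt_of_le_of_ne le_sup_left fun e =>
        hb (e ▸ Ideal.mem_sup_right (Ideal.mem_span_singleton_self b))) _ ?_)
    · intro c hc x
      obtain ⟨j, hj, d, hd, rfl⟩ := Submodule.mem_sup.1 hc
      obtain ⟨d, rfl⟩ := Ideal.mem_span_singleton'.1 hd
      obtain ⟨y, hy⟩ := x.2
      refine Subtype.ext ?_
      show algebraMap A₀ A (j + d * a) • (x.1 : M) = 0
      rw [map_add, add_smul, hM j hj, zero_add, ← hy]
      show algebraMap A₀ A (d * a) • algebraMap A₀ A b • y = 0
      rw [smul_smul, ← map_mul, mul_assoc, map_mul, mul_smul, hM _ hab, smul_zero]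
    · intro c hc x
      obtain ⟨m, rfl⟩ := Submodule.Quotient.mk_surjective _ x
      obtain ⟨j, hj, d, hd, rfl⟩ := Submodule.mem_sup.1 hc
      obtain ⟨d, rfl⟩ := Ideal.mem_span_singleton'.1 hd
      rw [← Submodule.Quotient.mk_smul, map_add, add_smul, hM j hj, zero_add, Submodule.Quotient.mk_eq_zero]
      refine ⟨algebraMap A₀ A d • m, ?_⟩
      show algebraMap A₀ A b • algebraMap A₀ A d • m = algebraMap A₀ A (d * b) • m
      rw [smul_smul, ← map_mul, mul_comm b d]
  -- the prime case
  let D := A₀ ⧸ J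
  let E := D ⊗[A₀] B₀
  obtain ⟨c, hc, hfree⟩ := H7Flat.exists_isAwayFree_of_finiteType (R := D) E E
  obtain ⟨c₀, rfl⟩ := Ideal.Quotient.mk_surjective c
  have hc₀ : c₀ ∉ J := fun h => hc (Ideal.Quotient.eq_zero_iff_mem.2 h)
  let f : A := algebraMap A₀ A c₀
  have htors : ∀ (T : Type u) [AddCommGroup T] [Module A T], (∀ a ∈ J, ∀ x : T, algebraMap A₀ A a • x = 0) →
      (∀ x : T, ∃ n : ℕ, f ^ n • x = 0) → Ex P T := by
    intro T _ _ hT hn
    refine ex_of_union hfl (fun n => LinearMap.ker (LinearMap.lsmul A T (f ^ n))) ?_ hn fun n =>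
      hgt (J ⊔ Ideal.span {c₀ ^ n}) (lt_of_le_of_ne le_sup_left fun e =>
        hc₀ (Ideal.IsPrime.mem_of_pow_mem hp n (e ▸ Ideal.mem_sup_right (Ideal.mem_span_singleton_self _)))) _ ?_
    · intro m k hmk x hx
      obtain ⟨l, rfl⟩ := Nat.exists_eq_add_of_le hmk
      show f ^ (m + l) • x = 0
      rw [pow_add, mul_comm, mul_smul, show f ^ m • x = 0 from hx, smul_zero]
    · intro a ha x
      obtain ⟨j, hj, d, hd, rfl⟩ := Submodule.mem_sup.1 ha
      obtain ⟨d, rfl⟩ := Ideal.mem_span_singleton'.1 hd
      refine Subtype.ext ?_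
      show algebraMap A₀ A (j + d * c₀ ^ n) • (x.1 : T) = 0
      rw [map_add, add_smul, hT j hj, zero_add, map_mul, mul_smul, map_pow,
        show f ^ n • (x.1 : T) = 0 from x.2, smul_zero]
  let I : Ideal A := J.map (algebraMap A₀ A)
  let Ab := A ⧸ I
  have hMI : Module.IsTorsionBySet A M (I : Set A) := fun x a => by
    have : I ≤ LinearMap.ker ((LinearMap.lsmul A M).flip x) := Ideal.map_le_iff_le_comap.2 fun b hb =>
      show algebraMap A₀ A b • x = 0 from hM b hb x
    exact this a.2
  letI : Module Ab M := hMI.module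
  haveI : IsScalarTower A Ab M := IsScalarTower.of_algebraMap_smul fun _ _ => rfl
  let fb : Ab := Ideal.Quotient.mk I f
  let W := LocalizedModule (Submonoid.powers fb) M
  let ι₀ : M →ₗ[Ab] W := LocalizedModule.mkLinearMap (Submonoid.powers fb) M
  haveI : IsScalarTower A Ab W := inferInstance
  let ι : M →ₗ[A] W := ι₀.restrictScalars A
  have hW : ∀ a ∈ J, ∀ x : W, algebraMap A₀ A a • x = 0 := fun a ha x => by
    rw [← algebraMap_smul Ab (algebraMap A₀ A a) x, Ideal.Quotient.algebraMap_eq,
      Ideal.Quotient.eq_zero_iff_mem.2 (Ideal.mem_map_of_mem _ ha), zero_smul]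
  -- the faithfully flat algebra
  let Dc := Localization.Away (Ideal.Quotient.mk J c₀)
  let A' := Localization.Away fb
  let B' := A' ⊗[A] (A ⊗[A₀] B₀)
  have hDA : J ≤ I.comap (algebraMap A₀ A) := Ideal.le_comap_map
  let ρ : D →+* A' := (algebraMap Ab A').comp (Ideal.quotientMap I (algebraMap A₀ A) hDA)
  have hρ : IsUnit (ρ (Ideal.Quotient.mk J c₀)) :=
    IsLocalization.Away.algebraMap_isUnit (S := A') fb
  let ρ' : Dc →+* A' := IsLocalization.Away.lift (Ideal.Quotient.mk J c₀) hρ
  letI : Algebra Dc A' := ρ'.toAlgebra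
  haveI : IsScalarTower A₀ Dc A' := IsScalarTower.of_algebraMap_eq fun a => by
    show _ = ρ' (algebraMap D Dc (Ideal.Quotient.mk J a))
    rw [IsLocalization.Away.lift_eq]
    rfl
  haveI : Module.Free Dc (Dc ⊗[D] E) := hfree.free_baseChange
  haveI : Module.Flat Dc (Dc ⊗[A₀] B₀) :=
    Module.Flat.of_linearEquiv (AlgebraTensorModule.cancelBaseChange A₀ D Dc Dc B₀).symm
  haveI : Module.Flat A' (A' ⊗[A₀] B₀) :=
    Module.Flat.of_linearEquiv (AlgebraTensorModule.cancelBaseChange A₀ Dc A' A' B₀).symm
  haveI : Module.Flat A' B' :=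
    Module.Flat.of_linearEquiv (AlgebraTensorModule.cancelBaseChange A₀ A A' A' B₀)
  haveI : Module.FaithfullyFlat A' B' := Module.FaithfullyFlat.of_comap_surjective fun p =>
    H12AlgSp.EtaleSource.exists_prime_tensor p (hsurj _)
  haveI : IsScalarTower A A' W := IsScalarTower.of_algebraMap_smul fun a w => by
    rw [IsScalarTower.algebraMap_apply A Ab A', algebraMap_smul, algebraMap_smul]
  have hExW : Ex P W := ex_of_faithfullyFlat (A' := A') (B' := B') (fun V _ _ _ _ => by
    letI : Module (A ⊗[A₀] B₀) V := Module.compHom V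
      (Algebra.TensorProduct.includeRight : A ⊗[A₀] B₀ →ₐ[A] B').toRingHom
    haveI : IsScalarTower A (A ⊗[A₀] B₀) V := IsScalarTower.of_algebraMap_smul fun a v => by
      show (Algebra.TensorProduct.includeRight : A ⊗[A₀] B₀ →ₐ[A] B') (algebraMap A _ a) • v = a • v
      rw [AlgHom.commutes, algebraMap_smul]
    exact hB V) W
  let K : Submodule A M := LinearMap.ker ι
  refine ex_of_submodule hfl K (htors K (fun a ha x => Subtype.ext (hM a ha x.1)) fun x => ?_) ?_
  · obtain ⟨_, ⟨n, rfl⟩, hn⟩ := (LocalizedModule.mem_ker_mkLinearMap_iff (S := Submonoid.powers fb)).1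
      (show (x.1 : M) ∈ LinearMap.ker ι₀ from x.2)
    refine ⟨n, Subtype.ext ?_⟩
    show f ^ n • (x.1 : M) = 0
    rw [← algebraMap_smul Ab (f ^ n) (x.1 : M), map_pow]
    exact hn
  · let j : (M ⧸ K) →ₗ[A] W := K.liftQ ι le_rfl
    have hj : Function.Injective j := LinearMap.ker_eq_bot.1 (Submodule.ker_liftQ_eq_bot _ _ le_rfl le_rfl)
    have hcok : Ex P (W ⧸ LinearMap.range j) := htors _ (fun a ha y => by
        obtain ⟨w, rfl⟩ := Submodule.Quotient.mk_surjective _ y
        rw [← Submodule.Quotient.mk_smul, hW a ha]; rfl) fun y => by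
      obtain ⟨w, rfl⟩ := Submodule.Quotient.mk_surjective _ y
      induction w using LocalizedModule.induction_on with
      | _ m s =>
        obtain ⟨_, n, rfl⟩ := s
        refine ⟨n, ?_⟩
        rw [← Submodule.Quotient.mk_smul, Submodule.Quotient.mk_eq_zero]
        refine ⟨K.mkQ m, ?_⟩
        show ι₀ m = f ^ n • LocalizedModule.mk m _
        rw [← algebraMap_smul Ab (f ^ n) (LocalizedModule.mk m _), map_pow, LocalizedModule.smul'_mk,
          LocalizedModule.mkLinearMap_apply]
        exact (LocalizedModule.mk_cancel (⟨fb ^ n, n, rfl⟩ : Submonoid.powers fb) m).symm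
    exact fun i hi => AwayQuot.exactAt_sub hfl j (LinearMap.range j).mkQ
      (fun y => by rw [Submodule.mkQ_apply, Submodule.Quotient.mk_eq_zero]; rfl) hj
      (Submodule.mkQ_surjective _) i (hExW i hi) (hcok (i - 1) (by omega))

/-- Exactness in negative degrees descends along a surjective finitely presented algebra. -/
theorem ex_of_finitePresentation {B : Type u} [CommRing B] [Algebra A B] [Algebra.FinitePresentation A B]
    (hsurj : Function.Surjective (PrimeSpectrum.comap (algebraMap A B)))
    {P : DRing.Cx A} (hfl : DRing.TermwiseFlat P)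
    (hB : ∀ (V : Type u) [AddCommGroup V] [Module A V] [Module B V] [IsScalarTower A B V], Ex P V)
    (N : Type u) [AddCommGroup N] [Module A N] : Ex P N := by
  let Q := Algebra.Presentation.ofFinitePresentation A B
  haveI : IsNoetherianRing Q.Core := Algebra.FiniteType.isNoetherianRing ℤ Q.Core
  let e := Q.tensorModelOfHasCoeffsEquiv Q.Core
  refine ex_of_model (A₀ := Q.Core) (Q.ModelOfHasCoeffs Q.Core) ?_ hfl (fun V _ _ _ _ => ?_) N
  · intro p
    obtain ⟨q, hq⟩ := hsurj p
    refine ⟨q.comap e.toRingHom, ?_⟩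
    rw [← hq]
    refine PrimeSpectrum.ext ?_
    show (q.asIdeal.comap e.toRingHom).comap (algebraMap A _) = q.asIdeal.comap (algebraMap A B)
    rw [Ideal.comap_comap]
    congr 1
    exact e.toAlgHom.comp_algebraMap
  · letI : Module B V := Module.compHom V e.symm.toRingHom
    haveI : IsScalarTower A B V := IsScalarTower.of_algebraMap_smul fun a v => by
      show e.symm (algebraMap A B a) • v = a • v
      rw [AlgEquiv.commutes, algebraMap_smul]
    exact hB V

end Groth.Agent.H8Norm.TorDescent
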