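import Groth.Agent.H3CAlg.UnibranchInj
import Groth.Agent.H05EGA4.UnibranchBaseChange
import Groth.Agent.H06EGA14.UnivOpenNormal
import Groth.Agent.H06EGA9.FibreMap
import Groth.Agent.H8Norm.FibreComponentDims
import Groth.Agent.H12AlgSp.UnivInj

/-!
# The geometrically unibranch locus is constructible (EGA IV 9.7.10)
-/

set_option autoImplicit false
set_option linter.style.haveILetI false
set_option backward.isDefEq.respectTransparency false
universe u

open CategoryTheory CategoryTheory.Limits AlgebraicGeometry Topology TopologicalSpace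

namespace Groth.Agent.H8Norm.UnibranchLocus

theorem local_and_insep_closed {R C : Type u} [CommRing R] [IsLocalRing R] [CommRing C] [Nontrivial C]
    [Algebra R C] [Algebra.IsIntegral R C]
    (key : ∀ (L : Type u) [Field L] (ψ₁ ψ₂ : C →+* L),
      ψ₁.comp (algebraMap R C) = ψ₂.comp (algebraMap R C) →
        IsLocalRing.maximalIdeal R ≤ RingHom.ker (ψ₁.comp (algebraMap R C)) → ψ₁ = ψ₂) :
    IsLocalRing C ∧ ∀ (m' : Ideal C) [m'.IsMaximal] (x : C ⧸ m'),
      ∃ (n : ℕ) (r : R), Ideal.Quotient.mk m' (algebraMap R C r) = x ^ (ringExpChar (C ⧸ m')) ^ n := by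
  have hc : ∀ (N : Ideal C) [N.IsMaximal], N.comap (algebraMap R C) = IsLocalRing.maximalIdeal R :=
    fun N _ => IsLocalRing.eq_maximalIdeal (Ideal.isMaximal_comap_of_isIntegral_of_isMaximal N)
  let Ω := AlgebraicClosure (IsLocalRing.ResidueField R)
  refine ⟨?_, fun m' hm' x => ?_⟩
  · obtain ⟨M, hM⟩ := Ideal.exists_maximal C
    refine IsLocalRing.of_unique_max_ideal ⟨M, hM, fun M' hM' => ?_⟩
    haveI := hM
    haveI : M'.IsMaximal := hM'
    have hex : ∀ (N : Ideal C) [N.IsMaximal], ∃ ψ : C →+* Ω, RingHom.ker ψ = N ∧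
        ψ.comp (algebraMap R C) =
          (algebraMap (IsLocalRing.ResidueField R) Ω).comp (IsLocalRing.residue R) := by
      intro N _
      letI := Ideal.Quotient.field N
      let f : IsLocalRing.ResidueField R →+* C ⧸ N :=
        Ideal.quotientMap N (algebraMap R C) (hc N).ge
      letI := f.toAlgebra
      haveI : Algebra.IsAlgebraic (IsLocalRing.ResidueField R) (C ⧸ N) := by
        refine ⟨fun x => ?_⟩
        obtain ⟨x, rfl⟩ := Ideal.Quotient.mk_surjective x
        obtain ⟨q, hq, hq0⟩ := Algebra.IsIntegral.isIntegral (R := R) x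
        refine IsIntegral.isAlgebraic ⟨q.map (IsLocalRing.residue R), hq.map _, ?_⟩
        rw [Polynomial.eval₂_map]
        have := congr_arg (Ideal.Quotient.mk N) hq0
        rw [Polynomial.hom_eval₂, map_zero] at this
        exact this
      let σ : (C ⧸ N) →ₐ[IsLocalRing.ResidueField R] Ω := IsAlgClosed.lift
      refine ⟨σ.toRingHom.comp (Ideal.Quotient.mk N), ?_, RingHom.ext fun r => ?_⟩
      · rw [← RingHom.comap_ker, (RingHom.injective_iff_ker_eq_bot _).1 σ.toRingHom.injective,
          ← RingHom.ker_eq_comap_bot, Ideal.mk_ker]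
      · show σ (Ideal.Quotient.mk N (algebraMap R C r)) = algebraMap _ Ω (IsLocalRing.residue R r)
        rw [← AlgHom.commutes σ]; rfl
    obtain ⟨ψ, hψ, hψe⟩ := hex M
    obtain ⟨ψ', hψ', hψe'⟩ := hex M'
    rw [← hψ, ← hψ', key Ω ψ' ψ (hψe'.trans hψe.symm) (by
      rw [hψe', ← RingHom.comap_ker,
        (RingHom.injective_iff_ker_eq_bot (algebraMap (IsLocalRing.ResidueField R) Ω)).1
          (algebraMap (IsLocalRing.ResidueField R) Ω).injective,
        ← RingHom.ker_eq_comap_bot, IsLocalRing.ker_residue])]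
  · haveI := hm'
    letI := Ideal.Quotient.field m'
    let f : IsLocalRing.ResidueField R →+* C ⧸ m' := Ideal.quotientMap m' (algebraMap R C) (hc m').ge
    letI := f.toAlgebra
    haveI : IsPurelyInseparable (IsLocalRing.ResidueField R) (C ⧸ m') := by
      rw [isPurelyInseparable_iff_subsingleton_emb]
      refine ⟨fun σ τ => AlgHom.coe_ringHom_injective ?_⟩
      have h1 := key _ ((σ : C ⧸ m' →+* _).comp (Ideal.Quotient.mk m'))
        ((τ : C ⧸ m' →+* _).comp (Ideal.Quotient.mk m')) (RingHom.ext fun r => by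
          show σ (algebraMap (IsLocalRing.ResidueField R) (C ⧸ m') (IsLocalRing.residue R r)) =
            τ (algebraMap (IsLocalRing.ResidueField R) (C ⧸ m') (IsLocalRing.residue R r))
          rw [σ.commutes, τ.commutes]) (fun r hr => by
          show σ (Ideal.Quotient.mk m' (algebraMap R C r)) = 0
          rw [Ideal.Quotient.eq_zero_iff_mem.2 (Ideal.mem_comap.1 ((hc m').ge hr)), map_zero])
      exact Ideal.Quotient.ringHom_ext h1
    set q := ringExpChar (C ⧸ m') with hq
    haveI : ExpChar (C ⧸ m') q := ringExpChar.of_eq hq.symm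
    haveI : ExpChar (IsLocalRing.ResidueField R) q := (f.expChar_iff f.injective q).2 inferInstance
    obtain ⟨n, y, hy⟩ := IsPurelyInseparable.pow_mem (IsLocalRing.ResidueField R) q x
    obtain ⟨r, rfl⟩ := IsLocalRing.residue_surjective y
    exact ⟨n, r, hy⟩

section Domain

variable (D : Type u) [CommRing D] [IsDomain D]

/-- At most one geometric point over `p` in the normalization. -/
def OneBranch (p : PrimeSpectrum D) : Prop :=
  ∀ (L : Type u) [Field L] (φ₁ φ₂ : integralClosure D (FractionRing D) →+* L),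
    φ₁.comp (algebraMap D _) = φ₂.comp (algebraMap D _) →
    RingHom.ker (φ₁.comp (algebraMap D _)) = p.asIdeal → φ₁ = φ₂

theorem isGeomUnibranch_iff_oneBranch (p : PrimeSpectrum D) :
    CAlg2.IsGeomUnibranch (Localization.AtPrime p.asIdeal) ↔ OneBranch D p := by
  obtain ⟨hR, hdom, ⟨Θ⟩⟩ := H3CAlg.UnibranchInj.local_pieces p.asIdeal
  let R := CAlg2.red (Localization.AtPrime p.asIdeal)
  let K := FractionRing R
  haveI : IsLocalRing R := .of_surjective' (Ideal.Quotient.mk _) Ideal.Quotient.mk_surjective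
  let C := integralClosure R K
  constructor
  · intro h L _ φ₁ φ₂ e hker
    obtain ⟨⟨-, hloc⟩, hres⟩ := h
    haveI : IsLocalRing (integralClosure R K) := hloc
    have key := H17.UnibranchNormalization.eq_of_points (R := R) (K := K) p.asIdeal (fun z => by
      obtain ⟨n, r, hr⟩ := hres (IsLocalRing.maximalIdeal (integralClosure R K)) z
      exact ⟨n, Ideal.Quotient.mk _ r, hr⟩)
      (φ₁.comp Θ.symm.toAlgHom.toRingHom) (φ₂.comp Θ.symm.toAlgHom.toRingHom) (φ₁.comp (algebraMap D _))
      (RingHom.ext fun c => congr_arg φ₁ (Θ.symm.commutes c))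
      (RingHom.ext fun c => (congr_arg φ₂ (Θ.symm.commutes c)).trans (RingHom.congr_fun e c).symm) hker
    ext c
    obtain ⟨c, rfl⟩ := Θ.symm.surjective c
    exact RingHom.congr_fun key c
  · intro h
    let ι : integralClosure D K →+* C :=
      (integralClosure D K).val.toRingHom.codRestrict C.toSubring fun b => b.2.tower_top
    have hι : ∀ a, ι (algebraMap D _ a) = algebraMap R C (algebraMap D R a) := fun a =>
      Subtype.ext (IsScalarTower.algebraMap_apply D R K a)
    have hden : ∀ c : C, ∃ t : p.asIdeal.primeCompl, ∃ b, ι b = algebraMap R C (algebraMap D R t) * c := fun c => by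
      obtain ⟨t, ht⟩ := IsIntegral.exists_multiple_integral_of_isLocalization p.asIdeal.primeCompl (c : K) c.2
      exact ⟨t, ⟨_, ht⟩, Subtype.ext (by
        show (t : p.asIdeal.primeCompl) • (c : K) = algebraMap R K (algebraMap D R t) * c
        rw [Submonoid.smul_def, Algebra.smul_def, IsScalarTower.algebraMap_apply D R K])⟩
    have key : ∀ (L : Type u) [Field L] (ψ₁ ψ₂ : C →+* L),
        ψ₁.comp (algebraMap R C) = ψ₂.comp (algebraMap R C) →
        IsLocalRing.maximalIdeal R ≤ RingHom.ker (ψ₁.comp (algebraMap R C)) → ψ₁ = ψ₂ := by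
      intro L _ ψ₁ ψ₂ e' hmax
      have hA : ∀ a, ψ₁ (algebraMap R C (algebraMap D R a)) = ψ₂ (algebraMap R C (algebraMap D R a)) :=
        fun a => RingHom.congr_fun e' _
      have hkerR : RingHom.ker (ψ₁.comp (algebraMap R C)) = IsLocalRing.maximalIdeal R :=
        le_antisymm (IsLocalRing.le_maximalIdeal (RingHom.ker_ne_top _)) hmax
      have h2 := h L ((ψ₁.comp ι).comp Θ.toAlgHom.toRingHom) ((ψ₂.comp ι).comp Θ.toAlgHom.toRingHom)
        (RingHom.ext fun a => by
          show ψ₁ (ι (Θ (algebraMap D _ a))) = ψ₂ (ι (Θ (algebraMap D _ a)))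
          rw [AlgEquiv.commutes, hι, hA]) (by
        ext a
        show ψ₁ (ι (Θ (algebraMap D _ a))) = 0 ↔ _
        rw [AlgEquiv.commutes, hι, ← SetLike.ext_iff.1 (IsLocalization.AtPrime.under_maximalIdeal R p.asIdeal) a,
          Ideal.mem_comap, ← hkerR, RingHom.mem_ker]
        exact Iff.rfl)
      ext c
      obtain ⟨t, b, hb⟩ := hden c
      obtain ⟨b', rfl⟩ := Θ.surjective b
      have h3 : ψ₁ (ι (Θ b')) = ψ₂ (ι (Θ b')) := RingHom.congr_fun h2 b'
      rw [hb, map_mul, map_mul, hA] at h3
      exact mul_left_cancel₀ (((IsLocalization.map_units R t).map (algebraMap R C)).map ψ₂).ne_zero h3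
    obtain ⟨hloc, hins⟩ := local_and_insep_closed key
    refine ⟨⟨hdom, hloc⟩, fun m' hm' x => ?_⟩
    haveI := hm'
    obtain ⟨n, r, hr⟩ := hins m' x
    obtain ⟨o, rfl⟩ := Ideal.Quotient.mk_surjective r
    exact ⟨n, o, hr⟩

theorem isConstructible_oneBranch [IsNoetherianRing D] [Module.Finite D (integralClosure D (FractionRing D))] :
    IsConstructible {p : PrimeSpectrum D | OneBranch D p} := by
  let N := integralClosure D (FractionRing D)
  let φ := CommRingCat.ofHom (algebraMap D N)
  let ν := Spec.map φ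
  haveI : IsFinite ν := (IsFinite.SpecMap_iff φ).2 (RingHom.finite_algebraMap.2 inferInstance)
  haveI : IsLocallyNoetherian (Spec (CommRingCat.of D)) := inferInstance
  haveI : LocallyOfFinitePresentation ν := H12AlgSp.lfp_of_lft_of_isLocallyNoetherian ν
  haveI : LocallyOfFinitePresentation (pullback.fst ν ν) := MorphismProperty.pullback_fst _ _ ‹_›
  haveI : LocallyOfFiniteType (pullback.fst ν ν ≫ ν) := inferInstance
  haveI : IsLocallyNoetherian (pullback ν ν) := LocallyOfFiniteType.isLocallyNoetherian (pullback.fst ν ν ≫ ν)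
  haveI : LocallyOfFinitePresentation (pullback.diagonal ν) :=
    H12AlgSp.lfp_of_lft_of_isLocallyNoetherian _
  have hΔ : IsLocallyConstructible (Set.range (pullback.diagonal ν)) := by
    have h0 := (pullback.diagonal ν).isLocallyConstructible_image
      (s := Set.univ) IsConstructible.univ.isLocallyConstructible
    rwa [Set.image_univ] at h0
  have hE : IsConstructible {s : Spec (CommRingCat.of D) |
      (pullback.fst ν ν ≫ ν) ⁻¹' {s} ⊆ Set.range (pullback.diagonal ν)} :=
    (H06EGA9.isLocallyConstructible_setOf_fibre_subset _ hΔ).isConstructible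
  convert! hE using 1
  ext p
  constructor
  · intro h z hz
    let z' := (pullback ν ν).fromSpecResidueField z
    let L := (pullback ν ν).residueField z
    obtain ⟨a, ha⟩ := Spec.map_surjective (z' ≫ pullback.fst ν ν)
    obtain ⟨b, hb⟩ := Spec.map_surjective (z' ≫ pullback.snd ν ν)
    have hab : φ ≫ a = φ ≫ b := Spec.map_injective (by
      rw [Spec.map_comp, Spec.map_comp, ha, hb, Category.assoc, Category.assoc, pullback.condition])
    have hker : RingHom.ker (a.hom.comp (algebraMap D N)) = p.asIdeal := by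
      have h1 : (z' ≫ pullback.fst ν ν ≫ ν) (IsLocalRing.closedPoint L) = p := by
        rw [Scheme.Hom.comp_apply, show z' (IsLocalRing.closedPoint L) = z from Scheme.fromSpecResidueField_apply _ _]
        exact hz
      rw [← Category.assoc, ← ha, ← Spec.map_comp] at h1
      rw [← h1, RingHom.ker_eq_comap_bot, ← IsLocalRing.maximalIdeal_eq_bot (R := L)]
      rfl
    have e := h L a.hom b.hom congr(($hab).hom) hker
    have h2 : z' = (z' ≫ pullback.fst ν ν) ≫ pullback.diagonal ν := by
      refine pullback.hom_ext ?_ ?_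
      · rw [Category.assoc, pullback.diagonal_fst, Category.comp_id]
      · rw [Category.assoc, pullback.diagonal_snd, Category.comp_id, ← ha, ← hb, CommRingCat.hom_ext e]
    refine ⟨(z' ≫ pullback.fst ν ν) (IsLocalRing.closedPoint L), ?_⟩
    rw [← Scheme.Hom.comp_apply, ← h2]
    exact Scheme.fromSpecResidueField_apply _ _
  · intro h L _ φ₁ φ₂ e hker
    let a := CommRingCat.ofHom φ₁
    let b := CommRingCat.ofHom φ₂
    have hab : Spec.map a ≫ ν = Spec.map b ≫ ν := by
      rw [← Spec.map_comp, ← Spec.map_comp]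
      exact congrArg _ (CommRingCat.hom_ext e)
    let w : Spec (CommRingCat.of L) ⟶ pullback ν ν := pullback.lift _ _ hab
    have hw : Set.range w ⊆ Set.range (pullback.diagonal ν) := by
      rintro _ ⟨t, rfl⟩
      refine h ?_
      show (pullback.fst ν ν ≫ ν) (w t) = p
      rw [← Scheme.Hom.comp_apply, pullback.lift_fst_assoc, ← Spec.map_comp]
      obtain rfl : t = IsLocalRing.closedPoint L := Subsingleton.elim _ _
      refine PrimeSpectrum.ext ?_
      rw [← hker, RingHom.ker_eq_comap_bot, ← IsLocalRing.maximalIdeal_eq_bot (R := L)]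
      rfl
    obtain ⟨g, hg⟩ := H17.exists_lift_of_range_subset w (pullback.diagonal ν) hw
    have h1 : Spec.map a = g := by
      rw [← pullback.lift_fst _ _ hab]
      show w ≫ _ = g
      rw [← hg, Category.assoc, pullback.diagonal_fst, Category.comp_id]
    have h2 : Spec.map b = g := by
      rw [← pullback.lift_snd _ _ hab]
      show w ≫ _ = g
      rw [← hg, Category.assoc, pullback.diagonal_snd, Category.comp_id]
    exact congr(($(Spec.map_injective (h1.trans h2.symm))).hom)

end Domain

/-- The normalization of a component is finite if the normalization is. -/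
theorem finite_integralClosure_quotient (A : Type u) [CommRing A] [IsReduced A] [IsNoetherianRing A]
    [Module.Finite A (integralClosure A (FractionRing A))] (q : Ideal A) [q.IsPrime] (hq : q ∈ minimalPrimes A) :
    Module.Finite (A ⧸ q) (integralClosure (A ⧸ q) (FractionRing (A ⧸ q))) := by
  classical
  let K := FractionRing (A ⧸ q)
  let Q := FractionRing A
  have hK : ∀ a : A, algebraMap A K a = 0 ↔ a ∈ q := fun a => by
    rw [IsScalarTower.algebraMap_apply A (A ⧸ q) K, map_eq_zero_iff _ (IsFractionRing.injective (A ⧸ q) K)]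
    exact Ideal.Quotient.eq_zero_iff_mem
  have hnzd : ∀ s : nonZeroDivisors A, IsUnit (Algebra.ofId A K s.1) := fun s =>
    isUnit_iff_ne_zero.2 fun h =>
      Set.disjoint_left.1 (Ideal.disjoint_nonZeroDivisors_of_mem_minimalPrimes hq) ((hK _).1 h) s.2
  let π : Q →ₐ[A] K := IsLocalization.liftAlgHom hnzd
  have hfin : (minimalPrimes A).Finite := minimalPrimes.finite_of_isNoetherianRing A
  -- an element outside `q` killed by it, and an element of `q` in no other minimal prime
  obtain ⟨f, hf, hfq⟩ : ∃ f : A, (∀ q' ∈ minimalPrimes A, q' ≠ q → f ∈ q') ∧ f ∉ q := by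
    by_contra hcon
    push Not at hcon
    have hle : (hfin.toFinset.erase q).inf id ≤ q := fun f hf => hcon f fun q' hq' hne =>
      (Finset.inf_le (f := id) (Finset.mem_erase.2 ⟨hne, hfin.mem_toFinset.2 hq'⟩)) hf
    obtain ⟨q', hq', hle'⟩ := (inferInstance : q.IsPrime).inf_le'.1 hle
    obtain ⟨hne, hq'm⟩ := Finset.mem_erase.1 hq'
    exact hne (le_antisymm hle' (hq.2 (hfin.mem_toFinset.1 hq'm).1 hle'))
  obtain ⟨g, hgq, hg⟩ : ∃ g ∈ q, ∀ q' ∈ minimalPrimes A, q' ≠ q → g ∉ q' := by
    by_contra hcon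
    push Not at hcon
    have hsub : (q : Set A) ⊆ ⋃ q' ∈ (↑(hfin.toFinset.erase q) : Set (Ideal A)), (q' : Set A) := by
      intro g hg
      obtain ⟨q', hq', hne, hgq'⟩ := hcon g hg
      exact Set.mem_iUnion₂.2 ⟨q', Finset.mem_erase.2 ⟨hne, hfin.mem_toFinset.2 hq'⟩, hgq'⟩
    obtain ⟨q', hq', hle⟩ := (Ideal.subset_union_prime q q fun q' hq' _ _ =>
      ((hfin.mem_toFinset.1 (Finset.mem_erase.1 hq').2).1).1).1 hsub
    obtain ⟨hne, hq'm⟩ := Finset.mem_erase.1 hq'
    exact hne (le_antisymm ((hfin.mem_toFinset.1 hq'm).2 hq.1 hle) hle)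
  have hmem : ∀ a : A, (∀ q' ∈ minimalPrimes A, a ∈ q') → a = 0 := fun a ha => by
    have h0 : a ∈ nilradical A := by
      rw [nilradical, ← Ideal.sInf_minimalPrimes, Submodule.mem_sInf]
      exact ha
    exact (mem_nilradical.1 h0).eq_zero
  have hfq0 : ∀ c ∈ q, f * c = 0 := fun c hc => hmem _ fun q' hq' => by
    by_cases h : q' = q
    · exact h ▸ Ideal.mul_mem_left _ _ hc
    · exact Ideal.mul_mem_right _ _ (hf q' hq' h)
  have hsurj : ∀ x : K, IsIntegral A x → ∃ y : Q, IsIntegral A y ∧ π y = x := by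
    intro x hx
    obtain ⟨a, b, hb, rfl⟩ := IsFractionRing.div_surjective (A := A ⧸ q) x
    obtain ⟨a, rfl⟩ := Ideal.Quotient.mk_surjective a
    obtain ⟨b, rfl⟩ := Ideal.Quotient.mk_surjective b
    have hbq : b ∉ q := fun h => nonZeroDivisors.ne_zero hb (Ideal.Quotient.eq_zero_iff_mem.2 h)
    have hb1 : f * b + g ∈ nonZeroDivisors A := by
      have hnot : ∀ q' ∈ minimalPrimes A, f * b + g ∉ q' := fun q' hq' h => by
        haveI := hq'.1.1
        by_cases hne : q' = q
        · subst hne
          rcases Ideal.IsPrime.mem_or_mem ‹_› ((Ideal.add_mem_iff_left _ hgq).1 h) with h | h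
          exacts [hfq h, hbq h]
        · exact hg q' hq' hne ((Ideal.add_mem_iff_right _ (Ideal.mul_mem_right _ _ (hf q' hq' hne))).1 h)
      rw [mem_nonZeroDivisors_iff_right]
      intro c hc
      refine hmem c fun q' hq' => ?_
      haveI := hq'.1.1
      exact (Ideal.IsPrime.mem_or_mem ‹_› (hc.symm ▸ q'.zero_mem : c * (f * b + g) ∈ q')).resolve_right (hnot q' hq')
    let y : Q := IsLocalization.mk' Q (a * f) ⟨_, hb1⟩
    have hyg : ∀ c ∈ q, algebraMap A Q c * y = 0 := fun c hc => by
      rw [IsLocalization.mul_mk'_eq_mk'_of_mul, show c * (a * f) = a * (f * c) by ring, hfq0 c hc, mul_zero,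
        IsLocalization.mk'_zero]
    have hπy : π y = algebraMap (A ⧸ q) K (Ideal.Quotient.mk q a) / algebraMap (A ⧸ q) K (Ideal.Quotient.mk q b) := by
      have h1 := congrArg π (IsLocalization.mk'_spec Q (a * f) (⟨_, hb1⟩ : nonZeroDivisors A))
      rw [map_mul, AlgHom.commutes, AlgHom.commutes, map_add, map_mul, map_mul, (hK g).2 hgq, add_zero] at h1
      have hfK : algebraMap A K f ≠ 0 := fun h => hfq ((hK f).1 h)
      have hbK : algebraMap A K b ≠ 0 := fun h => hbq ((hK b).1 h)
      show π y = algebraMap A K a / algebraMap A K b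
      rw [eq_div_iff hbK]
      exact mul_right_cancel₀ hfK (by rw [← h1]; ring)
    refine ⟨y, ?_, hπy⟩
    obtain ⟨P, hP, hPx⟩ := hx
    refine ⟨Polynomial.X * P, Polynomial.monic_X.mul hP, ?_⟩
    rw [Polynomial.eval₂_mul, Polynomial.eval₂_X]
    obtain ⟨⟨c, s⟩, hcs⟩ := IsLocalization.surj (nonZeroDivisors A) (P.eval₂ (algebraMap A Q) y)
    have hcq : c ∈ q := by
      rw [← hK]
      have h2 := congrArg π hcs
      rw [map_mul, AlgHom.commutes, AlgHom.commutes] at h2
      rw [← h2]
      have h3 : π (P.eval₂ (algebraMap A Q) y) = 0 := by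
        rw [← hPx, ← hπy]
        exact (Polynomial.aeval_algHom_apply π y P).symm
      rw [h3, zero_mul]
    have h4 : y * P.eval₂ (algebraMap A Q) y * algebraMap A Q s.1 = 0 := by
      rw [mul_assoc, hcs, mul_comm, hyg c hcq]
    exact (IsLocalization.map_units Q s).mul_left_eq_zero.1 h4
  have heq : (integralClosure A Q).map π = integralClosure A K := by
    refine le_antisymm ?_ fun x hx => ?_
    · rintro _ ⟨y, hy, rfl⟩
      exact (hy : IsIntegral A y).map π
    · obtain ⟨y, hy, rfl⟩ := hsurj x hx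
      exact ⟨y, hy, rfl⟩
  haveI : Module.Finite A (integralClosure A K) := by
    rw [← heq]
    refine Module.Finite.of_surjective
      ((π.comp (integralClosure A Q).val).codRestrict ((integralClosure A Q).map π)
        (fun y => ⟨y.1, y.2, rfl⟩)).toLinearMap ?_
    rintro ⟨_, y, hy, rfl⟩
    exact ⟨⟨y, hy⟩, rfl⟩
  let e : integralClosure A K →ₗ[A] integralClosure (A ⧸ q) K :=
    { toFun := fun x => ⟨x.1, (x.2 : IsIntegral A x.1).tower_top⟩
      map_add' := fun _ _ => rfl
      map_smul' := fun _ _ => rfl }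
  haveI : Module.Finite A (integralClosure (A ⧸ q) K) :=
    Module.Finite.of_surjective e fun x => ⟨⟨x.1, isIntegral_trans x.1 x.2⟩, rfl⟩
  exact Module.Finite.of_restrictScalars_finite A (A ⧸ q) _

section Ring

variable {A : Type u} [CommRing A]

theorem unique_minimal_le {p : PrimeSpectrum A} (h : CAlg2.IsGeomUnibranch (Localization.AtPrime p.asIdeal))
    {q q' : Ideal A} (hq : q ∈ minimalPrimes A) (hq' : q' ∈ minimalPrimes A) (hqp : q ≤ p.asIdeal)
    (hqp' : q' ≤ p.asIdeal) : q = q' := by
  let O := Localization.AtPrime p.asIdeal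
  haveI : IsDomain (CAlg2.red O) := h.1.1
  haveI hP : (nilradical O).IsPrime := (Ideal.Quotient.isDomain_iff_prime _).1 inferInstance
  let r := (nilradical O).comap (algebraMap A O)
  have key : ∀ t ∈ minimalPrimes A, t ≤ p.asIdeal → t = r := by
    intro t ht htp
    haveI := ht.1.1
    have hd : Disjoint (p.asIdeal.primeCompl : Set A) t := Set.disjoint_left.2 fun z hz hz' => hz (htp hz')
    haveI := IsLocalization.isPrime_of_isPrime_disjoint p.asIdeal.primeCompl O t ht.1.1 hd
    have hle : r ≤ t := by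
      refine le_trans (Ideal.comap_mono ((nilradical_le_prime (t.map (algebraMap A O))))) ?_
      exact (IsLocalization.under_map_of_isPrime_disjoint p.asIdeal.primeCompl O ht.1.1 hd).le
    exact le_antisymm (ht.2 ⟨Ideal.comap_isPrime _ _, bot_le⟩ hle) hle
  rw [key q hq hqp, key q' hq' hqp']

theorem exists_minimal_le (p : PrimeSpectrum A) : ∃ q ∈ minimalPrimes A, q ≤ p.asIdeal := by
  haveI := p.2
  obtain ⟨q, hq, hle⟩ := Ideal.exists_minimalPrimes_le (I := (⊥ : Ideal A)) (J := p.asIdeal) bot_le
  exact ⟨q, hq, hle⟩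

/-- With a single minimal prime through `p`, the property is that of the component. -/
theorem isGeomUnibranch_iff_component {D : Type u} [CommRing D] (f : A →+* D) (hf : Function.Surjective f)
    (hq : RingHom.ker f ∈ minimalPrimes A) (p : PrimeSpectrum D)
    (huniq : ∀ q ∈ minimalPrimes A, q ≤ p.asIdeal.comap f → q = RingHom.ker f) :
    CAlg2.IsGeomUnibranch (Localization.AtPrime (p.asIdeal.comap f)) ↔
      CAlg2.IsGeomUnibranch (Localization.AtPrime p.asIdeal) := by
  let O := Localization.AtPrime (p.asIdeal.comap f)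
  let g : O →+* Localization.AtPrime p.asIdeal := Localization.localRingHom (p.asIdeal.comap f) p.asIdeal f rfl
  have hg : Function.Surjective g := RingHom.surjectiveOnStalks_of_surjective hf p.asIdeal _
  have hk : ∀ z, g z = 0 → IsNilpotent z := by
    intro z hz
    obtain ⟨a, b, rfl⟩ := IsLocalization.exists_mk'_eq (p.asIdeal.comap f).primeCompl z
    rw [Localization.localRingHom_mk', IsLocalization.mk'_eq_zero_iff] at hz
    obtain ⟨⟨t, ht⟩, hta⟩ := hz
    obtain ⟨t, rfl⟩ := hf t
    rw [← mem_nilradical, nilradical_eq_sInf, Submodule.mem_sInf]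
    intro (P : Ideal O) hP
    haveI : P.IsPrime := hP
    have hPle : P.comap (algebraMap A O) ≤ p.asIdeal.comap f :=
      (Ideal.comap_mono (IsLocalRing.le_maximalIdeal hP.ne_top)).trans_eq
        (IsLocalization.AtPrime.under_maximalIdeal O (p.asIdeal.comap f))
    obtain ⟨q, hqm, hqle⟩ := exists_minimal_le (⟨P.comap (algebraMap A O), Ideal.comap_isPrime _ _⟩ : PrimeSpectrum A)
    obtain rfl := huniq q hqm (hqle.trans hPle)
    have hta' : t * a ∈ RingHom.ker f := by rw [RingHom.mem_ker, map_mul]; exact hta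
    haveI := hq.1.1
    have ha : a ∈ RingHom.ker f := (Ideal.IsPrime.mem_or_mem ‹_› hta').resolve_left fun h => ht
      (show f t ∈ p.asIdeal by rw [RingHom.mem_ker.1 h]; exact zero_mem _)
    have hmem : algebraMap A O a ∈ P := hqle ha
    rw [IsLocalization.mk'_eq_mul_mk'_one]
    exact P.mul_mem_right _ hmem
  refine ⟨H06EGA14.isGeomUnibranch_of_surjective g hg hk, fun h => ?_⟩
  letI := g.toAlgebra
  haveI : Algebra.IsIntegral O (Localization.AtPrime p.asIdeal) :=
    Algebra.isIntegral_def.mpr fun x => by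
      obtain ⟨z, rfl⟩ := hg x
      exact isIntegral_algebraMap
  haveI : ExpChar (IsLocalRing.ResidueField (Localization.AtPrime p.asIdeal))
      (ringExpChar (IsLocalRing.ResidueField (Localization.AtPrime p.asIdeal))) := ringExpChar.of_eq rfl
  exact H05EGA4.UnibranchBaseChange.isGeomUnibranch_of_integral
    (ringExpChar (IsLocalRing.ResidueField (Localization.AtPrime p.asIdeal))) hk h fun t => by
    obtain ⟨d, rfl⟩ := hg t
    refine ⟨0, d, ?_⟩
    rw [pow_zero, pow_one, show algebraMap O (Localization.AtPrime p.asIdeal) d = g d from rfl, sub_self]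
    exact zero_mem _

theorem isConstructible_isGeomUnibranch [IsNoetherianRing A]
    [Module.Finite (CAlg2.red A) (CAlg2.normRed A)] :
    IsConstructible {p : PrimeSpectrum A | CAlg2.IsGeomUnibranch (Localization.AtPrime p.asIdeal)} := by
  classical
  haveI : IsReduced (CAlg2.red A) :=
    (Ideal.isRadical_iff_quotient_reduced _).1 (Ideal.radical_isRadical _)
  have hfin : (minimalPrimes (CAlg2.red A)).Finite := minimalPrimes.finite_of_isNoetherianRing _
  let π : A →+* CAlg2.red A := Ideal.Quotient.mk _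
  have hπ : Function.Surjective π := Ideal.Quotient.mk_surjective
  let f : ∀ q : minimalPrimes (CAlg2.red A), A →+* CAlg2.red A ⧸ q.1 := fun q =>
    (Ideal.Quotient.mk q.1).comp π
  have hker : ∀ q, RingHom.ker (f q) = q.1.comap π := fun q => by
    rw [← RingHom.comap_ker, Ideal.mk_ker]
  have hmin : ∀ t, t ∈ minimalPrimes A ↔ ∃ q : minimalPrimes (CAlg2.red A), t = q.1.comap π := by
    intro t
    have h := Ideal.comap_minimalPrimes_eq_of_surjective (f := π) hπ ⊥
    rw [← RingHom.ker_eq_comap_bot, Ideal.mk_ker] at h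
    have h2 : (nilradical A).minimalPrimes = minimalPrimes A := by
      rw [nilradical, Ideal.radical_minimalPrimes]
      rfl
    rw [← h2, h]
    exact ⟨fun ⟨q, hq, e⟩ => ⟨⟨q, hq⟩, e.symm⟩, fun ⟨q, e⟩ => ⟨q.1, q.2, e.symm⟩⟩
  haveI := hfin.to_subtype
  have hclosed : ∀ q, IsClosed (PrimeSpectrum.zeroLocus (q : minimalPrimes (CAlg2.red A)).1 : Set (PrimeSpectrum (CAlg2.red A))) :=
    fun q => PrimeSpectrum.isClosed_zeroLocus _
  let W : minimalPrimes (CAlg2.red A) → Set (PrimeSpectrum A) := fun q =>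
    PrimeSpectrum.comap (f q) '' {p | CAlg2.IsGeomUnibranch (Localization.AtPrime p.asIdeal)} \
      ⋃ q' : {q' // q' ≠ q}, PrimeSpectrum.zeroLocus (q'.1.1.comap π)
  have heq : {p : PrimeSpectrum A | CAlg2.IsGeomUnibranch (Localization.AtPrime p.asIdeal)} = ⋃ q, W q := by
    ext p
    simp only [Set.mem_iUnion, W, Set.mem_sdiff, Set.mem_image, Set.mem_ofPred_eq]
    constructor
    · intro hp
      obtain ⟨t, ht, htp⟩ := exists_minimal_le p
      obtain ⟨q, rfl⟩ := (hmin t).1 ht
      have hp' : p ∈ Set.range (PrimeSpectrum.comap (f q)) := by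
        rw [range_comap_of_surjective _ (f q) (Ideal.Quotient.mk_surjective.comp hπ), hker]
        exact htp
      obtain ⟨pb, rfl⟩ := hp'
      refine ⟨q, ⟨pb, (isGeomUnibranch_iff_component (f q) (Ideal.Quotient.mk_surjective.comp hπ)
        ((hker q).symm ▸ (hmin _).2 ⟨q, rfl⟩) pb fun t' ht' hle => ?_).1 hp, rfl⟩, ?_⟩
      · rw [hker]
        exact unique_minimal_le hp ht' ht hle htp
      · rintro ⟨⟨q', hne⟩, hq'⟩
        have e := unique_minimal_le hp ((hmin _).2 ⟨q', rfl⟩) ht (PrimeSpectrum.mem_zeroLocus _ _ |>.1 hq') htp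
        exact hne (Subtype.ext (Ideal.comap_injective_of_surjective π hπ e))
    · rintro ⟨q, ⟨pb, hpb, rfl⟩, hno⟩
      refine (isGeomUnibranch_iff_component (f q) (Ideal.Quotient.mk_surjective.comp hπ)
        ((hker q).symm ▸ (hmin _).2 ⟨q, rfl⟩) pb fun t' ht' hle => ?_).2 hpb
      obtain ⟨q', rfl⟩ := (hmin t').1 ht'
      rw [hker]
      by_contra hne
      exact hno ⟨⟨q', fun h => hne (by rw [h])⟩, hle⟩
  rw [heq]
  refine IsConstructible.iUnion fun q => ?_
  haveI : q.1.IsPrime := q.2.1.1
  haveI := finite_integralClosure_quotient (CAlg2.red A) q.1 q.2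
  refine IsConstructible.sdiff ?_ (IsConstructible.iUnion fun q' =>
    H28Top.isConstructible_of_isClosed (PrimeSpectrum.isClosed_zeroLocus _))
  have hfs : Function.Surjective (f q) := Ideal.Quotient.mk_surjective.comp hπ
  refine PrimeSpectrum.isConstructible_comap_image (RingHom.FinitePresentation.of_surjective (f q)
    hfs (IsNoetherian.noetherian _)) ?_
  simp only [isGeomUnibranch_iff_oneBranch]
  exact isConstructible_oneBranch _

end Ring

theorem isLocallyConstructible_isGeomUnibranch (X : Scheme.{u}) [IsLocallyNoetherian X]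
    (hfin : ∀ U : X.affineOpens, Module.Finite (CAlg2.red Γ(X, U.1)) (CAlg2.normRed Γ(X, U.1))) :
    IsLocallyConstructible {x : X | CAlg2.IsGeomUnibranch (X.presheaf.stalk x)} := by
  refine H06EGA9.isLocallyConstructible_of_charts fun x => ?_
  obtain ⟨U, hU, hxU, -⟩ := exists_isAffineOpen_mem_and_subset (U := (⊤ : X.Opens)) (x := x) trivial
  refine ⟨_, hU.fromSpec, inferInstance, hU.range_fromSpec.ge hxU, ?_⟩
  haveI : IsNoetherianRing Γ(X, U) := IsLocallyNoetherian.component_noetherian ⟨U, hU⟩
  haveI := hfin ⟨U, hU⟩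
  convert! isConstructible_isGeomUnibranch (A := Γ(X, U)) using 1
  ext (p : PrimeSpectrum Γ(X, U))
  show CAlg2.IsGeomUnibranch _ ↔ CAlg2.IsGeomUnibranch _
  have hy : hU.fromSpec p ∈ U := hU.range_fromSpec.subset (Set.mem_range_self p)
  have hpy : (hU.primeIdealOf ⟨_, hy⟩).asIdeal = p.asIdeal := congrArg PrimeSpectrum.asIdeal
    (hU.fromSpec.isOpenEmbedding.injective (hU.fromSpec_primeIdealOf _) : hU.primeIdealOf ⟨_, hy⟩ = p)
  letI := X.presheaf.algebra_section_stalk (U := U) ⟨_, hy⟩
  haveI : IsLocalization.AtPrime (X.presheaf.stalk (hU.fromSpec p)) p.asIdeal := by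
    haveI := hU.isLocalization_stalk ⟨_, hy⟩
    convert! this using 1
    rw [hpy]
  let e := (IsLocalization.algEquiv p.asIdeal.primeCompl (X.presheaf.stalk (hU.fromSpec p))
    (Localization.AtPrime p.asIdeal)).toRingEquiv
  exact ⟨H06EGA14.isGeomUnibranch_of_ringEquiv e, H06EGA14.isGeomUnibranch_of_ringEquiv e.symm⟩

end Groth.Agent.H8Norm.UnibranchLocus
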