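import Groth.Agent.H8Norm.AmpleFlatModel
import Groth.Agent.H12Pic.BoundedVanish
import Groth.Agent.H11Ample.RelAmple
import Groth.Agent.H11Ample.UnitIso
import Groth.Agent.H10Inj.FlatTwist

/-!
# Uniform vanishing of the cohomology of ample powers at all field points

For a proper flat morphism of finite presentation over a quasi-compact base and a relatively ample
module there is one bound beyond which all positive cohomology of the powers vanishes at field points.
-/

set_option autoImplicit false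
set_option linter.style.haveILetI false
set_option linter.unusedSectionVars false

universe u

open CategoryTheory CategoryTheory.Limits AlgebraicGeometry TopologicalSpace Opposite

attribute [local instance 10000] Groth.Agent.H10Coh.hasSheafifyAb Groth.Agent.H10Coh.hasWeakSheafifyAb Groth.Agent.H10Coh.hasExtAb Groth.Agent.H10Coh.enoughInjAb
attribute [local instance] Groth.Agent.H10Coh.enoughInjMod

namespace Groth.Agent.H8Norm.UniformFibreVanish

open Groth.Agent.H25Theta (pb pT pC pI tI pO)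

/-- The positive cohomology of the `d`-th power vanishes at every field point. -/
def VanAt {X S : Scheme.{u}} (f : X ⟶ S) (L : X.Modules) (d : ℕ) : Prop :=
  ∀ (K : Type u) [Field K] (t : Spec (CommRingCat.of K) ⟶ S) (Z : Scheme.{u}) (a : Z ⟶ X)
    (p : Z ⟶ Spec (CommRingCat.of K)), IsPullback a p f t → ∀ i : ℕ, 1 ≤ i →
      Subsingleton (Coh.HH Z (CohB1.tensorPow (pb a L) d) i)

theorem exists_bound_noetherian {R : Type u} [CommRing R] [IsNoetherianRing R] {X : Scheme.{u}}
    (f : X ⟶ Spec (CommRingCat.of R)) [IsProper f] (hfl : FlatMod.IsFlatOver f (Coh.structureModule X))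
    (L : X.Modules) (hL : PicF.IsInvertible L) (hA : CohB1.IsAmple L) :
    ∃ n₀ : ℕ, ∀ d : ℕ, n₀ ≤ d → VanAt f L d := by
  haveI : IsNoetherianRing (CommRingCat.of R) := inferInstanceAs (IsNoetherianRing R)
  haveI : AlgebraicGeometry.IsNoetherian (Spec (CommRingCat.of R)) := {}
  haveI : IsLocallyNoetherian X := LocallyOfFiniteType.isLocallyNoetherian f
  have hRA : RelAmple.IsRelAmple f L := (H11Ample.isRelAmple_iff_isAmple_of_isAffine (f := f) (L := L)).2 hA
  obtain ⟨n₀, hn₀⟩ := H10Coh.Tw.exists_isZero_rpush f hL (fun W hW => hRA.2 ⟨W, hW⟩)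
    (Coh.structureModule X) (H10Coh.isCoh_structureModule' X)
  refine ⟨n₀, fun d hd K _ t Z a p hsq i hi => ?_⟩
  letI : Z.Over (Spec (CommRingCat.of K)) := ⟨p⟩
  haveI : IsProper (Z ↘ Spec (CommRingCat.of K)) := MorphismProperty.of_isPullback hsq inferInstance
  let F : X.Modules := CohB1.tensorMod (Coh.structureModule X) (CohB1.tensorPow L d)
  have hFc : Coh.IsCoh F :=
    H11Ample.isCoh_tensor (H10Coh.isCoh_structureModule' X) (H11Ample.isInvertible_tensorPow hL d)
  have hFf : FlatMod.IsFlatOver f F := fun x =>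
    H12Pic.AlgEquivEuler.isFlatOverAt_tensor _ (H11Ample.isInvertible_tensorPow hL d) (hfl x)
  have h0 := H12Pic.BoundedVanish.finrank_fibre_eq_zero f hFc hFf (fun r hr => hn₀ d hd r hr) a t hsq i hi
  haveI : Module.Finite K (Coh.HH Z (pb a F) i) :=
    H10Coh.finite_HH_proper K Z _ (H17.ConsProp.isCoh_pullback a hFc) i
  obtain ⟨e⟩ := H11Ample.exists_iso_pullback_tensorPow a hL d
  have hs : Subsingleton (Coh.HH Z (pb a F) i) := Module.finrank_zero_iff.1 h0
  exact ((LeadBC.HMod K i).mapIso (pT a _ _ ≪≫ tI (pO a) e ≪≫ H11Ample.tensorLeftUnitIso _)).toLinearEquiv.toEquiv.subsingleton_congr.1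
    hs

theorem VanAt.comp {X₀ S₀ X S : Scheme.{u}} {f₀ : X₀ ⟶ S₀} {f : X ⟶ S} {g : X ⟶ X₀} {h : S ⟶ S₀}
    (hsq : IsPullback g f f₀ h) {L₀ : X₀.Modules} {L : X.Modules} (e : pb g L₀ ≅ L) {d : ℕ}
    (hv : VanAt f₀ L₀ d) : VanAt f L d := by
  intro K _ t Z a p hp i hi
  have hh := hv K (t ≫ h) Z (a ≫ g) p (hp.paste_horiz hsq) i hi
  letI : Z.Over (Spec (CommRingCat.of K)) := ⟨p⟩
  exact ((LeadBC.HMod K i).mapIso (H10Coh.Tw.tensorPowIso
    ((pC a g rfl L₀).symm ≪≫ (Scheme.Modules.pullback a).mapIso e) d)).toLinearEquiv.toEquiv.subsingleton_congr.1 hh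

theorem exists_bound_spec {R : Type u} [CommRing R] {X : Scheme.{u}}
    (f : X ⟶ Spec (CommRingCat.of R)) [IsProper f] [Flat f] [LocallyOfFinitePresentation f]
    (L : X.Modules) (hL : PicF.IsInvertible L) (hA : CohB1.IsAmple L) :
    ∃ n₀ : ℕ, ∀ d : ℕ, n₀ ≤ d → VanAt f L d := by
  obtain ⟨R₀, _, _, _, X₀, f₀, L₀, g, h₁, h₂, h₃, h₄, h₅, ⟨e⟩⟩ := AmpleFlatModel.exists_model f L hL hA
  obtain ⟨n₀, hn₀⟩ := exists_bound_noetherian f₀ h₂ L₀ h₃ h₄
  exact ⟨n₀, fun d hd => (hn₀ d hd).comp h₅ e⟩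

/-- Uniform vanishing over a quasi-compact base. -/
theorem exists_bound {X S : Scheme.{u}} (f : X ⟶ S) [IsProper f] [Flat f] [LocallyOfFinitePresentation f]
    [CompactSpace S] (L : X.Modules) (hL : RelAmple.IsRelAmple f L) :
    ∃ n₀ : ℕ, ∀ d : ℕ, n₀ ≤ d → VanAt f L d := by
  classical
  have hLi := H11Ample.isInvertible_of_isRelAmple hL
  have key : ∀ V : S.affineOpens, ∃ n₀ : ℕ, ∀ d : ℕ, n₀ ≤ d →
      VanAt (pullback.snd f V.2.fromSpec) (pb (pullback.fst f V.2.fromSpec) L) d := by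
    intro V
    refine exists_bound_spec _ _ (H11Ample.isInvertible_pullback _ hLi) ?_
    haveI := V.2.isOpenImmersion_fromSpec
    let a := pullback.fst f V.2.fromSpec
    have hr : Set.range a ⊆ Set.range (f ⁻¹ᵁ V.1).ι := by
      rw [Scheme.Pullback.range_fst, V.2.range_fromSpec, Scheme.Opens.range_ι]
      exact subset_rfl
    have hr' : Set.range (f ⁻¹ᵁ V.1).ι ⊆ Set.range a := by
      rw [Scheme.Pullback.range_fst, V.2.range_fromSpec, Scheme.Opens.range_ι]
      exact subset_rfl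
    let e : pullback f V.2.fromSpec ≅ (f ⁻¹ᵁ V.1).toScheme :=
      IsOpenImmersion.isoOfRangeEq a (f ⁻¹ᵁ V.1).ι (subset_antisymm hr hr')
    refine H11Ample.isAmple_of_iso ?_ (H11Ample.isAmple_pullback_of_isAffineHom e.hom (hL.2 V))
    exact (Scheme.Modules.pullback e.hom).mapIso ((Scheme.Modules.restrictFunctorIsoPullback _).app L) ≪≫
      pC e.hom (f ⁻¹ᵁ V.1).ι (IsOpenImmersion.isoOfRangeEq_hom_fac _ _ _) L
  choose n hn using key
  obtain ⟨T, hT⟩ := isCompact_univ.elim_finite_subcover (fun U : S.affineOpens => (U.1 : Set S))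
    (fun U => U.1.2) (fun x _ => by
      obtain ⟨V, hV, hx, -⟩ := exists_isAffineOpen_mem_and_subset (U := (⊤ : S.Opens)) (x := x) trivial
      exact Set.mem_iUnion.mpr ⟨⟨V, hV⟩, hx⟩)
  refine ⟨T.sup n, fun d hd K _ t Z a p hp i hi => ?_⟩
  obtain ⟨V, hVT, hV⟩ := Set.mem_iUnion₂.1 (hT (Set.mem_univ (t (IsLocalRing.closedPoint K))))
  haveI := V.2.isOpenImmersion_fromSpec
  have hr : Set.range t ⊆ Set.range V.2.fromSpec := by
    rintro _ ⟨s, rfl⟩
    rw [V.2.range_fromSpec, Subsingleton.elim (α := PrimeSpectrum K) s (IsLocalRing.closedPoint K)]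
    exact hV
  let t' := IsOpenImmersion.lift V.2.fromSpec t hr
  have ht' : t' ≫ V.2.fromSpec = t := IsOpenImmersion.lift_fac _ _ _
  let a' : Z ⟶ pullback f V.2.fromSpec := pullback.lift a (p ≫ t') (by rw [hp.w, Category.assoc, ht'])
  have hsq : IsPullback a' p (pullback.snd f V.2.fromSpec) t' := by
    refine IsPullback.of_right ?_ (pullback.lift_snd _ _ _) (IsPullback.of_hasPullback f V.2.fromSpec)
    rw [pullback.lift_fst, ht']
    exact hp
  have hh := hn V d ((Finset.le_sup hVT).trans hd) K t' Z a' p hsq i hi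
  letI : Z.Over (Spec (CommRingCat.of K)) := ⟨p⟩
  exact ((LeadBC.HMod K i).mapIso (H10Coh.Tw.tensorPowIso
    (pC a' (pullback.fst f V.2.fromSpec) (pullback.lift_fst _ _ _) L) d)).toLinearEquiv.toEquiv.subsingleton_congr.1 hh

theorem subsingleton_sections {X : Scheme.{u}} (M : X.Modules) (U : X.Opens) (hz : IsZero (M.restrict U.ι)) :
    Subsingleton Γ(M, U) := by
  have hU : Subsingleton Γ(M, U.ι ''ᵁ ⊤) := subsingleton_of_forall_eq 0 fun z =>
    ConcreteCategory.congr_hom (congrArg (fun φ => Scheme.Modules.Hom.app φ (⊤ : U.toScheme.Opens)) (hz.eq_of_src (𝟙 _) 0)) z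
  rwa [Scheme.Opens.ι_image_top] at hU

end Groth.Agent.H8Norm.UniformFibreVanish
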