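import Groth.Agent.H7Flat.Flatten.Main
import Groth.Agent.H7Flat.Flatten.ConstRank
import Groth.Agent.H7Flat.GenericFreeness
import Mathlib

/-!
# Flattening strict transforms along a valuation ring
-/

set_option autoImplicit false
set_option linter.style.haveILetI false
set_option backward.isDefEq.respectTransparency false
set_option maxHeartbeats 1000000

universe u

open TensorProduct

namespace Groth.Agent.H8Norm.ValBlowup

open H7Flat H7Flat.Flatten

theorem exists_goodAway (R P N : Type u) [CommRing R] [IsDomain R] [CommRing P] [Algebra R P]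
    [Algebra.FiniteType R P] [AddCommGroup N] [Module P N] [Module R N] [IsScalarTower R P N] [Module.Finite P N] :
    ∃ f : R, f ≠ 0 ∧ GoodAway R P N f := by
  obtain ⟨f₁, hf₁, h₁⟩ := exists_finitePresentation_module (R := R) P N
  obtain ⟨f, hf, hdvd, h₂⟩ := exists_free_baseChange (R := R) P N f₁ hf₁
  refine ⟨f, hf, h₁ f hdvd, ?_⟩
  haveI := h₂ f dvd_rfl
  let g := (LocalizedModule.mkLinearMap (Submonoid.powers (algebraMap R P f)) N).restrictScalars R
  haveI : IsLocalizedModule (Submonoid.powers f) g := IsLocalizedModule.restrictScalars_powers f _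
  haveI : Module.Flat R (Localization.Away f) := IsLocalization.flat _ (Submonoid.powers f)
  haveI : Module.Flat R (Localization.Away f ⊗[R] N) :=
    Module.Flat.trans R (Localization.Away f) _
  haveI : IsLocalizedModule (Submonoid.powers f) (TensorProduct.mk R (Localization.Away f) N 1) :=
    (isLocalizedModule_iff_isBaseChange (Submonoid.powers f) (Localization.Away f) _).mpr
      (TensorProduct.isBaseChange R N (Localization.Away f))
  exact Module.Flat.of_linearEquiv
    (IsLocalizedModule.linearEquiv (Submonoid.powers f) g (TensorProduct.mk R (Localization.Away f) N 1))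

theorem tfGood_retract {A B X Y : Type u} [CommRing A] [CommRing B] [Algebra A B]
    [AddCommGroup X] [Module B X] [Module A X] [IsScalarTower A B X]
    [AddCommGroup Y] [Module B Y] [Module A Y] [IsScalarTower A B Y] {t : A}
    (i : X →ₗ[B] Y) (r : Y →ₗ[B] X) (h : r ∘ₗ i = LinearMap.id) (hY : TFGood B t Y) : TFGood B t X := by
  have hmapi : tors B t X ≤ (tors B t Y).comap i := fun x hx => by
    obtain ⟨n, hn⟩ := mem_tors_iff.mp hx
    exact mem_tors_iff.mpr ⟨n, by rw [← LinearMap.map_smul_of_tower, hn, map_zero]⟩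
  have hmapr : tors B t Y ≤ (tors B t X).comap r := fun x hx => by
    obtain ⟨n, hn⟩ := mem_tors_iff.mp hx
    exact mem_tors_iff.mpr ⟨n, by rw [← LinearMap.map_smul_of_tower, hn, map_zero]⟩
  let i' := (tors B t X).mapQ _ i hmapi
  let r' := (tors B t Y).mapQ _ r hmapr
  have h' : r' ∘ₗ i' = LinearMap.id := by
    refine Submodule.linearMap_qext _ (LinearMap.ext fun x => ?_)
    simp only [i', r', LinearMap.comp_apply, Submodule.mkQ_apply, Submodule.mapQ_apply, LinearMap.id_apply]
    rw [show r (i x) = x from LinearMap.congr_fun h x]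
  haveI := hY.1
  haveI := hY.2
  refine ⟨Module.Flat.of_retract (i'.restrictScalars A) (r'.restrictScalars A)
    (LinearMap.ext fun x => LinearMap.congr_fun h' x), ?_⟩
  have hr : Function.Surjective r' := fun x => ⟨i' x, LinearMap.congr_fun h' x⟩
  have hker : LinearMap.ker r' = LinearMap.range (LinearMap.id - i' ∘ₗ r') := by
    refine le_antisymm (fun y hy => ⟨y, by simp [LinearMap.mem_ker.mp hy]⟩) ?_
    rintro _ ⟨y, rfl⟩
    refine LinearMap.mem_ker.mpr ?_
    simp only [LinearMap.sub_apply, LinearMap.id_apply, map_sub, LinearMap.comp_apply]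
    rw [show r' (i' (r' y)) = r' y from LinearMap.congr_fun h' (r' y), sub_self]
  exact Module.finitePresentation_of_surjective r' hr (hker ▸ (LinearMap.range_eq_map (LinearMap.id - i' ∘ₗ r')) ▸
    Submodule.FG.map _ Module.Finite.fg_top)

theorem flattening_retract {R S N N₁ : Type u} [CommRing R] [CommRing S] [Algebra R S]
    [AddCommGroup N] [Module S N] [AddCommGroup N₁] [Module S N₁] {I : Ideal R}
    (i : N₁ →ₗ[S] N) (r : N →ₗ[S] N₁) (h : r ∘ₗ i = LinearMap.id) (hN : Flattening R S N I) :
    Flattening R S N₁ I := by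
  intro A _ _ t ht hI B M _ _ _ _ _ _ _ _ _ _ _ _ _ φ hφ
  have hY : TFGood B t (B ⊗[S] N) := hN A t ht hI B (B ⊗[S] N) (TensorProduct.mk S B N 1)
    (TensorProduct.isBaseChange S N B)
  refine tfGood_retract (i.baseChange B ∘ₗ hφ.equiv.symm.toLinearMap)
    (hφ.equiv.toLinearMap ∘ₗ r.baseChange B) (LinearMap.ext fun m => ?_) hY
  simp only [LinearMap.comp_apply, LinearEquiv.coe_coe, LinearMap.id_apply]
  rw [← LinearMap.comp_apply (r.baseChange B), ← LinearMap.baseChange_comp, h, LinearMap.baseChange_id]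
  exact hφ.equiv.apply_symm_apply m

/-- The torsion does not depend on the nonzerodivisor once the strict transform is flat. -/
theorem tors_mul_left {A B X : Type u} [CommRing A] [CommRing B] [Algebra A B]
    [AddCommGroup X] [Module B X] [Module A X] [IsScalarTower A B X] {t c : A}
    (hct : c * t ∈ nonZeroDivisors A) (hflat : Module.Flat A (X ⧸ tors B t X)) :
    tors B (c * t) X = tors B t X := by
  haveI := hflat
  refine (tors_eq_ker hct (tors B t X).mkQ ?_).trans (Submodule.ker_mkQ _)
  rw [Submodule.ker_mkQ]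
  intro x hx
  obtain ⟨n, hn⟩ := mem_tors_iff.mp hx
  exact mem_tors_iff.mpr ⟨n, by rw [mul_pow, mul_smul, hn, smul_zero]⟩

/-- Flatness of the strict transform read over the base alone. -/
theorem flat_quot_powTorsion {A B X X' : Type u} [CommRing A] [CommRing B] [Algebra A B]
    [AddCommGroup X] [Module B X] [Module A X] [IsScalarTower A B X]
    [AddCommGroup X'] [Module A X'] (e : X ≃ₗ[A] X') {t : A} (ht : t ∈ nonZeroDivisors A)
    (hflat : Module.Flat A (X ⧸ tors B t X)) :
    Module.Flat A (X' ⧸ FlatCA.powTorsion A t X') := by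
  haveI := hflat
  let π : X' →ₗ[A] X ⧸ tors B t X := (tors B t X).mkQ.restrictScalars A ∘ₗ e.symm.toLinearMap
  have hker : LinearMap.ker π ≤ tors A t X' := fun x hx => by
    obtain ⟨n, hn⟩ := mem_tors_iff.mp ((Submodule.Quotient.mk_eq_zero _).mp (LinearMap.mem_ker.mp hx))
    exact mem_tors_iff.mpr ⟨n, e.symm.injective (by rw [map_smul, map_zero]; exact hn)⟩
  have := (Submodule.quotEquivOfEq _ _ (tors_eq_ker ht π hker)).trans
    (π.quotKerEquivOfSurjective ((Submodule.mkQ_surjective _).comp e.symm.surjective))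
  exact Module.Flat.of_linearEquiv this

theorem strictTransform_algebra {R R₁ P S : Type u} [CommRing R] [CommRing R₁] [Algebra R R₁]
    [CommRing P] [Algebra R P] [Algebra.FinitePresentation R P] [CommRing S] [Algebra R S]
    [Algebra P S] [IsScalarTower R P S] (hπ : Function.Surjective (algebraMap P S)) {I : Ideal R}
    (hfl : Flattening R P S I) (t c : R₁) (a : R) (ha : algebraMap R R₁ a = c * t)
    (hct : c * t ∈ nonZeroDivisors R₁) (hI : I.map (algebraMap R R₁) = Ideal.span {t}) :
    Module.Flat R₁ ((R₁ ⊗[R] S) ⧸ FlatCA.powTorsion (R₁ ⊗[R] S) (algebraMap R (R₁ ⊗[R] S) a) (R₁ ⊗[R] S)) ∧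
    Algebra.FinitePresentation R₁
      ((R₁ ⊗[R] S) ⧸ FlatCA.powTorsion (R₁ ⊗[R] S) (algebraMap R (R₁ ⊗[R] S) a) (R₁ ⊗[R] S)) := by
  let S₁ := R₁ ⊗[R] S
  let B := R₁ ⊗[R] P
  letI : Algebra P B := Algebra.TensorProduct.rightAlgebra
  let π : P →ₐ[R] S := IsScalarTower.toAlgHom R P S
  let πB : B →ₐ[R₁] S₁ := Algebra.TensorProduct.map (AlgHom.id R₁ R₁) π
  have hπB : Function.Surjective πB := LinearMap.lTensor_surjective R₁ (g := π.toLinearMap) hπ
  letI : Algebra B S₁ := πB.toAlgebra
  haveI : IsScalarTower R₁ B S₁ := IsScalarTower.of_algebraMap_eq fun r => (πB.commutes r).symm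
  letI : Algebra P S₁ := ((algebraMap B S₁).comp (algebraMap P B)).toAlgebra
  haveI : IsScalarTower P B S₁ := IsScalarTower.of_algebraMap_eq fun _ => rfl
  letI : Algebra S S₁ := Algebra.TensorProduct.rightAlgebra
  haveI : IsScalarTower P S S₁ := IsScalarTower.of_algebraMap_eq fun p => by
    show πB ((1 : R₁) ⊗ₜ[R] p) = (1 : R₁) ⊗ₜ[R] π p
    rfl
  haveI : IsScalarTower R P S₁ := IsScalarTower.of_algebraMap_eq fun r => by
    rw [IsScalarTower.algebraMap_apply P S S₁, ← IsScalarTower.algebraMap_apply R P S]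
    exact (Algebra.TensorProduct.includeRight : S →ₐ[R] S₁).commutes r |>.symm
  haveI : IsScalarTower R B S₁ := IsScalarTower.of_algebraMap_eq fun r => by
    rw [IsScalarTower.algebraMap_apply R R₁ B, ← IsScalarTower.algebraMap_apply R₁ B S₁,
      ← IsScalarTower.algebraMap_apply R R₁ S₁]
  haveI : Algebra.IsPushout R R₁ P B := inferInstance
  haveI : Algebra.IsPushout R P R₁ B := Algebra.IsPushout.symm inferInstance
  haveI : Algebra.IsPushout R R₁ S S₁ := inferInstance
  have hbc : IsBaseChange B (IsScalarTower.toAlgHom P S S₁).toLinearMap := by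
    have h1 : Algebra.IsPushout R S R₁ S₁ := Algebra.IsPushout.symm inferInstance
    exact ((Algebra.IsPushout.comp_iff (R := R) (S := P) (R' := R₁) (S' := B) (T := S) (T' := S₁)).mp h1).symm.out
  have hS : TFGood B t S₁ := hfl R₁ t (mul_mem_nonZeroDivisors.mp hct).2 hI B S₁ _ hbc
  haveI := hS.1
  haveI := hS.2
  let K := FlatCA.powTorsion S₁ (algebraMap R S₁ a) S₁
  have hK : K.restrictScalars B = tors B t S₁ := by
    rw [← tors_mul_left hct hS.1]
    ext x
    show x ∈ K ↔ _
    rw [mem_tors_iff, mem_tors_iff]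
    refine exists_congr fun n => ?_
    rw [← ha, ← map_pow, algebraMap_smul]
  let e : (S₁ ⧸ tors B t S₁) ≃ₗ[B] S₁ ⧸ K :=
    Submodule.quotEquivOfEq _ _ hK.symm ≪≫ₗ Submodule.Quotient.restrictScalarsEquiv B K
  refine ⟨Module.Flat.of_linearEquiv (e.restrictScalars R₁).symm, ?_⟩
  haveI : Module.FinitePresentation B (S₁ ⧸ K) := Module.FinitePresentation.of_equiv e
  let KI : Ideal S₁ := K
  let ψ : B →ₐ[R₁] S₁ ⧸ KI := (Ideal.Quotient.mkₐ R₁ KI).comp πB
  have hψ : Function.Surjective ψ := (Ideal.Quotient.mkₐ_surjective R₁ KI).comp hπB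
  let l : B →ₗ[B] S₁ ⧸ K := LinearMap.toSpanSingleton B _ (Submodule.Quotient.mk 1)
  have hl : ∀ b, l b = Submodule.Quotient.mk (πB b) := fun b => by
    show b • (Submodule.Quotient.mk (1 : S₁) : S₁ ⧸ K) = _
    rw [← Submodule.Quotient.mk_smul, Algebra.smul_def, mul_one]
    rfl
  have hlsurj : Function.Surjective l := fun x => by
    obtain ⟨b, hb⟩ := hψ x
    exact ⟨b, (hl b).trans hb⟩
  have hfg := Module.FinitePresentation.fg_ker l hlsurj
  refine Algebra.FinitePresentation.of_surjective (f := ψ) hψ ?_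
  have hk : RingHom.ker ψ.toRingHom = LinearMap.ker l := by
    ext b
    rw [RingHom.mem_ker, LinearMap.mem_ker, hl b]
    rfl
  rw [hk]
  exact hfg

theorem strictTransform_module {R R₁ P M : Type u} [CommRing R] [CommRing R₁] [Algebra R R₁]
    [CommRing P] [Algebra R P] [AddCommGroup M] [Module P M] [Module R M] [IsScalarTower R P M] {I : Ideal R}
    (hfl : Flattening R P M I) (t c : R₁) (a : R) (ha : algebraMap R R₁ a = c * t)
    (hct : c * t ∈ nonZeroDivisors R₁) (hI : I.map (algebraMap R R₁) = Ideal.span {t}) :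
    Module.Flat R₁ ((R₁ ⊗[R] M) ⧸ FlatCA.powTorsion R₁ (algebraMap R R₁ a) (R₁ ⊗[R] M)) := by
  let B := R₁ ⊗[R] P
  letI : Algebra P B := Algebra.TensorProduct.rightAlgebra
  haveI : Algebra.IsPushout R R₁ P B := inferInstance
  have hM : TFGood B t (B ⊗[P] M) := hfl R₁ t (mul_mem_nonZeroDivisors.mp hct).2 hI B (B ⊗[P] M)
    (TensorProduct.mk P B M 1) (TensorProduct.isBaseChange P M B)
  rw [ha]
  refine flat_quot_powTorsion (B := B) (Algebra.IsPushout.cancelBaseChange R R₁ P B M) hct ?_
  haveI := hM.1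
  exact Module.Flat.of_linearEquiv
    ((Submodule.quotEquivOfEq _ _ (tors_mul_left hct hM.1)).restrictScalars R₁)

/-- A finite set has an element dividing all others in a valuation ring. -/
theorem exists_dvd_all {R A : Type u} [CommRing R] [CommRing A] [IsDomain A] [ValuationRing A] [Algebra R A]
    {s : Finset R} (hs : s.Nonempty) : ∃ g ∈ s, ∀ x ∈ s, algebraMap R A g ∣ algebraMap R A x := by
  induction hs using Finset.Nonempty.cons_induction with
  | singleton x => exact ⟨x, Finset.mem_singleton_self x, fun y hy => (Finset.mem_singleton.mp hy) ▸ dvd_rfl⟩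
  | cons x s hx hs ih =>
    obtain ⟨g, hg, h⟩ := ih
    rcases ValuationRing.dvd_total (algebraMap R A x) (algebraMap R A g) with h' | h'
    · refine ⟨x, Finset.mem_cons_self x s, fun y hy => ?_⟩
      rcases Finset.mem_cons.mp hy with rfl | hy
      · exact dvd_rfl
      · exact h'.trans (h y hy)
    · refine ⟨g, Finset.mem_cons.mpr (Or.inr hg), fun y hy => ?_⟩
      rcases Finset.mem_cons.mp hy with rfl | hy
      · exact h'
      · exact h y hy

theorem exists_blowup_flattening (R K : Type u) [CommRing R] [IsDomain R] [IsLocalRing R] [Field K]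
    [Algebra R K] [IsFractionRing R K] (S : Type u) [CommRing S] [Algebra R S] [Algebra.FiniteType R S] (M : Type u)
    [AddCommGroup M] [Module S M] [Module R M] [IsScalarTower R S M] [Module.Finite S M]
    (A : Type u) [CommRing A] [IsDomain A] [ValuationRing A] [Algebra A K] [IsFractionRing A K] [Algebra R A]
    [IsScalarTower R A K] [IsLocalHom (algebraMap R A)] (hm : IsLocalRing.maximalIdeal R ≠ ⊥) :
    ∃ (I : Ideal R) (a : R), I.FG ∧ I ≤ IsLocalRing.maximalIdeal R ∧ a ∈ I ∧ a ≠ 0 ∧
      (∀ x ∈ I, ∃ y : A, algebraMap A K y * algebraMap R K a = algebraMap R K x) ∧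
      ∀ (R₁ : Type u) [CommRing R₁] [Algebra R R₁] (e : R₁ ≃ₐ[R] ↥(BlowUp.affineAlgebra R I a)),
        (IsLocalRing.maximalIdeal R).map (algebraMap R R₁) ≠ ⊤ ∧
        Module.Flat R₁ ((R₁ ⊗[R] S) ⧸ FlatCA.powTorsion (R₁ ⊗[R] S) (algebraMap R (R₁ ⊗[R] S) a) (R₁ ⊗[R] S)) ∧
        Algebra.FinitePresentation R₁
          ((R₁ ⊗[R] S) ⧸ FlatCA.powTorsion (R₁ ⊗[R] S) (algebraMap R (R₁ ⊗[R] S) a) (R₁ ⊗[R] S)) ∧
        Module.Flat R₁ ((R₁ ⊗[R] M) ⧸ FlatCA.powTorsion R₁ (algebraMap R R₁ a) (R₁ ⊗[R] M)) := by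
  classical
  obtain ⟨n, π, hπ⟩ := Algebra.FiniteType.iff_quotient_mvPolynomial''.mp ‹Algebra.FiniteType R S›
  let P := MvPolynomial (Fin n) R
  letI : Algebra P S := π.toRingHom.toAlgebra
  haveI : IsScalarTower R P S := IsScalarTower.of_algebraMap_eq fun r => (π.commutes r).symm
  letI : Module P M := Module.compHom M π.toRingHom
  haveI : IsScalarTower P S M := IsScalarTower.of_algebraMap_smul fun _ _ => rfl
  haveI : IsScalarTower R P M := IsScalarTower.of_algebraMap_smul fun r m => by
    show π (algebraMap R P r) • m = r • m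
    rw [π.commutes, algebraMap_smul]
  haveI : Module.Finite P S := Module.Finite.of_surjective (Algebra.linearMap P S) hπ
  haveI : Module.Finite P M := Module.Finite.trans S M
  obtain ⟨f, hf, hgood⟩ := exists_goodAway R P (S × M)
  obtain ⟨J, ⟨hJfg, hJrad⟩, hfl⟩ := exists_flattening (R := R) (S := P) (N := S × M) {f}
    (fun j hj => by rw [Finset.mem_singleton] at hj; exact hj ▸ hgood)
  obtain ⟨k, hk⟩ := hJrad (Ideal.subset_span (Finset.mem_coe.mpr (Finset.mem_singleton_self f)))
  obtain ⟨s, hs⟩ := hJfg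
  have hne : s.Nonempty := by
    rcases s.eq_empty_or_nonempty with rfl | h
    · rw [← hs, Finset.coe_empty, Ideal.span_empty, Ideal.mem_bot] at hk
      exact absurd (pow_eq_zero_iff'.mp hk).1 hf
    · exact h
  obtain ⟨g, hgs, hdvd⟩ := exists_dvd_all (A := A) hne
  have hRA : Function.Injective (algebraMap R A) := by
    have h := IsFractionRing.injective R K
    rw [IsScalarTower.algebraMap_eq R A K] at h
    exact Function.Injective.of_comp h
  have hg0 : g ≠ 0 := by
    rintro rfl
    have hz : ∀ x ∈ s, x = 0 := fun x hx => hRA (by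
      rw [map_zero]; exact zero_dvd_iff.mp (map_zero (algebraMap R A) ▸ hdvd x hx))
    have hb : Ideal.span (s : Set R) = ⊥ := Ideal.span_eq_bot.mpr hz
    rw [← hs, hb, Ideal.mem_bot] at hk
    exact hf (pow_eq_zero_iff'.mp hk).1
  have hJA : J.map (algebraMap R A) = Ideal.span {algebraMap R A g} := by
    rw [← hs, Ideal.map_span]
    refine le_antisymm (Ideal.span_le.mpr ?_)
      (Ideal.span_le.mpr (Set.singleton_subset_iff.mpr (Ideal.subset_span ⟨g, hgs, rfl⟩)))
    rintro _ ⟨x, hx, rfl⟩
    exact Ideal.mem_span_singleton.mpr (hdvd x hx)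
  obtain ⟨c, hcm, hc0⟩ := Submodule.exists_mem_ne_zero_of_ne_bot hm
  let I := Ideal.span {c} * J
  have haI : c * g ∈ I :=
    Ideal.mul_mem_mul (Ideal.mem_span_singleton_self c) (hs ▸ Ideal.subset_span hgs)
  have hIA : I.map (algebraMap R A) = Ideal.span {algebraMap R A (c * g)} := by
    rw [Ideal.map_mul, hJA, Ideal.map_span, Set.image_singleton, Ideal.span_singleton_mul_span_singleton, map_mul]
  have ha0 : c * g ≠ 0 := mul_ne_zero hc0 hg0
  refine ⟨I, c * g, (Submodule.fg_span_singleton c).mul ⟨s, hs⟩,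
    Ideal.mul_le_left.trans (Ideal.span_le.mpr (Set.singleton_subset_iff.mpr hcm)), haI, ha0,
    fun x hx => ?_, fun R₁ _ _ e => ?_⟩
  · obtain ⟨y, hy⟩ := Ideal.mem_span_singleton'.mp (hIA ▸ Ideal.mem_map_of_mem (algebraMap R A) hx)
    exact ⟨y, by rw [IsScalarTower.algebraMap_apply R A K, ← map_mul, hy, ← IsScalarTower.algebraMap_apply]⟩
  have hA : algebraMap R A (c * g) ∈ nonZeroDivisors A :=
    mem_nonZeroDivisors_of_ne_zero fun h => ha0 (hRA (h.trans (map_zero _).symm))
  obtain ⟨φ⟩ := exists_algHom_affineAlgebra I (c * g) hA hIA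
  have hne' : (IsLocalRing.maximalIdeal R).map (algebraMap R R₁) ≠ ⊤ := fun htop => by
    have h1 : (IsLocalRing.maximalIdeal R).map (algebraMap R A) = ⊤ := by
      rw [← (φ.comp e.toAlgHom).comp_algebraMap, ← Ideal.map_map, htop, Ideal.map_top]
    have hle : (IsLocalRing.maximalIdeal R).map (algebraMap R A) ≤ IsLocalRing.maximalIdeal A :=
      Ideal.map_le_iff_le_comap.mpr fun x hx hu => hx (IsLocalHom.map_nonunit x hu)
    exact (IsLocalRing.maximalIdeal.isMaximal A).ne_top (top_le_iff.mp (h1 ▸ hle))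
  haveI : IsDomain (Localization.Away (c * g)) :=
    IsLocalization.isDomain_localization (powers_le_nonZeroDivisors_of_noZeroDivisors ha0)
  haveI : IsDomain R₁ := MulEquiv.isDomain ↥(BlowUp.affineAlgebra R I (c * g)) e.toMulEquiv
  have hinj : Function.Injective (algebraMap R R₁) := fun x y hxy => by
    have h := congrArg (fun z => ((e z : ↥(BlowUp.affineAlgebra R I (c * g))) : Localization.Away (c * g))) hxy
    simp only [AlgEquiv.commutes] at h
    exact IsLocalization.injective _ (powers_le_nonZeroDivisors_of_noZeroDivisors ha0) h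
  have hct : algebraMap R R₁ c * algebraMap R R₁ g ∈ nonZeroDivisors R₁ :=
    mem_nonZeroDivisors_of_ne_zero fun h => ha0 (hinj (by rw [map_mul, map_zero, h]))
  have hJ : J.map (algebraMap R R₁) = Ideal.span {algebraMap R R₁ g} := by
    have h2 : I.map (algebraMap R R₁) = Ideal.span {algebraMap R R₁ (c * g)} := by
      rw [← e.symm.toAlgHom.comp_algebraMap, ← Ideal.map_map, affineAlgebra_map I (c * g) haI, Ideal.map_span,
        Set.image_singleton]
      rfl
    rw [Ideal.map_mul, Ideal.map_span, Set.image_singleton, map_mul,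
      ← Ideal.span_singleton_mul_span_singleton] at h2
    exact (Ideal.span_singleton_mul_right_inj fun h => hc0 (hinj (h.trans (map_zero _).symm))).mp h2
  obtain ⟨h1, h2⟩ := strictTransform_algebra hπ
    (flattening_retract (LinearMap.inl P S M) (LinearMap.fst P S M) (LinearMap.fst_comp_inl P S M) hfl)
    (algebraMap R R₁ g) (algebraMap R R₁ c) (c * g) (map_mul _ _ _) hct hJ
  exact ⟨hne', h1, h2, strictTransform_module
    (flattening_retract (LinearMap.inr P S M) (LinearMap.snd P S M) (LinearMap.snd_comp_inr P S M) hfl)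
    (algebraMap R R₁ g) (algebraMap R R₁ c) (c * g) (map_mul _ _ _) hct hJ⟩

end Groth.Agent.H8Norm.ValBlowup
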